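import Groth.Agent.PBC50.Topo
import Groth.Agent.LimMor.FinInt
import Mathlib.AlgebraicGeometry.AffineTransitionLimit

/-!
# From finite to integral morphisms: connectedness of closed parts of closures of points
-/

set_option autoImplicit false

set_option linter.style.haveILetI false

universe u

open CategoryTheory CategoryTheory.Limits AlgebraicGeometry TopologicalSpace Topology Opposite

namespace Groth.Agent.PBC50

set_option backward.isDefEq.respectTransparency.types false

/-- Two points of a limit with affine transition morphisms with the same images at all stages are equal. -/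
theorem eq_of_π_eq {I : Type u} [Category.{u} I] [IsCofiltered I] {D : I ⥤ Scheme.{u}}
    [∀ {i j} (f : i ⟶ j), IsAffineHom (D.map f)] {c : Cone D} (hc : IsLimit c) {a b : c.pt}
    (h : ∀ i, c.π.app i a = c.π.app i b) : a = b := by
  have key : ∀ U : c.pt.Opens, IsAffineOpen U → (a ∈ U ↔ b ∈ U) := by
    intro U hU
    obtain ⟨i, V, -, rfl⟩ := exists_preimage_eq D c hc U hU.isCompact
    show c.π.app i a ∈ V ↔ c.π.app i b ∈ V
    rw [h i]
  refine Inseparable.eq (inseparable_iff_forall_isOpen.2 fun W hW => ⟨fun ha => ?_, fun hb => ?_⟩)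
  · obtain ⟨U, hU, haU, hUW⟩ := exists_isAffineOpen_mem_and_subset (U := ⟨W, hW⟩) (x := a) ha
    exact hUW ((key U hU).1 haU)
  · obtain ⟨U, hU, hbU, hUW⟩ := exists_isAffineOpen_mem_and_subset (U := ⟨W, hW⟩) (x := b) hb
    exact hUW ((key U hU).2 hbU)

/-- If `Z` meets all closures of points in connected sets on every scheme finite over `X`, the same holds
on every scheme integral over `X`. -/
theorem connIn_of_isIntegralHom {X : Scheme.{u}} [CompactSpace X] [QuasiSeparatedSpace X] {Z : Set X}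
    (hZ : IsClosed Z) (h : ∀ (X' : Scheme.{u}) (π : X' ⟶ X) [IsFinite π], ConnIn (π ⁻¹' Z))
    {T : Scheme.{u}} (π : T ⟶ X) [IsIntegralHom π] : ConnIn (π ⁻¹' Z) := by
  obtain ⟨T₀, s, hT₀, hs⟩ := LimMor.exists_affine_toFTZ X
  haveI := hs
  haveI := hT₀.isNoetherian
  obtain ⟨hlim⟩ := LimMor.nonempty_isLimit_finCone π s
  have hq : (π ≫ s) ≫ 𝟙 T₀ = π ≫ s := Category.comp_id _
  haveI := LimMor.pair_directed (f := π) (s := s) hq
  haveI := LimMor.pair_nonempty (f := π) (s := s) hq
  haveI := LimMor.finPair_directed (f := π) (s := s)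
  haveI : Nonempty (LimMor.FinPair π s) :=
    ⟨(LimMor.exists_finPair_ge (Classical.arbitrary (LimMor.Pair π s (π ≫ s) (𝟙 T₀)))
      (Classical.arbitrary _)).choose⟩
  let J := (LimMor.FinPair π s)ᵒᵖ
  haveI : IsCofiltered J := inferInstance
  let D : J ⥤ Scheme.{u} := LimMor.finSys π s ⋙ Over.forget X
  haveI hfin : ∀ i : J, IsFinite ((LimMor.finSys π s).obj i).hom := fun i => i.unop.fin
  haveI : ∀ {i j : J} (f : i ⟶ j), IsAffineHom (D.map f) := fun {i j} f => by
    haveI : IsAffineHom (((LimMor.finSys π s).map f).left ≫ ((LimMor.finSys π s).obj j).hom) := by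
      rw [Over.w]; infer_instance
    exact IsAffineHom.of_comp ((LimMor.finSys π s).map f).left ((LimMor.finSys π s).obj j).hom
  let c : Cone D := (Over.forget X).mapCone (LimMor.finCone π s)
  have hc : IsLimit c := isLimitOfPreserves (Over.forget X) hlim
  let q : ∀ i : J, T ⟶ D.obj i := fun i => c.π.app i
  let sm : ∀ i : J, D.obj i ⟶ X := fun i => ((LimMor.finSys π s).obj i).hom
  haveI : ∀ i, IsFinite (sm i) := hfin
  have hqπ : ∀ i, q i ≫ (sm i) = π := fun i =>
    Over.w ((LimMor.finCone π s).π.app i)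
  haveI : ∀ i, IsIntegralHom (q i) := fun i => by
    haveI : IsSeparated (sm i) := IsSeparated.of_isAffineHom _
    haveI : IsIntegralHom (q i ≫ (sm i)) := by rw [hqπ]; infer_instance
    exact IsIntegralHom.of_comp (q i) (sm i)
  haveI : CompactSpace T := QuasiCompact.compactSpace_of_compactSpace π
  haveI : QuasiSeparatedSpace T := quasiSeparatedSpace_of_quasiSeparated π
  haveI : SpectralSpace T := { }
  have hTZ : IsClosed (π ⁻¹' Z) := hZ.preimage π.continuous
  intro t
  let P : Set T := π ⁻¹' Z ∩ closure {t}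
  have himg : ∀ i, q i '' P = (sm i) ⁻¹' Z ∩ closure {q i t} := by
    intro i
    rw [show P = (q i) ⁻¹' ((sm i) ⁻¹' Z) ∩ closure {t} by
      show π ⁻¹' Z ∩ closure {t} = _
      refine congrArg (· ∩ _) (Set.ext fun x => ?_)
      have e : π x = (sm i) (q i x) :=
        (congrArg (fun k : T ⟶ X => k x) (hqπ i)).symm.trans (Scheme.Hom.comp_apply _ _ _)
      show π x ∈ Z ↔ (sm i) (q i x) ∈ Z
      rw [e]]
    refine (Set.image_preimage_inter _ _ _).trans ?_
    refine congrArg _ ?_
    rw [← (q i).isClosedMap.closure_image_eq_of_continuous (q i).continuous, Set.image_singleton]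
  refine ⟨?_, isPreconnected_closed_iff.2 fun A B hA hB hsub hAne hBne => ?_⟩
  · obtain ⟨i⟩ : Nonempty J := inferInstance
    have h1 := (h _ (sm i) (q i t)).nonempty
    rw [← himg i] at h1
    exact h1.of_image
  by_contra hne
  rw [Set.not_nonempty_iff_eq_empty] at hne
  have hPc : IsClosed P := hTZ.inter isClosed_closure
  let W : J → Set T := fun i => P ∩ A ∩ q i ⁻¹' (q i '' (P ∩ B))
  have hWc : ∀ i, IsClosed (W i) := fun i =>
    (hPc.inter hA).inter (((q i).isClosedMap _ (hPc.inter hB)).preimage (q i).continuous)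
  have hWne : ∀ i, (W i).Nonempty := by
    intro i
    have hconn := (h _ (sm i) (q i t)).isPreconnected
    rw [← himg i] at hconn
    obtain ⟨y, -, ⟨a, ha, rfl⟩, hy⟩ := isPreconnected_closed_iff.1 hconn (q i '' (P ∩ A)) (q i '' (P ∩ B))
      ((q i).isClosedMap _ (hPc.inter hA)) ((q i).isClosedMap _ (hPc.inter hB))
      (by
        rw [← Set.image_union, ← Set.inter_union_distrib_left]
        exact Set.image_mono fun x hx => ⟨hx, hsub hx⟩)
      (by obtain ⟨a, ha⟩ := hAne; exact ⟨q i a, ⟨a, ha.1, rfl⟩, a, ha, rfl⟩)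
      (by obtain ⟨a, ha⟩ := hBne; exact ⟨q i a, ⟨a, ha.1, rfl⟩, a, ha, rfl⟩)
    exact ⟨a, ha, hy⟩
  have hfac : ∀ {i j : J} (f : i ⟶ j) (x : T), q j x = D.map f (q i x) := fun f x => by
    rw [← Scheme.Hom.comp_apply]
    exact congrArg (fun k : T ⟶ _ => k x) (c.w f).symm
  have hdir : Directed (· ⊇ ·) W := by
    intro i j
    obtain ⟨k, f, g, -⟩ := IsCofilteredOrEmpty.cone_objs i j
    refine ⟨k, ?_, ?_⟩ <;> (rintro x ⟨hx, b, hb, hbx⟩; refine ⟨hx, b, hb, ?_⟩)
    · rw [hfac f, hfac f, hbx]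
    · rw [hfac g, hfac g, hbx]
  obtain ⟨a, ha⟩ := SpecLib.CC.nonempty_iInter W hdir hWne fun i => SpecLib.cc_of_isClosed (hWc i)
  rw [Set.mem_iInter] at ha
  haveI : ∀ i : J, SpectralSpace (D.obj i) := fun i => by
    haveI : CompactSpace (D.obj i) := QuasiCompact.compactSpace_of_compactSpace (sm i)
    haveI : QuasiSeparatedSpace (D.obj i) := quasiSeparatedSpace_of_quasiSeparated (sm i)
    exact { }
  let V : J → Set T := fun i => (P ∩ B) ∩ q i ⁻¹' {q i a}
  obtain ⟨b, hb⟩ := SpecLib.CC.nonempty_iInter V (fun i j => by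
      obtain ⟨k, f, g, -⟩ := IsCofilteredOrEmpty.cone_objs i j
      refine ⟨k, ?_, ?_⟩ <;>
        (rintro x ⟨hx, hxa⟩; refine ⟨hx, ?_⟩; rw [Set.mem_preimage, Set.mem_singleton_iff] at hxa ⊢)
      · rw [hfac f, hfac f, hxa]
      · rw [hfac g, hfac g, hxa])
    (fun i => by obtain ⟨-, b, hb, hba⟩ := ha i; exact ⟨b, hb, hba⟩)
    (fun i => (SpecLib.cc_of_isClosed (hPc.inter hB)).inter
      (SpecLib.CC.preimage (q i).isSpectralMap (SpecLib.cc_singleton _)))
  rw [Set.mem_iInter] at hb
  obtain ⟨i₀⟩ : Nonempty J := inferInstance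
  obtain rfl : a = b := eq_of_π_eq hc fun i => ((hb i).2 : q i b = q i a).symm
  exact Set.eq_empty_iff_forall_notMem.1 hne a ⟨(ha i₀).1.1, (ha i₀).1.2, (hb i₀).1.2⟩

end Groth.Agent.PBC50
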