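import Groth.Agent.PBC50.Agree
import Groth.Agent.PBC50.IntegralConn
import Groth.Agent.H23.RedSub
import Groth.Agent.FlatFibres.AicLift

/-!
# Gabber's criterion: global sections of an abelian etale sheaf and of its restriction to a closed subscheme
-/

set_option autoImplicit false

set_option linter.style.haveILetI false

universe u

open CategoryTheory CategoryTheory.Limits AlgebraicGeometry Opposite TopologicalSpace Topology

namespace Groth.Agent.PBC50

set_option backward.isDefEq.respectTransparency.types false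

variable {Z X : Scheme.{u}} (i : Z ⟶ X) [IsClosedImmersion i] (F : EtCoh.Ab X)

/-- The unique morphism to the final object. -/
noncomputable def toTop {X : Scheme.{u}} (U : X.Etale) : U ⟶ EtCoh.top X :=
  MorphismProperty.Over.homMk U.hom (Category.comp_id _) trivial

theorem toTop_uniq {X : Scheme.{u}} {U : X.Etale} (m : U ⟶ EtCoh.top X) : m = toTop U := by
  exact MorphismProperty.Over.Hom.ext ((Category.comp_id _).symm.trans (MorphismProperty.Over.w m))

theorem exists_lift_geomPoint {Ω : Type u} [Field Ω] (ξ : Spec (CommRingCat.of Ω) ⟶ X)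
    (h : ξ.base default ∈ Set.range i) : ∃ ξ' : Spec (CommRingCat.of Ω) ⟶ Z, ξ' ≫ i = ξ := by
  haveI : IsReduced (Spec (CommRingCat.of Ω)) := inferInstance
  exact H23.RedSub.exists_lift_closed ξ i (by rintro _ ⟨w, rfl⟩; rwa [Subsingleton.elim w default])

variable (σ : EtCoh.sect ((EtCoh.pull i).obj F) ((EtCoh.bc i).obj (EtCoh.top X)))

/-- A chart: a section on an affine etale scheme pulling back to the given section. -/
structure Chart where
  /-- the scheme -/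
  U : X.Etale
  affine : IsAffine U.left
  /-- the section -/
  a : EtCoh.sect F U
  up : upSec F i U a = ((EtCoh.pull i).obj F).obj.map ((EtCoh.bc i).map (toTop U)).op σ

theorem exists_chart (z : Z) : ∃ C : Chart i F σ, i z ∈ Set.range C.U.hom := by
  haveI : IsIso (pullback.snd (𝟙 X) i) := inferInstance
  let w₀ : ((EtCoh.bc i).obj (EtCoh.top X)).left := (inv (pullback.snd (𝟙 X) i)) z
  obtain ⟨Ω, _, _, ξ, t₀, ht₀⟩ := EtFound.exists_point_through ((EtCoh.bc i).obj (EtCoh.top X)) w₀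
  have hξz : ξ.base default = z := by
    have h : (t₀.left : Spec (CommRingCat.of Ω) ⟶ ((EtCoh.bc i).obj (EtCoh.top X)).left) ≫
        pullback.snd (𝟙 X) i = ξ := Over.w t₀
    rw [← h, Scheme.Hom.comp_apply, ht₀]
    show pullback.snd (𝟙 X) i (inv (pullback.snd (𝟙 X) i) z) = z
    rw [← Scheme.Hom.comp_apply, IsIso.inv_hom_id]
    rfl
  obtain ⟨U, t, a, hc⟩ := exists_germAt_upSec i ξ (germAt _ t₀ σ)
  let t' := (EtFound.bcFiberEquiv i ξ U).symm t
  have hsub : (Scheme.pointSmallEtale ξ).fiber.map ((EtCoh.bc i).map (toTop U)) t' = t₀ := by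
    haveI : Mono ((EtCoh.bc i).obj (EtCoh.top X)).hom := by
      show Mono (pullback.snd (𝟙 X) i)
      infer_instance
    exact (subsingleton_fiber ξ).elim _ _
  let G : Set ((EtCoh.bc i).obj U).left := {w | GermEq ((EtCoh.pull i).obj F) (upSec F i U a)
    (((EtCoh.pull i).obj F).obj.map ((EtCoh.bc i).map (toTop U)).op σ) w}
  have hG : ptOf t' ∈ G := by
    refine (germAt_eq_iff _ _ t').1 ?_
    rw [germAt_map, hsub]
    exact hc
  obtain ⟨O, hO, hOG⟩ := ((pullback.fst U.hom i).isClosedEmbedding.isInducing.isOpen_iff).1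
    (isOpen_germEq (F := (EtCoh.pull i).obj F) (upSec F i U a)
      (((EtCoh.pull i).obj F).obj.map ((EtCoh.bc i).map (toTop U)).op σ))
  obtain ⟨V, hV, hzV, hVO⟩ := exists_isAffineOpen_mem_and_subset (X := U.left) (U := ⟨O, hO⟩)
    (x := pullback.fst U.hom i (ptOf t')) (show ptOf t' ∈ pullback.fst U.hom i ⁻¹' O by rw [hOG]; exact hG)
  haveI := U.prop
  let U₁ : X.Etale := Scheme.Etale.mk (V.ι ≫ U.hom)
  let k : U₁ ⟶ U := MorphismProperty.Over.homMk V.ι rfl trivial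
  refine ⟨⟨U₁, hV, F.obj.map k.op a, ?_⟩, ?_⟩
  · rw [upSec_map]
    refine eq_of_germEq fun w => ?_
    obtain ⟨Ω', _, _, ξ', s, hs⟩ := EtFound.exists_point_through ((EtCoh.bc i).obj U₁) w
    have key : germAt ((EtCoh.pull i).obj F) ((Scheme.pointSmallEtale ξ').fiber.map ((EtCoh.bc i).map k) s)
        (upSec F i U a) = germAt _ ((Scheme.pointSmallEtale ξ').fiber.map ((EtCoh.bc i).map k) s)
        (((EtCoh.pull i).obj F).obj.map ((EtCoh.bc i).map (toTop U)).op σ) := by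
      refine (germAt_eq_iff _ _ _).2 ?_
      show ptOf _ ∈ G
      refine hOG.le (hVO ?_)
      let sl : Spec (CommRingCat.of Ω') ⟶ ((EtCoh.bc i).obj U₁).left := s.left
      let p₀ : ((EtCoh.bc i).obj U₁).left := sl.base (default : Spec (CommRingCat.of Ω'))
      have h₁ : pullback.fst U.hom i (((EtCoh.bc i).map k).left p₀) = V.ι (pullback.fst U₁.hom i p₀) :=
        ((Scheme.Hom.comp_apply _ _ _).symm.trans (congrArg (fun g : ((EtCoh.bc i).obj U₁).left ⟶ U.left => g p₀)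
          (EtCoh.isPullback_bc_map i k).w)).trans (Scheme.Hom.comp_apply _ _ _)
      have h₂ : ptOf ((Scheme.pointSmallEtale ξ').fiber.map ((EtCoh.bc i).map k) s) = ((EtCoh.bc i).map k).left p₀ :=
        Scheme.Hom.comp_apply _ _ _
      show pullback.fst U.hom i (ptOf ((Scheme.pointSmallEtale ξ').fiber.map ((EtCoh.bc i).map k) s)) ∈ V
      rw [h₂, h₁]
      exact (pullback.fst U₁.hom i p₀).2
    rw [← show ptOf s = w from hs default]
    refine (germAt_eq_iff _ _ s).1 ?_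
    rw [germAt_map, key, ← germAt_map, mapMap, ← Functor.map_comp, toTop_uniq (k ≫ toTop U)]
  · refine ⟨⟨_, hzV⟩, ?_⟩
    show (V.ι ≫ U.hom) ⟨_, hzV⟩ = i z
    rw [Scheme.Hom.comp_apply]
    show U.hom (pullback.fst U.hom i (ptOf t')) = i z
    rw [← Scheme.Hom.comp_apply, pullback.condition, Scheme.Hom.comp_apply]
    refine congrArg i ?_
    have h : (t'.left : Spec (CommRingCat.of Ω) ⟶ ((EtCoh.bc i).obj U).left) ≫ pullback.snd U.hom i = ξ := Over.w t'
    exact (Scheme.Hom.comp_apply _ _ _).symm.trans ((congrArg (fun g : Spec (CommRingCat.of Ω) ⟶ Z => g.base default) h).trans hξz)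

variable [CompactSpace X] [QuasiSeparatedSpace X]
  (hfin : ∀ (X' : Scheme.{u}) (π : X' ⟶ X) [IsFinite π], ConnIn (π ⁻¹' Set.range i))

include hfin

theorem connIn_self : ConnIn (Set.range i) := by
  have h := hfin X (𝟙 X)
  simpa using h

theorem unit_injective :
    Function.Injective (((EtCoh.pullPushAdj i).unit.app F).hom.app (op (EtCoh.top X))) := by
  intro a b hab
  refine eq_of_germEq fun x => ?_
  by_contra hx
  have hD : IsClosed {z : (EtCoh.top X).left | ¬ GermEq F a b z} := (isOpen_germEq a b).isClosed_compl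
  refine Set.eq_empty_iff_forall_notMem.1 ((connIn_self i hfin).eq_empty_of_isClosed hD ?_) x hx
  refine Set.eq_empty_of_forall_notMem ?_
  rintro y ⟨hy, hyZ⟩
  obtain ⟨Ω, _, _, ξ, t, ht⟩ := EtFound.exists_point_through (EtCoh.top X) y
  have hξ : ξ.base default = y := by
    have h : (t.left : Spec (CommRingCat.of Ω) ⟶ X) ≫ 𝟙 X = ξ := Over.w t
    exact (congrArg (fun g : Spec (CommRingCat.of Ω) ⟶ X => g.base default) (h.symm.trans (Category.comp_id _))).trans
      (ht default)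
  obtain ⟨ξ', rfl⟩ := exists_lift_geomPoint i ξ (by rw [hξ]; exact hyZ)
  refine hy ?_
  rw [← show ptOf t = y from ht default]
  refine (germAt_eq_iff _ _ t).1 (pullIso_injective i ξ' ?_)
  rw [← germAt_upSec, ← germAt_upSec]
  exact congrArg _ hab

set_option maxHeartbeats 800000 in
theorem exists_upSec_eq : ∃ s, upSec F i (EtCoh.top X) s = σ := by
  classical
  have hconn := connIn_self i hfin
  choose C hC using exists_chart i F σ
  obtain ⟨κ₀, hκ₀⟩ := (i.isClosedEmbedding.isClosed_range.isCompact).elim_finite_subcover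
    (fun z : Z => Set.range (C z).U.hom) (fun z => by haveI := (C z).U.prop; exact (C z).U.hom.isOpenMap.isOpen_range)
    (by rintro _ ⟨z, rfl⟩; exact Set.mem_iUnion.2 ⟨z, hC z⟩)
  let U : κ₀ → X.Etale := fun k => (C k.1).U
  let a : ∀ k : κ₀, EtCoh.sect F (U k) := fun k => (C k.1).a
  haveI : ∀ k, Etale (U k).hom := fun k => (C k.1).U.prop
  let g : (∐ fun k => (U k).left) ⟶ X := Sigma.desc fun k => (U k).hom
  haveI : Etale g := IsZariskiLocalAtSource.sigmaDesc inferInstance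
  haveI : Surjective g := ⟨fun x => by
    obtain ⟨z, hz, hxz⟩ := hconn.exists_specializes x
    obtain ⟨k, hk, hzk⟩ := Set.mem_iUnion₂.1 (hκ₀ hz)
    haveI := (C k).U.prop
    obtain ⟨u, hu⟩ := hxz.mem_open (C k).U.hom.isOpenMap.isOpen_range hzk
    refine ⟨Sigma.ι (fun k => (U k).left) ⟨k, hk⟩ u, ?_⟩
    rw [← Scheme.Hom.comp_apply, Sigma.ι_desc]
    exact hu⟩
  obtain ⟨T, π, hsurj, hπ, hloc⟩ := FlatFibres.exists_integral_surjective_refinement g
  have hconnT : ConnIn (π ⁻¹' Set.range i) :=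
    connIn_of_isIntegralHom i.isClosedEmbedding.isClosed_range hfin π
  haveI : CompactSpace T := QuasiCompact.compactSpace_of_compactSpace π
  haveI : QuasiSeparatedSpace T := quasiSeparatedSpace_of_quasiSeparated π
  haveI : SpectralSpace T := { }
  choose kf Of hf htOf hOc hhf using
    exists_local_chart U π g (fun k => Sigma.ι_desc (fun k => (U k).hom) k) hloc
  obtain ⟨κ, hκ⟩ := CompactSpace.isCompact_univ.elim_finite_subcover (fun t : T => (Of t : Set T))
    (fun t => (Of t).isOpen) (fun t _ => Set.mem_iUnion.2 ⟨t, htOf t⟩)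
  -- restrictions of the charts
  let rf : ∀ (j : T) (R : Scheme.{u}) (q : R ⟶ T), Set.range q ⊆ Set.range (Of j).ι → (R ⟶ (U (kf j)).left) :=
    fun j R q h => IsOpenImmersion.lift (Of j).ι q h ≫ hf j
  have hrf : ∀ j R q h, rf j R q h ≫ (U (kf j)).hom = q ≫ π := fun j R q h =>
    (Category.assoc _ _ _).trans ((congrArg (_ ≫ ·) (hhf j)).trans
      ((Category.assoc _ _ _).symm.trans (congrArg (· ≫ π) (IsOpenImmersion.lift_fac _ _ h))))
  have hrf_comp : ∀ (j : T) (R R' : Scheme.{u}) (q : R ⟶ T) (h : Set.range q ⊆ Set.range (Of j).ι) (s : R' ⟶ R)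
      (q' : R' ⟶ T) (h' : Set.range q' ⊆ Set.range (Of j).ι), s ≫ q = q' → rf j R' q' h' = s ≫ rf j R q h := by
    intro j R R' q h s q' h' e
    refine Eq.trans (congrArg (· ≫ hf j) ?_) (Category.assoc _ _ _)
    rw [← cancel_mono (Of j).ι, Category.assoc, IsOpenImmersion.lift_fac, IsOpenImmersion.lift_fac, e]
  let tpt : ∀ (j : T) {Ω : Type u} [Field Ω] [IsSepClosed Ω] (ξ : Spec (CommRingCat.of Ω) ⟶ X)
      (ω : Spec (CommRingCat.of Ω) ⟶ T), ω.base default ∈ Of j → ω ≫ π = ξ →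
      (Scheme.pointSmallEtale ξ).fiber.obj (U (kf j)) := fun j _ _ _ ξ ω h e =>
    Over.homMk (rf j _ ω (range_subset_opens ω h)) ((hrf _ _ _ _).trans e)
  have hvalZ : ∀ {Ω : Type u} [Field Ω] [IsSepClosed Ω] (ξ : Spec (CommRingCat.of Ω) ⟶ X),
      ξ.base default ∈ Set.range i → ∀ (j l : T) (t : (Scheme.pointSmallEtale ξ).fiber.obj (U (kf j)))
      (t' : (Scheme.pointSmallEtale ξ).fiber.obj (U (kf l))), germAt F t (a (kf j)) = germAt F t' (a (kf l)) := by
    intro Ω _ _ ξ hξ j l t t'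
    obtain ⟨ξ', rfl⟩ := exists_lift_geomPoint i ξ hξ
    exact germAt_eq_of_upSec i ξ' σ _ _ _ _ (C (kf j).1).up (C (kf l).1).up t t'
  -- agreement on `T`
  have hJ : ∀ j l : T, Set.range ((Of j) ⊓ (Of l) : T.Opens).ι ⊆ Set.range (Of j).ι ∧
      Set.range ((Of j) ⊓ (Of l) : T.Opens).ι ⊆ Set.range (Of l).ι := fun j l => by
    rw [Scheme.Opens.range_ι, Scheme.Opens.range_ι, Scheme.Opens.range_ι]
    exact ⟨fun x hx => hx.1, fun x hx => hx.2⟩
  let E : T → T → Set T := fun j l => agreeSet F ((Of j) ⊓ (Of l)) (rf j _ _ (hJ j l).1) (rf l _ _ (hJ j l).2)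
    ((hrf _ _ _ _).trans (hrf _ _ _ _).symm) (a (kf j)) (a (kf l))
  have hE : ∀ (j l : T) {Ω : Type u} [Field Ω] [IsSepClosed Ω] (ξ : Spec (CommRingCat.of Ω) ⟶ X)
      (ω : Spec (CommRingCat.of Ω) ⟶ T) (h : ω.base default ∈ Of j) (h' : ω.base default ∈ Of l) (e : ω ≫ π = ξ),
      ω.base default ∈ E j l ↔ germAt F (tpt j ξ ω h e) (a (kf j)) = germAt F (tpt l ξ ω h' e) (a (kf l)) := by
    intro j l Ω _ _ ξ ω h h' e
    have hmem : ω.base default ∈ ((Of j) ⊓ (Of l) : T.Opens) := ⟨h, h'⟩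
    refine Iff.trans ?_ (mem_agreeSet_iff F ((Of j) ⊓ (Of l)) (rf j _ _ (hJ j l).1) (rf l _ _ (hJ j l).2) ((hrf _ _ _ _).trans (hrf _ _ _ _).symm) (a (kf j)) (a (kf l)) (liftPt _ ω hmem) (tpt j ξ ω h e) (tpt l ξ ω h' e)
      (hrf_comp j _ _ _ _ _ _ _ (liftPt_ι _ ω hmem)) (hrf_comp l _ _ _ _ _ _ _ (liftPt_ι _ ω hmem)))
    rw [liftPt_ι]
  obtain ⟨O', hO'open, hO'sub, -, hO'cov, hO'E⟩ := exists_refinement (X := T)
    (i.isClosedEmbedding.isClosed_range.preimage π.continuous) hconnT (fun j : κ => (Of j.1 : Set T))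
    (fun j => (Of j.1).isOpen) (fun j => hOc j.1) (fun x hx => by
      obtain ⟨j, hj, hxj⟩ := Set.mem_iUnion₂.1 (hκ (Set.mem_univ x))
      exact Set.mem_iUnion.2 ⟨⟨j, hj⟩, hxj⟩)
    (fun j l => E j.1 l.1) (fun j l => isOpen_agreeSet _ _ _ _ _ _ _)
    (by
      rintro j l x ⟨hxZ, hxj, hxl⟩
      obtain ⟨Ω, _, _, ω, rfl⟩ := EtFound.exists_geomPoint x
      exact (hE j.1 l.1 _ ω hxj hxl rfl).2 (hvalZ _ (by rw [Scheme.Hom.comp_apply]; exact hxZ) _ _ _ _))
    (by
      intro j l x hx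
      have hxO := mem_of_mem_agreeSet _ _ _ _ _ _ _ hx
      obtain ⟨Ω, _, _, ω, rfl⟩ := EtFound.exists_geomPoint x
      exact (hE l.1 j.1 _ ω hxO.2 hxO.1 rfl).2 ((hE j.1 l.1 _ ω hxO.1 hxO.2 rfl).1 hx).symm)
    (by
      rintro j l m x ⟨⟨hj, hl⟩, hm⟩ hjl hlm
      obtain ⟨Ω, _, _, ω, rfl⟩ := EtFound.exists_geomPoint x
      exact (hE j.1 m.1 _ ω hj hm rfl).2
        (((hE j.1 l.1 _ ω hj hl rfl).1 hjl).trans ((hE l.1 m.1 _ ω hl hm rfl).1 hlm)))
  -- independence of the lift to `T`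
  let T2 := pullback π π
  let q : T2 ⟶ T := pullback.fst π π
  let q' : T2 ⟶ T := pullback.snd π π
  let R : ∀ j l : κ, T2.Opens := fun j l => q ⁻¹ᵁ ⟨O' j, hO'open j⟩ ⊓ q' ⁻¹ᵁ ⟨O' l, hO'open l⟩
  have hR : ∀ j l : κ, Set.range ((R j l).ι ≫ q) ⊆ Set.range (Of j.1).ι ∧
      Set.range ((R j l).ι ≫ q') ⊆ Set.range (Of l.1).ι := fun j l => by
    constructor <;> (rintro _ ⟨w, rfl⟩; rw [Scheme.Opens.range_ι, Scheme.Hom.comp_apply])
    · exact hO'sub j w.2.1
    · exact hO'sub l w.2.2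
  have hcond : ∀ j l : κ, rf j.1 _ _ (hR j l).1 ≫ (U (kf j.1)).hom = rf l.1 _ _ (hR j l).2 ≫ (U (kf l.1)).hom :=
    fun j l => (hrf _ _ _ _).trans (((Category.assoc _ _ _).trans ((congrArg ((R j l).ι ≫ ·)
      pullback.condition).trans (Category.assoc _ _ _).symm)).trans (hrf _ _ _ _).symm)
  let Good : κ → κ → Set T2 := fun j l => agreeSet F (R j l) (rf j.1 _ _ (hR j l).1) (rf l.1 _ _ (hR j l).2)
    (hcond j l) (a (kf j.1)) (a (kf l.1))
  have hGood : ∀ (j l : κ) {Ω : Type u} [Field Ω] [IsSepClosed Ω] (ξ : Spec (CommRingCat.of Ω) ⟶ X)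
      (r : Spec (CommRingCat.of Ω) ⟶ T2) (ω ω' : Spec (CommRingCat.of Ω) ⟶ T) (hω : r ≫ q = ω) (hω' : r ≫ q' = ω')
      (h : ω.base default ∈ Of j.1) (h' : ω'.base default ∈ Of l.1) (e : ω ≫ π = ξ) (e' : ω' ≫ π = ξ),
      r.base default ∈ R j l → (r.base default ∈ Good j l ↔
        germAt F (tpt j.1 ξ ω h e) (a (kf j.1)) = germAt F (tpt l.1 ξ ω' h' e') (a (kf l.1))) := by
    intro j l Ω _ _ ξ r ω ω' hω hω' h h' e e' hr
    refine Iff.trans ?_ (mem_agreeSet_iff F (R j l) _ _ (hcond j l) (a (kf j.1)) (a (kf l.1)) (liftPt _ r hr) (tpt j.1 ξ ω h e) (tpt l.1 ξ ω' h' e')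
      (hrf_comp j.1 _ _ _ _ _ _ _ (by rw [← Category.assoc, liftPt_ι, hω]))
      (hrf_comp l.1 _ _ _ _ _ _ _ (by rw [← Category.assoc, liftPt_ι, hω'])))
    rw [liftPt_ι]
  have hcondπ : ∀ {Ω : Type u} [Field Ω] (r : Spec (CommRingCat.of Ω) ⟶ T2), (r ≫ q) ≫ π = (r ≫ q') ≫ π :=
    fun r => (Category.assoc _ _ _).trans ((congrArg (r ≫ ·) pullback.condition).trans (Category.assoc _ _ _).symm)
  let B : Set T2 := (⋃ j, ⋃ l, Good j l)ᶜ
  have hB : B = ∅ := by
    have hBc : IsClosed B :=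
      (isOpen_iUnion fun j => isOpen_iUnion fun l => isOpen_agreeSet _ _ _ _ _ _ _).isClosed_compl
    have himg : (q ≫ π) '' B = ∅ := by
      refine hconn.eq_empty_of_isClosed ((q ≫ π).isClosedMap _ hBc) (Set.eq_empty_of_forall_notMem ?_)
      rintro _ ⟨⟨y, hy, rfl⟩, hyZ⟩
      obtain ⟨j, hj⟩ := Set.mem_iUnion.1 (hO'cov.ge (Set.mem_univ (q y)))
      obtain ⟨l, hl⟩ := Set.mem_iUnion.1 (hO'cov.ge (Set.mem_univ (q' y)))
      obtain ⟨Ω, _, _, r, rfl⟩ := EtFound.exists_geomPoint y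
      refine hy (Set.mem_iUnion.2 ⟨j, Set.mem_iUnion.2 ⟨l, ?_⟩⟩)
      refine (hGood j l ((r ≫ q) ≫ π) r _ _ rfl rfl (by rw [Scheme.Hom.comp_apply]; exact hO'sub j hj)
        (by rw [Scheme.Hom.comp_apply]; exact hO'sub l hl) rfl (hcondπ r).symm ⟨hj, hl⟩).2 ?_
      exact hvalZ _ (by rw [Category.assoc, Scheme.Hom.comp_apply]; exact hyZ) _ _ _ _
    exact Set.image_eq_empty.1 himg
  have hindep : ∀ (j l : κ) {Ω : Type u} [Field Ω] [IsSepClosed Ω] (ξ : Spec (CommRingCat.of Ω) ⟶ X)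
      (ω ω' : Spec (CommRingCat.of Ω) ⟶ T) (e : ω ≫ π = ξ) (e' : ω' ≫ π = ξ)
      (h : ω.base default ∈ O' j) (h' : ω'.base default ∈ O' l),
      germAt F (tpt j.1 ξ ω (hO'sub j h) e) (a (kf j.1)) = germAt F (tpt l.1 ξ ω' (hO'sub l h') e') (a (kf l.1)) := by
    intro j l Ω _ _ ξ ω ω' e e' hj hl
    let r : Spec (CommRingCat.of Ω) ⟶ T2 := pullback.lift ω ω' (e.trans e'.symm)
    have hrq : r ≫ q = ω := pullback.lift_fst _ _ _
    have hrq' : r ≫ q' = ω' := pullback.lift_snd _ _ _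
    obtain ⟨j', h⟩ := Set.mem_iUnion.1 (Classical.not_not.1
      (Set.eq_empty_iff_forall_notMem.1 hB (r.base default)))
    obtain ⟨l', h⟩ := Set.mem_iUnion.1 h
    have hRm : r.base default ∈ R j' l' := mem_of_mem_agreeSet _ _ _ _ _ _ _ h
    have hj' : ω.base default ∈ O' j' := by rw [← hrq, Scheme.Hom.comp_apply]; exact hRm.1
    have hl' : ω'.base default ∈ O' l' := by rw [← hrq', Scheme.Hom.comp_apply]; exact hRm.2
    exact ((hE j.1 j'.1 ξ ω (hO'sub j hj) (hO'sub j' hj') e).1 (hO'E j j' ⟨hj, hj'⟩)).trans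
      (((hGood j' l' ξ r ω ω' hrq hrq' (hO'sub j' hj') (hO'sub l' hl') e e' hRm).1 h).trans
        ((hE l'.1 l.1 ξ ω' (hO'sub l' hl') (hO'sub l hl) e').1 (hO'E l' l ⟨hl', hl⟩)))
  -- charts on which the section is given
  have hchart : ∀ x : X, ∃ (k : κ₀) (V : (U k).left.Opens), x ∈ (U k).hom '' (V : Set (U k).left) ∧
      ∀ {Ω : Type u} [Field Ω] [IsSepClosed Ω] (ξ : Spec (CommRingCat.of Ω) ⟶ X)
        (t : (Scheme.pointSmallEtale ξ).fiber.obj (U k)) (l : κ) (ω : Spec (CommRingCat.of Ω) ⟶ T)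
        (e : ω ≫ π = ξ) (h : ω.base default ∈ O' l), ptOf t ∈ V →
        germAt F t (a k) = germAt F (tpt l.1 ξ ω (hO'sub l h) e) (a (kf l.1)) := by
    intro x
    obtain ⟨x', rfl⟩ := π.surjective x
    obtain ⟨j, hj⟩ := Set.mem_iUnion.1 (hO'cov.ge (Set.mem_univ x'))
    let k := kf j.1
    let uk : (U k).left ⟶ X := (U k).hom
    let x₁ : (Of j.1).toScheme := ⟨x', hO'sub j hj⟩
    let u : (U k).left := hf j.1 x₁
    let P' := pullback uk π
    let fP : P' ⟶ (U k).left := pullback.fst uk π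
    let sP : P' ⟶ T := pullback.snd uk π
    let Ol : κ → P'.Opens := fun l => sP ⁻¹ᵁ ⟨O' l, hO'open l⟩
    have hOl : ∀ l, Set.range ((Ol l).ι ≫ sP) ⊆ Set.range (Of l.1).ι := fun l => by
      rintro _ ⟨w, rfl⟩
      rw [Scheme.Opens.range_ι, Scheme.Hom.comp_apply]
      exact hO'sub l w.2
    have hcondP : ∀ l, ((Ol l).ι ≫ fP) ≫ (U k).hom = rf l.1 _ _ (hOl l) ≫ (U (kf l.1)).hom := fun l =>
      ((Category.assoc _ _ _).trans ((congrArg ((Ol l).ι ≫ ·) pullback.condition).trans (Category.assoc _ _ _).symm)).trans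
        (hrf _ _ _ _).symm
    let GP : κ → Set P' := fun l => agreeSet F (Ol l) ((Ol l).ι ≫ fP) (rf l.1 _ _ (hOl l)) (hcondP l) (a k) (a (kf l.1))
    have hGP : ∀ (l : κ) {Ω : Type u} [Field Ω] [IsSepClosed Ω] (ξ : Spec (CommRingCat.of Ω) ⟶ X)
        (r : Spec (CommRingCat.of Ω) ⟶ P') (t : (Scheme.pointSmallEtale ξ).fiber.obj (U k))
        (ω : Spec (CommRingCat.of Ω) ⟶ T) (h : ω.base default ∈ Of l.1) (e : ω ≫ π = ξ),
        (t.left : Spec (CommRingCat.of Ω) ⟶ (U k).left) = r ≫ fP → r ≫ sP = ω → r.base default ∈ Ol l →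
        (r.base default ∈ GP l ↔ germAt F t (a k) = germAt F (tpt l.1 ξ ω h e) (a (kf l.1))) := by
      intro l Ω _ _ ξ r t ω h e ht hω hr
      refine Iff.trans ?_ (mem_agreeSet_iff F (Ol l) _ _ (hcondP l) (a k) (a (kf l.1)) (liftPt _ r hr) t (tpt l.1 ξ ω h e)
        (ht.trans ((congrArg (· ≫ fP) (liftPt_ι _ r hr)).symm.trans (Category.assoc _ _ _)))
        (hrf_comp l.1 _ _ _ _ _ _ _ (by rw [← Category.assoc, liftPt_ι, hω])))
      rw [liftPt_ι]
    let BP : Set P' := (⋃ l, GP l)ᶜ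
    haveI : IsIntegralHom fP := MorphismProperty.pullback_fst _ _ inferInstance
    have hBPc : IsClosed (fP '' BP) :=
      fP.isClosedMap _ (isOpen_iUnion fun l => isOpen_agreeSet _ _ _ _ _ _ _).isClosed_compl
    refine ⟨k, ⟨(fP '' BP)ᶜ, hBPc.isOpen_compl⟩, ⟨u, ?_, ?_⟩, ?_⟩
    · rintro ⟨y, hy, hyu⟩
      obtain ⟨r₀, hr₁, hr₂⟩ := Scheme.Pullback.exists_preimage_pullback (f := hf j.1) (g := fP) x₁ y hyu.symm
      obtain ⟨Ω, _, _, ρ, hρ⟩ := EtFound.exists_geomPoint r₀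
      let r := ρ ≫ pullback.snd (hf j.1) fP
      let ω₁ := ρ ≫ pullback.fst (hf j.1) fP
      let ω := ω₁ ≫ (Of j.1).ι
      let ξ : Spec (CommRingCat.of Ω) ⟶ X := (r ≫ fP) ≫ uk
      have hr : r.base default = y := by rw [Scheme.Hom.comp_apply, hρ, hr₂]
      have hωt : ω₁ ≫ hf j.1 = r ≫ fP :=
        (Category.assoc _ _ _).trans ((congrArg (ρ ≫ ·) pullback.condition).trans (Category.assoc _ _ _).symm)
      have eω : ω ≫ π = ξ :=
        (Category.assoc _ _ _).trans ((congrArg (ω₁ ≫ ·) (hhf j.1).symm).trans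
          ((Category.assoc _ _ _).symm.trans (congrArg (· ≫ uk) hωt)))
      have hωj : ω.base default ∈ O' j := by
        have h₁ : ω₁.base default = x₁ := by rw [Scheme.Hom.comp_apply, hρ, hr₁]
        rw [Scheme.Hom.comp_apply, h₁]
        exact hj
      obtain ⟨l, hl⟩ := Set.mem_iUnion.1 (hO'cov.ge (Set.mem_univ (sP y)))
      have hωl : (r ≫ sP).base default ∈ O' l := by rw [Scheme.Hom.comp_apply, hr]; exact hl
      have eω' : (r ≫ sP) ≫ π = ξ :=
        (Category.assoc _ _ _).trans ((congrArg (r ≫ ·) pullback.condition.symm).trans (Category.assoc _ _ _).symm)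
      refine hy (Set.mem_iUnion.2 ⟨l, ?_⟩)
      rw [← hr]
      refine (hGP l ξ r (tpt j.1 ξ ω (hO'sub j hωj) eω) (r ≫ sP) (hO'sub l hωl) eω' ?_ rfl
        (by show sP (r.base default) ∈ O' l; rw [hr]; exact hl)).2 (hindep j l ξ ω _ eω eω' hωj hωl)
      show rf j.1 _ ω _ = r ≫ fP
      refine Eq.trans ?_ hωt
      refine congrArg (· ≫ hf j.1) ?_
      rw [← cancel_mono (Of j.1).ι, IsOpenImmersion.lift_fac]
    · exact ((Scheme.Hom.comp_apply _ _ _).symm.trans (congrArg (fun m : (Of j.1).toScheme ⟶ X => m x₁) (hhf j.1))).trans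
        (Scheme.Hom.comp_apply _ _ _)
    · intro Ω _ _ ξ t l ω e hωl htV
      let tl : Spec (CommRingCat.of Ω) ⟶ (U k).left := t.left
      have htl : tl ≫ uk = ξ := Over.w t
      let r : Spec (CommRingCat.of Ω) ⟶ P' := pullback.lift tl ω (htl.trans e.symm)
      have hrf' : r ≫ fP = tl := pullback.lift_fst _ _ _
      have hrs : r ≫ sP = ω := pullback.lift_snd _ _ _
      have hgood : r.base default ∉ BP := fun h => htV ⟨_, h,
        (Scheme.Hom.comp_apply r fP default).symm.trans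
          (congrArg (fun m : Spec (CommRingCat.of Ω) ⟶ (U k).left => m.base default) hrf')⟩
      obtain ⟨l', hl'⟩ := Set.mem_iUnion.1 (Classical.not_not.1 hgood)
      have hr' : r.base default ∈ Ol l' := mem_of_mem_agreeSet _ _ _ _ _ _ _ hl'
      have hmem' : ω.base default ∈ O' l' := by rw [← hrs, Scheme.Hom.comp_apply]; exact hr'
      exact ((hGP l' ξ r t ω (hO'sub l' hmem') e hrf'.symm hrs hr').1 hl').trans
        ((hE l'.1 l.1 ξ ω (hO'sub l' hmem') (hO'sub l hωl) e).1 (hO'E l' l ⟨hmem', hωl⟩))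
  choose kx Vx hxV hVx using hchart
  let U' : X → X.Etale := fun x => Scheme.Etale.mk ((Vx x).ι ≫ (U (kx x)).hom)
  let incl : ∀ x, U' x ⟶ U (kx x) := fun x => MorphismProperty.Over.homMk (Vx x).ι rfl trivial
  obtain ⟨s, hs⟩ := exists_glue (F := F) U' (fun x => toTop (U' x))
    (fun x => by
      obtain ⟨v, hv, e⟩ := hxV x
      refine ⟨x, ⟨v, hv⟩, ?_⟩
      show ((Vx x).ι ≫ (U (kx x)).hom) ⟨v, hv⟩ = x
      rw [Scheme.Hom.comp_apply]
      exact e)
    (fun x => F.obj.map (incl x).op (a (kx x)))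
    (by
      intro x y V p p' _
      refine eq_of_germEq fun w => ?_
      let vh : V.left ⟶ X := V.hom
      obtain ⟨w', hw'⟩ := π.surjective (vh w)
      obtain ⟨r₀, hr₁, hr₂⟩ := Scheme.Pullback.exists_preimage_pullback (f := vh) (g := π) w w' hw'.symm
      obtain ⟨Ω, _, _, ρ, hρ⟩ := EtFound.exists_geomPoint r₀
      let ξ : Spec (CommRingCat.of Ω) ⟶ X := (ρ ≫ pullback.fst vh π) ≫ vh
      let t : (Scheme.pointSmallEtale ξ).fiber.obj V := Over.homMk (ρ ≫ pullback.fst vh π) rfl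
      obtain ⟨l, hl⟩ := Set.mem_iUnion.1 (hO'cov.ge (Set.mem_univ w'))
      have hl' : (ρ ≫ pullback.snd vh π).base default ∈ O' l := by
        rw [Scheme.Hom.comp_apply, hρ, hr₂]; exact hl
      have e : (ρ ≫ pullback.snd vh π) ≫ π = ξ :=
        (Category.assoc _ _ _).trans ((congrArg (ρ ≫ ·) pullback.condition.symm).trans (Category.assoc _ _ _).symm)
      have hw : ptOf t = w := (Scheme.Hom.comp_apply _ _ _).trans ((congrArg _ hρ).trans hr₁)
      rw [← hw]
      refine (germAt_eq_iff _ _ t).1 ?_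
      rw [germAt_map, germAt_map, germAt_map, germAt_map]
      refine (hVx x ξ _ l _ e hl' ?_).trans (hVx y ξ _ l _ e hl' ?_).symm
      · show (((ρ ≫ pullback.fst vh π) ≫ p.left) ≫ (Vx x).ι).base (default : Spec (CommRingCat.of Ω)) ∈ Vx x
        rw [Scheme.Hom.comp_apply]
        exact Subtype.property _
      · show (((ρ ≫ pullback.fst vh π) ≫ p'.left) ≫ (Vx y).ι).base (default : Spec (CommRingCat.of Ω)) ∈ Vx y
        rw [Scheme.Hom.comp_apply]
        exact Subtype.property _)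
  refine ⟨s, eq_of_germEq fun w => ?_⟩
  obtain ⟨v, hv, e⟩ := hxV (pullback.fst (𝟙 X) i w)
  obtain ⟨r, hr₁, -⟩ := Scheme.exists_preimage_of_isPullback
    (EtCoh.isPullback_bc_map i (toTop (U' (pullback.fst (𝟙 X) i w)))) w ⟨v, hv⟩ (by
      show pullback.fst (𝟙 X) i w = ((Vx _).ι ≫ (U _).hom) ⟨v, hv⟩
      rw [Scheme.Hom.comp_apply]
      exact e.symm)
  refine ⟨_, (EtCoh.bc i).map (toTop (U' (pullback.fst (𝟙 X) i w))), ⟨r, hr₁⟩, ?_⟩
  rw [← upSec_map, hs, upSec_map, show upSec F i (U (kx _)) (a (kx _)) = _ from (C (kx _).1).up, mapMap,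
    ← Functor.map_comp, toTop_uniq (incl _ ≫ toTop (U (kx _)))]

theorem bijective_unit_app :
    Function.Bijective (((EtCoh.pullPushAdj i).unit.app F).hom.app (op (EtCoh.top X))) :=
  ⟨unit_injective i F hfin, fun σ => exists_upSec_eq i F σ hfin⟩

end Groth.Agent.PBC50
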