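import Groth.Agent.SpecLib.Basic
import Mathlib.Topology.Spectral.Basic
import Mathlib.Topology.Sets.Opens

/-!
# Closed subsets of spectral spaces meeting the closure of every point in a connected set
-/

set_option autoImplicit false

set_option linter.style.haveILetI false

universe u v

open TopologicalSpace Topology

namespace Groth.Agent.PBC50

/-- `Z` meets the closure of every point in a nonempty connected set. -/
def ConnIn {X : Type u} [TopologicalSpace X] (Z : Set X) : Prop := ∀ x : X, IsConnected (Z ∩ closure {x})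

variable {X : Type u} [TopologicalSpace X]

theorem ConnIn.exists_specializes {Z : Set X} (h : ConnIn Z) (x : X) : ∃ z ∈ Z, x ⤳ z := by
  obtain ⟨z, hz, hzx⟩ := (h x).nonempty
  exact ⟨z, hz, specializes_iff_mem_closure.2 hzx⟩

theorem ConnIn.eq_empty_of_isClosed {Z : Set X} (h : ConnIn Z) {D : Set X} (hD : IsClosed D)
    (hDZ : D ∩ Z = ∅) : D = ∅ := by
  refine Set.eq_empty_of_forall_notMem fun x hx => ?_
  obtain ⟨z, hz, hxz⟩ := h.exists_specializes x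
  exact Set.eq_empty_iff_forall_notMem.1 hDZ z ⟨hxz.mem_closed hD hx, hz⟩

theorem cc_gen_of_isCompact [SpectralSpace X] {K : Set X} (hK : IsCompact K) :
    SpecLib.CC {x : X | ∃ a ∈ K, x ⤳ a} := by
  have e : {x : X | ∃ a ∈ K, x ⤳ a} = ⋂₀ {s : Set X | (IsOpen s ∧ IsCompact s) ∧ K ⊆ s} := by
    refine Set.Subset.antisymm (fun x ⟨a, ha, hxa⟩ s hs => hxa.mem_open hs.1.1 (hs.2 ha)) fun x hx => ?_
    by_contra hne
    have : ∀ v ∈ K, ∃ U : Set X, (IsOpen U ∧ IsCompact U) ∧ v ∈ U ∧ x ∉ U := fun v hv => by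
      by_contra h
      push Not at h
      exact hne ⟨v, hv, SpecLib.specializes_of_forall_qc fun U a b c => h U ⟨a, b⟩ c⟩
    choose! U hU heU hxU using this
    obtain ⟨t, htV, ht, hcov⟩ := hK.elim_finite_subcover_image (fun v hv => (hU v hv).1)
      (fun v hv => Set.mem_biUnion hv (heU v hv))
    obtain ⟨v, hv, hxv⟩ := Set.mem_iUnion₂.1 (hx (⋃ v ∈ t, U v) ⟨⟨isOpen_biUnion fun v hv => (hU v (htV hv)).1,
      ht.isCompact_biUnion fun v hv => (hU v (htV hv)).2⟩, hcov⟩)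
    exact hxU v (htV hv) hxv
  exact e ▸ SpecLib.CC.sInter fun s hs => SpecLib.cc_of_isOpen_isCompact hs.1.1 hs.1.2

/-- A finite covering of `Z` by quasi-compact opens, with transitive agreement loci containing `Z`, can
be shrunk to a covering of the whole space with agreement on all overlaps. -/
theorem exists_refinement [SpectralSpace X] {Z : Set X} (hZ : IsClosed Z) (hconn : ConnIn Z)
    {κ : Type v} [Finite κ] (O : κ → Set X) (hO : ∀ k, IsOpen (O k)) (hOc : ∀ k, IsCompact (O k))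
    (hcov : Z ⊆ ⋃ k, O k) (E : κ → κ → Set X) (hE : ∀ k l, IsOpen (E k l))
    (hEZ : ∀ k l, Z ∩ (O k ∩ O l) ⊆ E k l) (hsymm : ∀ k l, E k l ⊆ E l k)
    (htrans : ∀ k l m, ∀ x ∈ O k ∩ O l ∩ O m, x ∈ E k l → x ∈ E l m → x ∈ E k m) :
    ∃ O' : κ → Set X, (∀ k, IsOpen (O' k)) ∧ (∀ k, O' k ⊆ O k) ∧ Z ⊆ (⋃ k, O' k) ∧ (⋃ k, O' k) = Set.univ ∧
      ∀ k l, O' k ∩ O' l ⊆ E k l := by
  -- two charts through specializations into `Z` agree
  have hkey : ∀ (x : X) (k l : κ) (z z' : X), z ∈ Z ∩ O k → z' ∈ Z ∩ O l → x ⤳ z → x ⤳ z' → x ∈ E k l := by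
    intro x k l z z' hz hz' hxz hxz'
    by_contra hne
    let P : Set X := Z ∩ closure {x}
    let U₁ : Set X := ⋃ m ∈ {m | x ∈ O m ∧ x ∈ E k m}, O m
    let U₂ : Set X := ⋃ m ∈ {m | x ∈ O m ∧ x ∉ E k m}, O m
    have hxO : ∀ {w m}, w ∈ P → w ∈ O m → x ∈ O m := fun {w m} hw hm =>
      (specializes_iff_mem_closure.2 hw.2).mem_open (hO m) hm
    have hsub : P ⊆ U₁ ∪ U₂ := by
      intro w hw
      obtain ⟨m, hm⟩ := Set.mem_iUnion.1 (hcov hw.1)
      by_cases h : x ∈ E k m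
      · exact Or.inl (Set.mem_biUnion (x := m) ⟨hxO hw hm, h⟩ hm)
      · exact Or.inr (Set.mem_biUnion (x := m) ⟨hxO hw hm, h⟩ hm)
    have hxk : x ∈ O k := hxz.mem_open (hO k) hz.2
    have hxl : x ∈ O l := hxz'.mem_open (hO l) hz'.2
    have hkk : x ∈ E k k := hxz.mem_open (hE k k) (hEZ k k ⟨hz.1, hz.2, hz.2⟩)
    obtain ⟨w, hw, hw₁, hw₂⟩ := (hconn x).isPreconnected U₁ U₂ (isOpen_biUnion fun m _ => hO m)
      (isOpen_biUnion fun m _ => hO m) hsub ⟨z, ⟨hz.1, hxz.mem_closure⟩, Set.mem_biUnion (x := k) ⟨hxk, hkk⟩ hz.2⟩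
      ⟨z', ⟨hz'.1, hxz'.mem_closure⟩, Set.mem_biUnion (x := l) ⟨hxl, hne⟩ hz'.2⟩
    simp only [U₁, U₂, Set.mem_iUnion, Set.mem_ofPred_eq, exists_prop] at hw₁ hw₂
    obtain ⟨m, ⟨hm, hkm⟩, hwm⟩ := hw₁
    obtain ⟨m', ⟨hm', hkm'⟩, hwm'⟩ := hw₂
    have : x ∈ E m m' := (specializes_iff_mem_closure.2 hw.2).mem_open (hE m m') (hEZ m m' ⟨hw.1, hwm, hwm'⟩)
    exact hkm' (htrans k m m' x ⟨⟨hxk, hm⟩, hm'⟩ hkm this)
  let D : κ → κ → Set X := fun k l => ((O k ∩ O l) ∩ (E k l)ᶜ) ∩ {y | ∃ a ∈ Z ∩ O l, y ⤳ a}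
  have hD : ∀ k l, SpecLib.CC (D k l) := fun k l =>
    ((SpecLib.cc_of_isOpen_isCompact ((hO k).inter (hO l))
      (QuasiSeparatedSpace.inter_isCompact _ _ (hO k) (hOc k) (hO l) (hOc l))).inter
        (SpecLib.cc_of_isClosed (hE k l).isClosed_compl)).inter (cc_gen_of_isCompact ((hOc l).inter_left hZ))
  let O' : κ → Set X := fun k => O k ∩ ⋂ l, (closure (D k l))ᶜ
  have hcovZ : Z ⊆ ⋃ k, O' k := by
    intro z hz
    obtain ⟨k, hk⟩ := Set.mem_iUnion.1 (hcov hz)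
    refine Set.mem_iUnion.2 ⟨k, hk, Set.mem_iInter.2 fun l hl => ?_⟩
    obtain ⟨y, ⟨⟨_, hyE⟩, a, ha, hya⟩, hyz⟩ := (hD k l).exists_specializes hl
    exact hyE (hkey y k l z a ⟨hz, hk⟩ ha hyz hya)
  have hopen : ∀ k, IsOpen (O' k) := fun k =>
    (hO k).inter (isOpen_iInter_of_finite fun l => isClosed_closure.isOpen_compl)
  refine ⟨O', hopen, fun k => Set.inter_subset_left, hcovZ, ?_, ?_⟩
  · refine Set.eq_univ_of_forall fun x => ?_
    obtain ⟨z, hz, hxz⟩ := hconn.exists_specializes x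
    exact hxz.mem_open (isOpen_iUnion hopen) (hcovZ hz)
  · intro k l x hx
    obtain ⟨z, hz, hxz⟩ := hconn.exists_specializes x
    obtain ⟨m, hm⟩ := Set.mem_iUnion.1 (hcov hz)
    have hxm : x ∈ O m := hxz.mem_open (hO m) hm
    have key : ∀ k, x ∈ O' k → x ∈ E k m := by
      intro k hk
      by_contra hne
      exact Set.mem_iInter.1 hk.2 m (subset_closure ⟨⟨⟨hk.1, hxm⟩, hne⟩, z, ⟨hz, hm⟩, hxz⟩)
    exact htrans k m l x ⟨⟨hx.1.1, hxm⟩, hx.2.1⟩ (key k hx.1) (hsymm _ _ (key l hx.2))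

end Groth.Agent.PBC50
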