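import Groth.Agent.PBC50.ExtZeroTaut
import Groth.Agent.PBC50.Topo
import Groth.Agent.EtBCA.PushTorsion
import Groth.Agent.CdLib.Supp
import Mathlib.CategoryTheory.Limits.Constructions.Over.Basic

/-!
# Torsion sheaves are filtered colimits of constructible sheaves, with control of supports
-/

set_option autoImplicit false
set_option linter.style.haveILetI false

universe u

open CategoryTheory CategoryTheory.Limits AlgebraicGeometry Opposite TopologicalSpace

namespace Groth.Agent.PBC50.TorsColim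

set_option backward.isDefEq.respectTransparency.types false

open Groth.Agent.CdLib.Supp (pt)
open scoped ZeroObject

/-- the structure map -/
noncomputable abbrev hom' {X : Scheme.{u}} (U : X.Etale) : U.left ⟶ X := U.hom

variable {X : Scheme.{u}}

/-- constructible, supported away from a quasi-compact open whose complement lies in `S` -/
def Good (S : Set X) (G : EtCoh.Ab X) : Prop :=
  EtPBC.IsConstructible G ∧ ∃ W : X.Opens, IsCompact (W : Set X) ∧ (W : Set X)ᶜ ⊆ S ∧
    EtPBC.supp G ⊆ (W : Set X)ᶜ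

/-- `S` is adapted: closed subsets of affine etale schemes mapping into `S` avoid some allowed open -/
def Adapted (S : Set X) : Prop :=
  ∀ (U : X.Etale) [IsAffine U.left] (C : Set U.left), IsClosed C → (hom' U) '' C ⊆ S →
    ∃ W : X.Opens, IsCompact (W : Set X) ∧ (W : Set X)ᶜ ⊆ S ∧ Disjoint ((hom' U) '' C) (W : Set X)

variable {S : Set X}

theorem Good.of_iso {G G' : EtCoh.Ab X} (e : G ≅ G') (h : Good S G) : Good S G' :=
  ⟨EtFound.isConstructible_of_iso e h.1, h.2.imp fun W hW => ⟨hW.1, hW.2.1,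
    (CdLib.Supp.supp_mono e.inv).trans hW.2.2⟩⟩

theorem Good.cokernel {G G' : EtCoh.Ab X} (k : G ⟶ G') (hG : EtPBC.IsConstructible G) (h : Good S G') :
    Good S (Limits.cokernel k) :=
  ⟨EtFound.isConstructible_cokernel k hG h.1, h.2.imp fun W hW => ⟨hW.1, hW.2.1,
    (CdLib.Supp.supp_epi (cokernel.π k)).trans hW.2.2⟩⟩

theorem isConstructible_biprod {G G' : EtCoh.Ab X} (h : EtPBC.IsConstructible G)
    (h' : EtPBC.IsConstructible G') : EtPBC.IsConstructible (G ⊞ G') :=
  EtFound.isConstructible_of_extension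
    (S := ShortComplex.mk biprod.inl biprod.snd biprod.inl_snd)
    (ShortComplex.Splitting.ofHasBinaryBiproduct G G').shortExact h h'

theorem supp_biprod (G G' : EtCoh.Ab X) :
    EtPBC.supp (G ⊞ G') ⊆ EtPBC.supp G ∪ EtPBC.supp G' := by
  intro x hx
  obtain ⟨Ω, _, _, ξ, rfl, hne⟩ := CdLib.Supp.exists_of_mem_supp hx
  by_contra h
  rw [Set.mem_union, not_or] at h
  refine hne ((IsZero.iff_id_eq_zero _).2 ?_)
  have h₁ : (EtCoh.stalk ξ).map (biprod.fst : G ⊞ G' ⟶ G) = 0 :=
    (CdLib.Supp.isZero_stalk_of_notMem ξ h.1).eq_of_tgt _ _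
  have h₂ : (EtCoh.stalk ξ).map (biprod.snd : G ⊞ G' ⟶ G') = 0 :=
    (CdLib.Supp.isZero_stalk_of_notMem ξ h.2).eq_of_tgt _ _
  haveI := EtBCA.stalk_additive ξ
  rw [← (EtCoh.stalk ξ).map_id, ← biprod.total, Functor.map_add, Functor.map_comp, Functor.map_comp, h₁, h₂]
  simp

theorem Good.biprod [QuasiSeparatedSpace X] {G G' : EtCoh.Ab X} (h : Good S G) (h' : Good S G') :
    Good S (G ⊞ G') := by
  refine ⟨isConstructible_biprod h.1 h'.1, ?_⟩
  obtain ⟨W, hW, hWS, hsG⟩ := h.2
  obtain ⟨W', hW', hWS', hsG'⟩ := h'.2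
  refine ⟨W ⊓ W', QuasiSeparatedSpace.inter_isCompact _ _ W.isOpen hW W'.isOpen hW', ?_, ?_⟩
  · rw [Opens.coe_inf, Set.compl_inter]
    exact Set.union_subset hWS hWS'
  · rw [Opens.coe_inf, Set.compl_inter]
    exact (supp_biprod G G').trans (Set.union_subset_union hsG hsG')

theorem Good.zero [CompactSpace X] : Good S (0 : EtCoh.Ab X) :=
  ⟨EtFound.isConstructible_of_isZero (isZero_zero _), ⊤, isCompact_univ, by simp, fun x hx => by
    obtain ⟨Ω, _, _, ξ, -, hne⟩ := CdLib.Supp.exists_of_mem_supp hx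
    exact absurd ((EtCoh.stalk ξ).map_isZero (isZero_zero _)) hne⟩

theorem isLTorsion_univ_iff {G : EtCoh.Ab X} : EtAcyc.IsLTorsion Set.univ G ↔ EtCoh.IsTorsion G := by
  refine ⟨fun h U s x => ?_, fun h U s x => ?_⟩
  · obtain ⟨V, g, m, hv, hm, h0⟩ := h U s x
    exact ⟨V, g, hv, isOfFinAddOrder_iff_nsmul_eq_zero.2 ⟨m, hm.1, h0⟩⟩
  · obtain ⟨V, g, hv, h0⟩ := h U s x
    obtain ⟨m, hm, hm0⟩ := isOfFinAddOrder_iff_nsmul_eq_zero.1 h0
    exact ⟨V, g, m, hv, ⟨hm, fun p _ _ => Set.mem_univ p⟩, hm0⟩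

variable [CompactSpace X] [QuasiSeparatedSpace X]

/-- every element of a stalk of a torsion sheaf supported in `S` comes from a good sheaf -/
theorem exists_good_hom (hS : Adapted S) {F : EtCoh.Ab X} (hF : EtCoh.IsTorsion F)
    (hsupp : EtPBC.supp F ⊆ S) {Ω : Type u} [Field Ω] [IsSepClosed Ω] (ξ : Spec (CommRingCat.of Ω) ⟶ X)
    (c : (EtCoh.stalk ξ).obj F) :
    ∃ (G : EtCoh.Ab X) (h : G ⟶ F), Good S G ∧ ∃ g, (EtCoh.stalk ξ).map h g = c := by
  obtain ⟨U₀, t₀, s₀, rfl⟩ := (Scheme.pointSmallEtale ξ).toPresheafFiber_jointly_surjective (P := F.obj) c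
  obtain ⟨A, hA, huA, -⟩ := exists_isAffineOpen_mem_and_subset (U := (⊤ : U₀.left.Opens)) (x := ptOf t₀) trivial
  haveI : AlgebraicGeometry.Etale U₀.hom := U₀.prop
  let U : X.Etale := Scheme.Etale.mk (A.ι ≫ U₀.hom)
  let r : U ⟶ U₀ := MorphismProperty.Over.homMk A.ι rfl
  obtain ⟨t, ht, -⟩ := EtFound.exists_lift_point r t₀ ⟨ptOf t₀, huA⟩ rfl
  let s : EtCoh.sect F U := F.obj.map r.op s₀
  haveI : IsAffine U.left := hA
  haveI : CompactSpace ↥U.left := inferInstance
  obtain ⟨n, hn, hns⟩ := EtBCA.exists_nsmul_eq_zero (isLTorsion_univ_iff.2 hF) U s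
  haveI : NeZero n := ⟨hn.1.ne'⟩
  let C : Set U.left := {w | ¬ GermEq F s 0 w}
  have hC : IsClosed C := (isOpen_germEq s 0).isClosed_compl
  have hCS : (hom' U) '' C ⊆ S := by
    rintro _ ⟨w, hw, rfl⟩
    obtain ⟨Ω', _, _, ξ', t', ht'⟩ := EtFound.exists_point_through U w
    refine hsupp ?_
    have hpt : pt ξ' = (hom' U) w := by
      have h : (t'.left : Spec (CommRingCat.of Ω') ⟶ U.left) ≫ (hom' U) = ξ' := Over.w t'
      rw [← h]
      exact (Scheme.Hom.comp_apply _ _ _).trans (congrArg _ (ht' default))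
    rw [← hpt]
    refine CdLib.Supp.mem_supp_of_stalk ξ' fun hz => hw ?_
    rw [← show ptOf t' = w from ht' default]
    exact (germAt_eq_iff s 0 t').1 ((AddCommGrpCat.subsingleton_of_isZero hz).elim _ _)
  obtain ⟨W, hW, hWS, hdisj⟩ := hS U C hC hCS
  let O : U.left.Opens := (hom' U) ⁻¹ᵁ W
  haveI : AlgebraicGeometry.Etale (hom' U) := U.prop
  let V : X.Etale := Scheme.Etale.mk (O.ι ≫ (hom' U))
  let i : V ⟶ U := MorphismProperty.Over.homMk O.ι rfl
  haveI : QuasiCompact (hom' U) := quasiCompact_of_compactSpace ((hom' U) : U.left ⟶ X)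
  haveI : CompactSpace ↥V.left :=
    isCompact_iff_compactSpace.1 ((hom' U).isCompact_preimage hW)
  haveI : QuasiSeparatedSpace ↥V.left := QuasiSeparatedSpace.of_isOpenEmbedding O.ι.isOpenEmbedding
  let P := EtPBC.extZeroConst U (ZMod n)
  let L : ZMod n →+ EtCoh.sect F U := ZMod.lift n ⟨zmultiplesHom _ s, by simpa [natCast_zsmul] using hns⟩
  obtain ⟨h, hh⟩ := EtFound.exists_hom_taut (M := ZMod n) (U := U) (F := F) (AddCommGrpCat.ofHom
    (L.comp (AddEquiv.ulift : ULift.{u + 1} (ZMod n) ≃+ ZMod n).toAddMonoidHom))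
  obtain ⟨k, hk⟩ := EtFound.exists_hom_taut (M := ZMod n) (U := V) (F := P) (EtFound.taut U (ZMod n) ≫ P.obj.map i.op)
  have hVs : F.obj.map i.op s = 0 := by
    refine eq_of_germEq fun v => ?_
    obtain ⟨Ω', _, _, ξ', t', ht'⟩ := EtFound.exists_point_through V v
    rw [← show ptOf t' = v from ht' default]
    refine (germAt_eq_iff _ _ t').1 ?_
    have hsame : germAt F ((Scheme.pointSmallEtale ξ').fiber.map i t') s =
        germAt F ((Scheme.pointSmallEtale ξ').fiber.map i t') 0 := by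
      refine (germAt_eq_iff _ _ _).2 (Classical.not_not.1 fun hw => Set.disjoint_left.1 hdisj ⟨_, hw, rfl⟩ ?_)
      show (hom' U) (((t'.left : Spec (CommRingCat.of Ω') ⟶ V.left) ≫ O.ι).base (default : Spec (CommRingCat.of Ω'))) ∈ W
      rw [Scheme.Hom.comp_apply]
      exact (show O.toScheme from (t'.left : Spec (CommRingCat.of Ω') ⟶ V.left).base (default : Spec (CommRingCat.of Ω'))).2
    exact (germAt_map i t' s).trans (hsame.trans ((map_zero _).trans (map_zero _).symm))
  have hkh : k ≫ h = 0 := by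
    refine EtFound.hom_ext_taut _ _ (AddCommGrpCat.ext fun m => ?_)
    show h.hom.app (op V) (k.hom.app (op V) (EtFound.taut V (ZMod n) m)) = 0
    refine (congrArg (h.hom.app (op V)) (ConcreteCategory.congr_hom hk m)).trans ?_
    refine (NatTrans.naturality_apply h.hom i.op (EtFound.taut U (ZMod n) m)).trans ?_
    refine (congrArg (F.obj.map i.op) (ConcreteCategory.congr_hom hh m)).trans ?_
    obtain ⟨j, hj⟩ := ZMod.intCast_surjective m.down
    show F.obj.map i.op (L m.down) = 0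
    rw [← hj, show L (j : ZMod n) = j • s from ZMod.lift_coe n _ j, map_zsmul, hVs, zsmul_zero]
  haveI : IsAffine U.left := hA
  have hgood : Good S (cokernel k) := by
    refine ⟨EtFound.isConstructible_cokernel k (S0133.result X V (ZMod n)) (S0133.result X U (ZMod n)),
      W, hW, hWS, fun x hx hxW => ?_⟩
    obtain ⟨Ω', _, _, ξ', rfl, hne⟩ := CdLib.Supp.exists_of_mem_supp hx
    refine hne ((IsZero.iff_id_eq_zero _).2 (AddCommGrpCat.ext fun a => ?_))
    obtain ⟨b, rfl⟩ := (EtFound.epi_iff_stalks (cokernel.π k)).1 inferInstance Ω' ξ' a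
    have hsurj : Function.Surjective ((EtCoh.stalk ξ').map k) := by
      refine surjective_stalk_of_taut k ξ' fun t' m => ?_
      have hw : ptOf t' ∈ O := by
        show (hom' U) (ptOf t') ∈ W
        have h' : (t'.left : Spec (CommRingCat.of Ω') ⟶ U.left) ≫ (hom' U) = ξ' := Over.w t'
        have h'' : (hom' U) (ptOf t') = pt ξ' := (Scheme.Hom.comp_apply _ _ _).symm.trans
          (congrArg (fun m : Spec (CommRingCat.of Ω') ⟶ X => m.base default) h')
        rw [h'']
        exact hxW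
      obtain ⟨t'', ht'', -⟩ := EtFound.exists_lift_point i t' ⟨ptOf t', hw⟩ rfl
      refine ⟨germAt (EtPBC.extZeroConst V (ZMod n)) t'' (EtFound.taut V (ZMod n) m), ?_⟩
      refine ((Scheme.pointSmallEtale ξ').toPresheafFiber_naturality_apply k.hom V t'' _).trans ?_
      refine (congrArg _ (ConcreteCategory.congr_hom hk m)).trans ?_
      show germAt P t'' (P.obj.map i.op (EtFound.taut U (ZMod n) m)) = _
      rw [germAt_map, ht'']
    obtain ⟨d, rfl⟩ := hsurj b
    haveI := EtBCA.stalk_additive ξ'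
    show (EtCoh.stalk ξ').map (cokernel.π k) ((EtCoh.stalk ξ').map k d) = 0
    rw [← ConcreteCategory.comp_apply, ← Functor.map_comp, cokernel.condition, Functor.map_zero]
    rfl
  let one : ULift.{u + 1} (ZMod n) := ⟨1⟩
  refine ⟨cokernel k, cokernel.desc k h hkh, hgood,
    (EtCoh.stalk ξ).map (cokernel.π k) (germAt P t (EtFound.taut U (ZMod n) one)), ?_⟩
  rw [← ConcreteCategory.comp_apply, ← Functor.map_comp, cokernel.π_desc]
  refine ((Scheme.pointSmallEtale ξ).toPresheafFiber_naturality_apply h.hom U t _).trans ?_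
  refine (congrArg _ (ConcreteCategory.congr_hom hh one)).trans ?_
  show germAt F t (L 1) = _
  rw [show L 1 = (1 : ℤ) • s from (congrArg L (Int.cast_one (R := ZMod n)).symm).trans (ZMod.lift_coe n _ 1),
    one_zsmul, germAt_map, ht]

/-- relations between good sheaves come from good sheaves -/
theorem exists_good_relation (hS : Adapted S) {G F : EtCoh.Ab X} (hG : Good S G) (h : G ⟶ F)
    {Ω : Type u} [Field Ω] [IsSepClosed Ω] (ξ : Spec (CommRingCat.of Ω) ⟶ X)
    (y : (EtCoh.stalk ξ).obj G) (hy : (EtCoh.stalk ξ).map h y = 0) :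
    ∃ (G' : EtCoh.Ab X) (k : G' ⟶ G), Good S G' ∧ k ≫ h = 0 ∧ y ∈ Set.range ((EtCoh.stalk ξ).map k) := by
  haveI := EtBCA.stalk_additive ξ
  have hex : ((ShortComplex.mk (kernel.ι h) h (kernel.condition _)).map (EtCoh.stalk ξ)).Exact :=
    (ShortComplex.exact_of_f_is_kernel _ (kernelIsKernel _)).map _
  obtain ⟨x, hx⟩ := (ShortComplex.ab_exact_iff _).1 hex y hy
  obtain ⟨n, hn, hn0⟩ := EtFound.exists_killedBy X hG.1
  have hK : EtCoh.IsTorsion (kernel h) := isLTorsion_univ_iff.1
    (EtBCA.isLTorsion_of_nsmul_id_eq_zero ⟨hn, fun p _ _ => Set.mem_univ p⟩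
      (EtFound.nsmul_of_mono (kernel.ι h) hn0))
  obtain ⟨W, hW, hWS, hGW⟩ := hG.2
  obtain ⟨G', k, hG', g, hg⟩ := exists_good_hom hS hK
    (((CdLib.Supp.supp_mono (kernel.ι h)).trans hGW).trans hWS) ξ x
  refine ⟨G', k ≫ kernel.ι h, hG', by rw [Category.assoc, kernel.condition, comp_zero], g, ?_⟩
  rw [Functor.map_comp, ConcreteCategory.comp_apply, hg]
  exact hx

/-- presentations of constructible sheaves -/
structure Pres (X : Scheme.{u}) : Type (u + 1) where
  /-- the exponent -/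
  n : ℕ
  /-- number of relations -/
  a : ℕ
  /-- number of generators -/
  b : ℕ
  /-- the relations -/
  V : Fin a → X.Etale
  /-- the generators -/
  U : Fin b → X.Etale
  /-- the matrix -/
  φ : (⨁ fun j => EtPBC.extZeroConst (V j) (ZMod n)) ⟶ ⨁ fun i => EtPBC.extZeroConst (U i) (ZMod n)

/-- the sheaf presented -/
noncomputable def Pres.sheaf (p : Pres X) : EtCoh.Ab X := cokernel p.φ

theorem exists_pres {G : EtCoh.Ab X} (hG : EtPBC.IsConstructible G) :
    ∃ p : Pres X, Nonempty (G ≅ p.sheaf) := by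
  obtain ⟨n, hn, hn0⟩ := EtFound.exists_killedBy X hG
  haveI : NeZero n := ⟨hn.ne'⟩
  obtain ⟨a, b, V, U, -, -, φ, e⟩ := EtFound.exists_presentation X hG hn0
  exact ⟨⟨n, a, b, V, U, φ⟩, e⟩

/-- the index of the canonical system of `F` -/
def Idx (S : Set X) (F : EtCoh.Ab X) : Type (u + 1) :=
  Σ p : {p : Pres X // Good S p.sheaf}, p.1.sheaf ⟶ F

/-- the comparison with sheaves over `F` -/
noncomputable def toOver (F : EtCoh.Ab X) (j : Idx S F) : Over F := Over.mk j.2

theorem exists_idx {F G : EtCoh.Ab X} (hG : Good S G) (h : G ⟶ F) :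
    ∃ (j : InducedCategory (Over F) (toOver (S := S) F)) (e : G ≅ j.1.1.sheaf), e.hom ≫ j.2 = h := by
  obtain ⟨p, ⟨e⟩⟩ := exists_pres hG.1
  exact ⟨(⟨⟨p, hG.of_iso e⟩, e.inv ≫ h⟩ : Idx S F), e, e.hom_inv_id_assoc h⟩

theorem isFiltered_idx (F : EtCoh.Ab X) : IsFiltered (InducedCategory (Over F) (toOver (S := S) F)) where
  nonempty := by
    obtain ⟨j, -, -⟩ := exists_idx (F := F) (Good.zero (S := S)) 0
    exact ⟨j⟩
  cocone_objs a b := by
    obtain ⟨c, e, he⟩ := exists_idx (a.1.2.biprod b.1.2) (biprod.desc a.2 b.2)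
    refine ⟨c, InducedCategory.homMk (Over.homMk (biprod.inl ≫ e.hom) ?_),
      InducedCategory.homMk (Over.homMk (biprod.inr ≫ e.hom) ?_), trivial⟩
    · show (biprod.inl ≫ e.hom) ≫ c.2 = a.2
      rw [Category.assoc, he, biprod.inl_desc]
    · show (biprod.inr ≫ e.hom) ≫ c.2 = b.2
      rw [Category.assoc, he, biprod.inr_desc]
  cocone_maps a b f g := by
    let d : a.1.1.sheaf ⟶ b.1.1.sheaf := f.hom.left - g.hom.left
    have hd : d ≫ b.2 = 0 := by
      erw [Preadditive.sub_comp, show f.hom.left ≫ b.2 = a.2 from Over.w f.hom,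
        show g.hom.left ≫ b.2 = a.2 from Over.w g.hom, sub_self]
    obtain ⟨c, e, he⟩ := exists_idx (b.1.2.cokernel d a.1.2.1) (cokernel.desc d b.2 hd)
    refine ⟨c, InducedCategory.homMk (Over.homMk (cokernel.π d ≫ e.hom) ?_), ?_⟩
    · show (cokernel.π d ≫ e.hom) ≫ c.2 = b.2
      rw [Category.assoc, he, cokernel.π_desc]
    · refine InducedCategory.hom_ext (Over.OverMorphism.ext ?_)
      show f.hom.left ≫ cokernel.π d ≫ e.hom = g.hom.left ≫ cokernel.π d ≫ e.hom
      have h0 : d ≫ cokernel.π d ≫ e.hom = 0 :=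
        (Category.assoc _ _ _).symm.trans ((congrArg (· ≫ e.hom) (cokernel.condition d)).trans zero_comp)
      exact sub_eq_zero.1 ((Preadditive.sub_comp _ _ _).symm.trans h0)

/-- torsion sheaves supported in an adapted set are filtered colimits of good sheaves -/
theorem exists_colimit (hS : Adapted S) (F : EtCoh.Ab X) (hF : EtCoh.IsTorsion F) (hsupp : EtPBC.supp F ⊆ S) :
    ∃ (J : Type (u + 1)) (_ : SmallCategory J) (_ : IsFiltered J) (D : J ⥤ EtCoh.Ab X)
      (c : Cocone D) (_ : IsColimit c), Nonempty (c.pt ≅ F) ∧ ∀ j, Good S (D.obj j) := by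
  let J := InducedCategory (Over F) (toOver (S := S) F)
  haveI : IsFiltered J := isFiltered_idx F
  let D : J ⥤ EtCoh.Ab X := inducedFunctor (toOver (S := S) F) ⋙ Over.forget F
  let cF : Cocone D :=
    ⟨F, { app := fun j => j.2
          naturality := fun a b f => (Over.w f.hom).trans (Category.comp_id _).symm }⟩
  refine ⟨J, inferInstance, inferInstance, D, colimit.cocone D, colimit.isColimit D, ⟨?_⟩, fun j => j.1.2⟩
  refine @asIso _ _ _ _ (colimit.desc D cF) ((EtFound.isIso_iff_stalks _).2 fun Ω _ _ ξ => ?_)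
  refine (ConcreteCategory.isIso_iff_bijective _).2 ⟨?_, fun c => ?_⟩
  · refine (injective_iff_map_eq_zero _).2 fun x hx => ?_
    obtain ⟨j, y, rfl⟩ := Concrete.isColimit_exists_rep _
      (isColimitOfPreserves (EtCoh.stalk ξ) (colimit.isColimit D)) x
    change (EtCoh.stalk ξ).map (colimit.desc D cF) ((EtCoh.stalk ξ).map (colimit.ι D j) y) = 0 at hx
    rw [← ConcreteCategory.comp_apply, ← Functor.map_comp, colimit.ι_desc] at hx
    obtain ⟨G', k, hG', hk, z, rfl⟩ := exists_good_relation hS j.1.2 j.2 ξ y hx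
    obtain ⟨l, e, he⟩ := exists_idx (j.1.2.cokernel k hG'.1) (cokernel.desc k j.2 hk)
    let f : j ⟶ l := InducedCategory.homMk (Over.homMk (cokernel.π k ≫ e.hom) (by
      show (cokernel.π k ≫ e.hom) ≫ l.2 = j.2
      rw [Category.assoc, he, cokernel.π_desc]))
    have h0 : k ≫ (colimit.ι D j : j.1.1.sheaf ⟶ colimit D) = 0 := by
      refine (congrArg (k ≫ ·) (colimit.w D f).symm).trans ?_
      show k ≫ (cokernel.π k ≫ e.hom) ≫ colimit.ι D l = 0
      exact (congrArg (k ≫ ·) (Category.assoc _ _ _)).trans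
        ((Category.assoc _ _ _).symm.trans ((congrArg (· ≫ _) (cokernel.condition k)).trans zero_comp))
    haveI := EtBCA.stalk_additive ξ
    have h1 := congrArg ((EtCoh.stalk ξ).map ·) h0
    simp only [Functor.map_comp, Functor.map_zero] at h1
    exact ConcreteCategory.congr_hom h1 z
  · obtain ⟨G, h, hG, g, rfl⟩ := exists_good_hom hS hF hsupp ξ c
    obtain ⟨j, e, he⟩ := exists_idx hG h
    refine ⟨(EtCoh.stalk ξ).map (e.hom ≫ colimit.ι D j) g, ?_⟩
    refine (ConcreteCategory.congr_hom ((EtCoh.stalk ξ).map_comp (e.hom ≫ colimit.ι D j) (colimit.desc D cF)).symm g).trans ?_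
    refine congrArg (fun m : G ⟶ F => (EtCoh.stalk ξ).map m g) ?_
    exact (Category.assoc _ _ _).trans ((congrArg (e.hom ≫ ·) (colimit.ι_desc cF j)).trans he)

omit [CompactSpace X] in
theorem adapted_univ : Adapted (Set.univ : Set X) :=
  fun _ _ _ _ _ => ⟨⊥, isCompact_empty, Set.subset_univ _, by simp⟩

/-- specializations of the image of a closed subset of an affine etale scheme -/
theorem exists_specializes_of_mem_closure (U : X.Etale) [IsAffine U.left] {C : Set U.left} (hC : IsClosed C)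
    {y : X} (hy : y ∈ closure ((hom' U) '' C)) : ∃ a ∈ (hom' U) '' C, a ⤳ y := by
  haveI : SpectralSpace X := { }
  haveI : QuasiCompact (hom' U) := quasiCompact_of_compactSpace ((hom' U) : U.left ⟶ X)
  haveI : SpectralSpace U.left := { }
  exact (SpecLib.CC.image (hom' U).isSpectralMap (SpecLib.cc_of_isClosed hC)).exists_specializes hy

theorem adapted_of_stableUnderSpecialization [IsNoetherian X] {E : Set X} (hE : StableUnderSpecialization E) :
    Adapted E := by
  intro U _ C hC hCE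
  refine ⟨⟨(closure ((hom' U) '' C))ᶜ, isClosed_closure.isOpen_compl⟩, NoetherianSpace.isCompact _, ?_,
    Set.disjoint_left.2 fun y hy hy' => hy' (subset_closure hy)⟩
  show ((closure ((hom' U) '' C))ᶜ)ᶜ ⊆ E
  rw [compl_compl]
  intro y hy
  obtain ⟨a, ha, hay⟩ := exists_specializes_of_mem_closure U hC hy
  exact hE hay (hCE ha)

theorem adapted_compl_genericPoint [IrreducibleSpace X] : Adapted ({genericPoint X}ᶜ : Set X) := by
  intro U _ C hC hCE
  have hη : genericPoint X ∈ (closure ((hom' U) '' C))ᶜ := fun hy => by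
    obtain ⟨a, ha, hay⟩ := exists_specializes_of_mem_closure U hC hy
    exact hCE ha (Specializes.antisymm hay ((genericPoint_spec X).specializes trivial)).eq
  obtain ⟨W, hW, hηW, hWC⟩ := exists_isAffineOpen_mem_and_subset (X := X)
    (U := ⟨(closure ((hom' U) '' C))ᶜ, isClosed_closure.isOpen_compl⟩) (x := genericPoint X) hη
  exact ⟨W, hW.isCompact, fun x hx hxη => hx ((Set.mem_singleton_iff.1 hxη) ▸ hηW),
    Set.disjoint_left.2 fun y hy hy' => hWC hy' (subset_closure hy)⟩

end Groth.Agent.PBC50.TorsColim
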