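import Groth.Agent.CdLib.Devissage
import Groth.Agent.CdLib.ExtVanish
import Groth.Agent.SiteBase.LerayTop
import Groth.Agent.EtFound.AbRecollement
import Groth.Agent.EtFound.PushExact
import Groth.Agent.PBC50.Gabber
import Groth.Agent.PBC50.TorsColim
import Groth.Agent.EtBCA.Torsion
import Groth.Agent.EtFound.NoethACC
import Groth.Agent.EtFound.NoethConstr

/-!
# Direct images along integral morphisms, and sheaves vanishing on a closed subscheme
-/

set_option autoImplicit false
set_option linter.style.haveILetI false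

universe u

open CategoryTheory CategoryTheory.Limits AlgebraicGeometry Opposite CategoryTheory.Abelian

namespace Groth.Agent.PBC50

set_option backward.isDefEq.respectTransparency.types false

variable {X Y : Scheme.{u}}

theorem isZero_Rpush_integral (f : Y ⟶ X) [IsIntegralHom f] (F : EtCoh.Ab Y) (q : ℕ) :
    IsZero ((EtCoh.Rpush f (q + 1)).obj F) := by
  have := EtFound.push_preservesFiniteColimits f
  have := EtFound.push_preservesFiniteLimits f
  exact LerayDegen.isZero_rightDerived_of_exact (EtCoh.push f) F q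

theorem subsingleton_H_push_integral (f : Y ⟶ X) [IsIntegralHom f] (F : EtCoh.Ab Y) (q : ℕ)
    (h : Subsingleton (EtCoh.H Y F q)) : Subsingleton (EtCoh.H X ((EtCoh.push f).obj F) q) :=
  CdLib.Devissage.subsingleton_H_push f F q h fun a b _ =>
    CdLib.Devissage.subsingleton_H_of_isZero _ (isZero_Rpush_integral f F b) a

theorem isTorsion_push_integral (f : Y ⟶ X) [IsIntegralHom f] {F : EtCoh.Ab Y} (hF : EtCoh.IsTorsion F) :
    EtCoh.IsTorsion ((EtCoh.push f).obj F) :=
  TorsColim.isLTorsion_univ_iff.1 (EtBCA.isLTorsion_push f (TorsColim.isLTorsion_univ_iff.2 hF))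

theorem isTorsion_of_mono {F G : EtCoh.Ab X} (φ : F ⟶ G) [Mono φ] (h : EtCoh.IsTorsion G) : EtCoh.IsTorsion F :=
  TorsColim.isLTorsion_univ_iff.1 (EtBCA.isLTorsion_of_mono φ (TorsColim.isLTorsion_univ_iff.2 h))

theorem isTorsion_of_epi {F G : EtCoh.Ab X} (φ : F ⟶ G) [Epi φ] (h : EtCoh.IsTorsion F) : EtCoh.IsTorsion G :=
  TorsColim.isLTorsion_univ_iff.1 (EtBCA.isLTorsion_of_epi φ (TorsColim.isLTorsion_univ_iff.2 h))

theorem isTorsion_of_isConstructible [CompactSpace X] [QuasiSeparatedSpace X] {F : EtCoh.Ab X}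
    (h : EtPBC.IsConstructible F) : EtCoh.IsTorsion F := by
  obtain ⟨n, hn, hn0⟩ := EtFound.exists_killedBy X h
  exact TorsColim.isLTorsion_univ_iff.1
    (EtBCA.isLTorsion_of_nsmul_id_eq_zero ⟨hn, fun p _ _ => Set.mem_univ p⟩ hn0)

section closed

variable {Z : Scheme.{u}} (i : Z ⟶ X) [IsClosedImmersion i]

/-- the sheaf vanishes on the closed subscheme -/
def OffClosed (F : EtCoh.Ab X) : Prop := IsZero ((EtCoh.pull i).obj F)

set_option linter.unusedSectionVars false

variable {i}

theorem OffClosed.of_mono {F G : EtCoh.Ab X} (φ : F ⟶ G) [Mono φ] (h : OffClosed i G) : OffClosed i F := by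
  haveI := EtFound.pull_preservesFiniteLimits i
  exact IsZero.of_mono ((EtCoh.pull i).map φ) h

theorem OffClosed.of_epi {F G : EtCoh.Ab X} (φ : F ⟶ G) [Epi φ] (h : OffClosed i F) : OffClosed i G := by
  haveI : (EtCoh.pull i).IsLeftAdjoint := (EtCoh.pullPushAdj i).isLeftAdjoint
  exact IsZero.of_epi ((EtCoh.pull i).map φ) h

theorem OffClosed.comp_unit_eq_zero {F G : EtCoh.Ab X} (h : OffClosed i F) (φ : F ⟶ G) :
    φ ≫ (EtCoh.pullPushAdj i).unit.app G = 0 := by
  apply ((EtCoh.pullPushAdj i).homEquiv F ((EtCoh.pull i).obj G)).symm.injective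
  exact h.eq_of_src _ _

theorem epi_unit_closed (F : EtCoh.Ab X) : Epi ((EtCoh.pullPushAdj i).unit.app F) := by
  refine (EtFound.epi_iff_stalks _).2 fun Ω _ _ ξ => ?_
  by_cases hξ : ξ.base (default : Spec (CommRingCat.of Ω)) ∈ Set.range i.base
  · exact ((ConcreteCategory.isIso_iff_bijective _).1 (EtFound.isIso_stalk_unit_closed i F ξ hξ)).2
  · exact fun b => ⟨0, @Subsingleton.elim _
      (AddCommGrpCat.subsingleton_of_isZero (EtFound.isZero_stalk_push_closed i _ ξ hξ)) _ b⟩

theorem offClosed_kernel_unit (F : EtCoh.Ab X) : OffClosed i (kernel ((EtCoh.pullPushAdj i).unit.app F)) := by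
  haveI := EtFound.pull_preservesFiniteLimits i
  haveI : (EtCoh.pull i).IsLeftAdjoint := (EtCoh.pullPushAdj i).isLeftAdjoint
  haveI := EtFound.counit_isIso (A := AddCommGrpCat.{u + 1}) i (EtFound.liftable_of_isClosedImmersion i)
    ((EtCoh.pull i).obj F)
  haveI : IsIso ((EtCoh.pull i).map ((EtCoh.pullPushAdj i).unit.app F)) :=
    @IsIso.of_isIso_fac_right _ _ _ _ _ _ _ _ this (IsIso.id _) ((EtCoh.pullPushAdj i).left_triangle_components F)
  refine (IsZero.iff_id_eq_zero _).2 ?_
  have h0 : (EtCoh.pull i).map (kernel.ι ((EtCoh.pullPushAdj i).unit.app F)) = 0 := by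
    rw [← cancel_mono ((EtCoh.pull i).map ((EtCoh.pullPushAdj i).unit.app F)), zero_comp, ← Functor.map_comp,
      kernel.condition, Functor.map_zero]
  rw [← cancel_mono ((EtCoh.pull i).map (kernel.ι ((EtCoh.pullPushAdj i).unit.app F))), h0, comp_zero, comp_zero]

/-- the sequence of the kernel of the unit -/
noncomputable abbrev unitSeq (F : EtCoh.Ab X) : ShortComplex (EtCoh.Ab X) :=
  ShortComplex.mk (kernel.ι ((EtCoh.pullPushAdj i).unit.app F)) ((EtCoh.pullPushAdj i).unit.app F)
    (kernel.condition _)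

theorem unitSeq_shortExact (F : EtCoh.Ab X) : (unitSeq (i := i) F).ShortExact :=
  ShortComplex.ShortExact.mk' (ShortComplex.exact_of_f_is_kernel _ (kernelIsKernel _)) inferInstance
    (epi_unit_closed F)

theorem H_map_bijective_of_subsingleton {F : EtCoh.Ab X}
    (h : ∀ q, Subsingleton (EtCoh.H X (kernel ((EtCoh.pullPushAdj i).unit.app F)) q)) (q : ℕ) :
    Function.Bijective (Sheaf.H.map ((EtCoh.pullPushAdj i).unit.app F) q) := by
  have hS := unitSeq_shortExact (i := i) F
  refine ⟨(injective_iff_map_eq_zero _).2 fun x hx => ?_, fun y => ?_⟩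
  · obtain ⟨z, rfl⟩ := Ext.covariant_sequence_exact₂ _ hS x hx
    rw [(h q).elim z 0, Ext.zero_comp]
  · exact (Ext.covariant_sequence_exact₃ _ hS y rfl ((h (q + 1)).elim _ _)).imp fun _ e => e

variable [CompactSpace X] [QuasiSeparatedSpace X]
  (hfin : ∀ (X' : Scheme.{u}) (π : X' ⟶ X) [IsFinite π], ConnIn (π ⁻¹' Set.range i))

include hfin in
theorem bijective_H0_unit (F : EtCoh.Ab X) :
    Function.Bijective (Sheaf.H.map ((EtCoh.pullPushAdj i).unit.app F) 0) := by
  let hT := EtCore.topIsTerminal X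
  let φ := (EtCoh.pullPushAdj i).unit.app F
  have e : ⇑(Sheaf.H.map φ 0) =
      (Sheaf.H.equiv₀ _ hT).symm ∘ φ.hom.app (op (EtCoh.top X)) ∘ Sheaf.H.equiv₀ _ hT := by
    funext x
    obtain ⟨t, rfl⟩ := (Sheaf.H.equiv₀ _ hT).symm.surjective x
    exact (Sheaf.H.equiv₀_symm_naturality hT φ t).trans
      (congrArg (fun y => (Sheaf.H.equiv₀ _ hT).symm (φ.hom.app _ y)) ((Sheaf.H.equiv₀ _ hT).apply_symm_apply t).symm)
  rw [e]
  exact ((Sheaf.H.equiv₀ _ hT).symm.bijective.comp (bijective_unit_app i F hfin)).comp (Sheaf.H.equiv₀ _ hT).bijective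

include hfin in
theorem subsingleton_H_zero {F : EtCoh.Ab X} (h : OffClosed i F) : Subsingleton (EtCoh.H X F 0) := by
  haveI : (EtCoh.push i).IsRightAdjoint := (EtCoh.pullPushAdj i).isRightAdjoint
  haveI : PreservesLimitsOfShape (Discrete PEmpty.{1}) (EtCoh.push i) := inferInstance
  have hz : IsZero ((EtCoh.push i).obj ((EtCoh.pull i).obj F)) := (EtCoh.push i).map_isZero h
  exact @Function.Injective.subsingleton _ _ _ (bijective_H0_unit hfin F).1
    (CdLib.Devissage.subsingleton_H_of_isZero _ hz 0)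

include hfin in
theorem subsingleton_H_kernel_unit {G : EtCoh.Ab X} (hG : ∀ n, Subsingleton (EtCoh.H X G (n + 1)))
    (hG' : ∀ n, Subsingleton (EtCoh.H X ((EtCoh.push i).obj ((EtCoh.pull i).obj G)) (n + 1))) (q : ℕ) :
    Subsingleton (EtCoh.H X (kernel ((EtCoh.pullPushAdj i).unit.app G)) q) := by
  have hS := unitSeq_shortExact (i := i) G
  match q with
  | 0 => exact subsingleton_H_zero hfin (offClosed_kernel_unit G)
  | n + 1 =>
    refine subsingleton_of_forall_eq 0 fun x => ?_
    obtain ⟨y, rfl⟩ := Ext.covariant_sequence_exact₁ _ hS x ((hG n).elim _ _) rfl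
    obtain ⟨z, rfl⟩ : ∃ z : EtCoh.H X G n, z.comp (Ext.mk₀ (unitSeq (i := i) G).g) (add_zero n) = y := by
      match n with
      | 0 => exact (bijective_H0_unit hfin G).2 y
      | n + 1 => exact ⟨0, (hG' n).elim _ _⟩
    rw [Ext.comp_assoc_of_second_deg_zero, hS.comp_extClass, Ext.comp_zero]

end closed

end Groth.Agent.PBC50
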