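import Groth.Agent.EtCore73.SplitClosed
import Groth.Agent.EtLC12.EtZarCompare
import Groth.Agent.EtLC12.FlasqueAcyclic
import Groth.Agent.FinEtSheaf.Ab
import Groth.Agent.EtFound.PullConst
import Groth.Agent.BigSiteLib.GlueTwo
import Groth.Agent.S0625

/-!
# Finite constant sheaves on closed subschemes of normal affine schemes with separably closed function field
-/

set_option autoImplicit false
set_option linter.style.haveILetI false

universe u

open CategoryTheory CategoryTheory.Limits AlgebraicGeometry Opposite TopologicalSpace CategoryTheory.Abelian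

namespace Groth.Agent.PBC50.AicVanish

set_option backward.isDefEq.respectTransparency.types false

open Groth.Agent.Adeq2Lib

/-- closed subschemes of normal integral affine schemes with separably closed function field -/
def Cl (Z : Scheme.{u}) : Prop :=
  ∃ (X : Scheme.{u}) (_ : IsAffine X) (_ : IsIntegral X) (_ : IsSepClosed X.functionField)
    (i : Z ⟶ X), IsClosedImmersion i ∧ ∀ x : X, IsIntegrallyClosed (X.presheaf.stalk x)

theorem Cl.isAffine {Z : Scheme.{u}} (h : Cl Z) : IsAffine Z := by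
  obtain ⟨X, _, _, _, i, hi, -⟩ := h
  exact isAffine_of_isAffineHom i

/-- a section family from a finite group, bijective on all stalks -/
def FinTop {X : Scheme.{u}} (N : EtCoh.Ab X) : Prop :=
  ∃ (M : AddCommGrpCat.{u + 1}) (φ : M ⟶ N.obj.obj (op (EtCoh.top X))), Finite M ∧ EtFound.ConstBy (A := AddCommGrpCat.{u + 1}) N φ

theorem FinTop.pull {X Y : Scheme.{u}} (f : X ⟶ Y) {N : EtCoh.Ab Y} (h : FinTop N) :
    FinTop ((EtCoh.pull f).obj N) := by
  obtain ⟨M, φ, hM, hφ⟩ := h
  refine ⟨M, (φ ≫ ((EtCoh.pullPushAdj f).unit.app N).hom.app (op (EtCoh.top Y))) ≫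
    ((EtCoh.pull f).obj N).obj.map (EtCore.bcTopIso f).inv.op, hM, fun Ω _ _ ξ z => ?_⟩
  have h := EtFound.constBy_pull (A := AddCommGrpCat.{u + 1}) f hφ Ω ξ ((Scheme.pointSmallEtale ξ).fiber.map (EtCore.bcTopIso f).inv z)
  refine Eq.mp (congrArg Function.Bijective (funext fun m => ?_)) h
  simp only [ConcreteCategory.comp_apply]
  exact ((Scheme.pointSmallEtale ξ).toPresheafFiber_w_apply (EtCore.bcTopIso f).inv z
    ((EtCoh.pull f).obj N).obj _).symm

theorem cl_of_opens {Z : Scheme.{u}} (h : Cl Z) (U : Z.Opens) (hU : ∃ s : Γ(Z, ⊤), Z.basicOpen s = U) :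
    Cl U.toScheme := by
  obtain ⟨s, rfl⟩ := hU
  obtain ⟨X, hX, hint, hsep, i, hi, hN⟩ := h
  obtain ⟨r, hr⟩ := (IsClosedImmersion.isAffine_surjective_of_isAffine i).2 s
  have hpre : i ⁻¹ᵁ X.basicOpen r = Z.basicOpen s := by
    rw [Scheme.preimage_basicOpen, ← hr]
    rfl
  by_cases he : IsEmpty (Z.basicOpen s).toScheme
  · refine ⟨X, hX, hint, hsep, (Z.basicOpen s).ι ≫ i, ?_, hN⟩
    exact inferInstance
  let W : X.Opens := X.basicOpen r
  have hne : Nonempty W.toScheme := by
    rw [not_isEmpty_iff] at he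
    obtain ⟨⟨z, hz⟩⟩ := he
    exact ⟨⟨i z, show z ∈ i ⁻¹ᵁ W by rw [hpre]; exact hz⟩⟩
  haveI : IsAffine W.toScheme := (isAffineOpen_top X).basicOpen r
  haveI : IsIntegral W.toScheme := isIntegral_of_isOpenImmersion W.ι
  let e : W.toScheme.functionField ≅ X.functionField :=
    (asIso (W.ι.stalkMap (genericPoint W.toScheme))).symm ≪≫
      X.presheaf.stalkCongr (.of_eq (genericPoint_eq_of_isOpenImmersion W.ι))
  have hsep' : IsSepClosed W.toScheme.functionField := Hensel.isSepClosed_of_ringEquiv e.commRingCatIsoToRingEquiv.symm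
  have hN' : ∀ x : W.toScheme, IsIntegrallyClosed (W.toScheme.presheaf.stalk x) := fun x => by
    haveI := hN (W.ι x)
    exact IsIntegrallyClosed.of_equiv (asIso (W.ι.stalkMap x)).commRingCatIsoToRingEquiv
  refine ⟨W.toScheme, inferInstance, inferInstance, hsep', (Z.isoOfEq hpre).inv ≫ (i ∣_ W), ?_, hN'⟩
  haveI : IsClosedImmersion (i ∣_ W) := IsZariskiLocalAtTarget.restrict hi W
  infer_instance

/-- epimorphisms lift locally -/
theorem exists_local_lift {X : Scheme.{u}} {A B : EtCoh.Ab X} (g : A ⟶ B) [Epi g] {U : X.Etale}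
    (s : B.obj.obj (op U)) (x : U.left) : ∃ (V : X.Etale) (k : V ⟶ U) (t : A.obj.obj (op V)),
      x ∈ Set.range k.left.base ∧ g.hom.app (op V) t = B.obj.map k.op s := by
  haveI := (Sheaf.isLocallySurjective_iff_epi' _ g).2 inferInstance
  obtain ⟨V, k, v, ⟨t, ht⟩, hv⟩ :=
    (EtFound.mem_topology_iff _).1 (Presheaf.imageSieve_mem X.smallEtaleTopology g.hom s) x
  exact ⟨V, k, t, ⟨v, hv⟩, ht⟩

theorem germ_sect_exact {X : Scheme.{u}} {E : ShortComplex (EtCoh.Ab X)} (hE : E.ShortExact) (T : X.Etale) :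
    Function.Injective (E.f.hom.app (op T)) ∧
      ∀ y, E.g.hom.app (op T) y = 0 → ∃ x, E.f.hom.app (op T) x = y :=
  BigSiteLib.sections_exact hE T

theorem g_f_app {X : Scheme.{u}} (E : ShortComplex (EtCoh.Ab X)) (T : X.Etale) (x) :
    E.g.hom.app (op T) (E.f.hom.app (op T) x) = 0 :=
  congrArg (fun α : E.X₁ ⟶ E.X₃ => α.hom.app (op T) x) E.zero

variable {Z : Scheme.{u}}

/-- the sheaf of lifts of a global section -/
noncomputable def lifts {A B : EtCoh.Ab Z} (g : A ⟶ B) (s : B.obj.obj (op (EtCoh.top Z))) : EtDesc.Sh Z where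
  obj :=
    { obj := fun V => {t : A.obj.obj V // g.hom.app V t = B.obj.map ((EtCore.topIsTerminal Z).from V.unop).op s}
      map := fun {V W} f => TypeCat.ofHom fun t => ⟨A.obj.map f t.1, by
        rw [NatTrans.naturality_apply g.hom f, t.2, ← ConcreteCategory.comp_apply, ← Functor.map_comp]
        exact congrArg (fun q => B.obj.map (Quiver.Hom.op q) s) ((EtCore.topIsTerminal Z).hom_ext _ _)⟩
      map_id := fun V => by
        ext t
        exact ConcreteCategory.congr_hom (A.obj.map_id V) t.1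
      map_comp := fun f f' => by
        ext t
        exact ConcreteCategory.congr_hom (A.obj.map_comp f f') t.1 }
  property := by
    rw [isSheaf_iff_isSheaf_of_type]
    intro V R hR z hz
    have hA := ((sheafCompose Z.smallEtaleTopology (forget AddCommGrpCat.{u + 1})).obj A).property
    have hB := ((sheafCompose Z.smallEtaleTopology (forget AddCommGrpCat.{u + 1})).obj B).property
    rw [isSheaf_iff_isSheaf_of_type] at hA hB
    let z' : Presieve.FamilyOfElements (A.obj ⋙ forget AddCommGrpCat.{u + 1}) R.arrows := fun W f hf => (z f hf).1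
    have hz' : z'.Compatible := fun W₁ W₂ W g₁ g₂ f₁ f₂ h₁ h₂ e => congrArg Subtype.val (hz g₁ g₂ h₁ h₂ e)
    obtain ⟨w, hw, huniq⟩ := hA R hR z' hz'
    refine ⟨⟨w, (hB R hR).isSeparatedFor.ext fun W f hf => ?_⟩, fun W f hf => Subtype.ext (hw f hf),
      fun w' hw' => Subtype.ext (huniq w'.1 fun W f hf => congrArg Subtype.val (hw' f hf))⟩
    show B.obj.map f.op (g.hom.app (op V) w) = B.obj.map f.op (B.obj.map _ s)
    rw [← NatTrans.naturality_apply g.hom f.op w]
    refine ((congrArg (g.hom.app (op W)) (hw f hf)).trans (z f hf).2).trans ?_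
    rw [← ConcreteCategory.comp_apply, ← Functor.map_comp]
    exact congrArg (fun q => B.obj.map (Quiver.Hom.op q) s) ((EtCore.topIsTerminal Z).hom_ext _ _)

set_option maxHeartbeats 800000 in
theorem sections_surjective_top (hZ : Cl Z) {E : ShortComplex (EtCoh.Ab Z)} (hE : E.ShortExact)
    (h1 : FinTop E.X₁) : Function.Surjective (E.g.hom.app (op (EtCoh.top Z))) := by
  classical
  intro s
  obtain ⟨M, φ, hM, hφ⟩ := h1
  haveI := hE.epi_g
  let P := lifts E.g s
  choose V k a hv ha using fun x : (EtCoh.top Z).left => exists_local_lift E.g s x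
  have hk : ∀ x, k x = (EtCore.topIsTerminal Z).from (V x) := fun x => (EtCore.topIsTerminal Z).hom_ext _ _
  obtain ⟨n, ⟨e⟩⟩ := Finite.exists_equiv_fin M
  let sec : ∀ x, M → E.X₂.obj.obj (op (V x)) := fun x m =>
    a x + E.f.hom.app (op (V x)) (E.X₁.obj.map (k x).op (φ m))
  have hsec : ∀ x m, E.g.hom.app (op (V x)) (sec x m) = E.X₃.obj.map ((EtCore.topIsTerminal Z).from (V x)).op s :=
    fun x m => by rw [map_add, g_f_app, add_zero, ha, hk]
  let t : FinEtSheaf.Triv P :=
    { ι := (EtCoh.top Z).left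
      U := V
      covers := fun z => ⟨z, by
        obtain ⟨v, hv⟩ := hv z
        exact ⟨v, (EtFound.apply_hom (k z) v).symm.trans (congrArg (EtCoh.top Z).hom.base hv)⟩⟩
      n := fun _ => n
      φ := fun x => TypeCat.ofHom fun q => (⟨sec x (e.symm q.down), hsec x _⟩ : P.obj.obj (op (V x)))
      hφ := fun x Ω _ _ ξ z => by
        let Φ := Scheme.pointSmallEtale ξ
        have hb := hφ Ω ξ (Φ.fiber.map (k x) z)
        refine ⟨fun q q' h => ?_, fun p => ?_⟩
        · obtain ⟨W, l, w, hw, hl⟩ := (Φ.toPresheafFiber_eq_iff' (P := P.obj) (V x) z _ _).1 h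
          have h2 : E.X₂.obj.map l.op (sec x (e.symm q.down)) = E.X₂.obj.map l.op (sec x (e.symm q'.down)) :=
            congrArg Subtype.val hl
          rw [map_add, map_add, add_right_inj, ← NatTrans.naturality_apply E.f.hom l.op,
            ← NatTrans.naturality_apply E.f.hom l.op] at h2
          have h3 := (germ_sect_exact hE W).1 h2
          have h4 := congrArg (Φ.toPresheafFiber W w E.X₁.obj) h3
          simp only [Φ.toPresheafFiber_w_apply, hw] at h4
          refine ULift.ext _ _ (e.symm.injective (hb.1 ?_))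
          rw [ConcreteCategory.comp_apply, ConcreteCategory.comp_apply]
          exact h4
        · obtain ⟨W, w, p, rfl⟩ := Φ.toPresheafFiber_jointly_surjective (P := P.obj) p
          obtain ⟨⟨T, τ⟩, ⟨i₀, hi⟩, ⟨j₀, hj⟩, -⟩ := IsCofilteredOrEmpty.cone_objs
            (Φ.fiber.elementsMk W w) (Φ.fiber.elementsMk (V x) z)
          obtain ⟨i, rfl⟩ : ∃ i : T ⟶ W, Φ.fiber.map i τ = w := ⟨i₀, hi⟩
          obtain ⟨j, rfl⟩ : ∃ j : T ⟶ V x, Φ.fiber.map j τ = z := ⟨j₀, hj⟩
          obtain ⟨c, hc⟩ := (germ_sect_exact hE T).2 (E.X₂.obj.map i.op p.1 - E.X₂.obj.map j.op (a x)) (by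
            have h1 := (P.obj.map i.op p).2
            have h2 := congrArg (E.X₃.obj.map j.op) (ha x)
            rw [← NatTrans.naturality_apply E.g.hom j.op] at h2
            rw [map_sub]
            refine sub_eq_zero.2 (h1.trans (Eq.trans ?_ h2.symm))
            rw [← ConcreteCategory.comp_apply (E.X₃.obj.map _), ← Functor.map_comp]
            exact congrArg (fun q => E.X₃.obj.map (Quiver.Hom.op q) s) ((EtCore.topIsTerminal Z).hom_ext _ _))
          obtain ⟨m, hm⟩ := hb.2 (Φ.toPresheafFiber T τ E.X₁.obj c)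
          change Φ.toPresheafFiber (EtCoh.top Z) (Φ.fiber.map (k x) (Φ.fiber.map j τ)) E.X₁.obj (φ m) = _ at hm
          rw [← Φ.toPresheafFiber_w_apply, ← Φ.toPresheafFiber_w_apply] at hm
          obtain ⟨S, l, σ, rfl, hl⟩ := (Φ.toPresheafFiber_eq_iff' T τ _ _).1 hm
          refine ⟨⟨e m⟩, ?_⟩
          show Φ.toPresheafFiber (V x) _ P.obj ⟨sec x (e.symm (e m)), _⟩ = Φ.toPresheafFiber W _ P.obj p
          rw [← Φ.toPresheafFiber_w_apply j, ← Φ.toPresheafFiber_w_apply i]
          refine (Φ.toPresheafFiber_eq_iff' T _ _ _).2 ⟨S, l, σ, rfl, Subtype.ext ?_⟩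
          show E.X₂.obj.map l.op (E.X₂.obj.map j.op (sec x (e.symm (e m)))) = E.X₂.obj.map l.op (E.X₂.obj.map i.op p.1)
          rw [Equiv.symm_apply_apply, map_add, map_add, ← NatTrans.naturality_apply E.f.hom j.op,
            ← NatTrans.naturality_apply E.f.hom l.op, hl, NatTrans.naturality_apply E.f.hom l.op, hc, map_sub,
            add_sub_cancel] }
  obtain ⟨U, hU, ⟨ePU⟩⟩ := FinEtSheaf.exists_repSh_iso t
  let eP : P.obj ≅ FinEtSheaf.repPre U := (sheafToPresheaf _ _).mapIso (ePU ≪≫ FinEtSheaf.repShIso U)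
  haveI : AlgebraicGeometry.Etale (U.hom : U.left ⟶ Z) := U.prop
  haveI : IsFinite (U.hom : U.left ⟶ Z) := hU
  haveI : Surjective (U.hom : U.left ⟶ Z) := ⟨fun z => by
    let x : (EtCoh.top Z).left := z
    obtain ⟨v, hv⟩ := hv x
    let f : V x ⟶ U := (eP.hom.app (op (V x)) ⟨sec x 0, hsec x 0⟩).down
    exact ⟨f.left.base v, (EtFound.apply_hom f v).trans ((EtFound.apply_hom (k x) v).symm.trans
      (congrArg (EtCoh.top Z).hom.base hv))⟩⟩
  obtain ⟨X, _, _, _, i, hi, hN⟩ := hZ
  obtain ⟨σ, hσ⟩ := Groth.Agent.S0625.result hN i U.hom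
  let σ' : EtCoh.top Z ⟶ U := MorphismProperty.Over.homMk σ hσ
  refine ⟨(eP.inv.app (op (EtCoh.top Z)) (ULift.up σ')).1, ?_⟩
  refine (eP.inv.app (op (EtCoh.top Z)) (ULift.up σ')).2.trans ?_
  rw [(EtCore.topIsTerminal Z).hom_ext ((EtCore.topIsTerminal Z).from _) (𝟙 _)]
  exact ConcreteCategory.congr_hom (E.X₃.obj.map_id _) s

theorem subsingleton_H_one_of_surjective {E : ShortComplex (EtCoh.Ab Z)} (hE : E.ShortExact) [Injective E.X₂]
    (h : Function.Surjective (E.g.hom.app (op (EtCoh.top Z)))) : Subsingleton (EtCoh.H Z E.X₁ 1) := by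
  refine subsingleton_of_forall_eq 0 fun x => ?_
  obtain ⟨z, rfl⟩ := Ext.covariant_sequence_exact₁ _ hE x (Ext.eq_zero_of_injective _) (rfl : 0 + 1 = 1)
  obtain ⟨φ, rfl⟩ := (Ext.mk₀_bijective _ _).2 z
  let adj := EtCore.constAdj Z
  obtain ⟨a, ha⟩ := h (adj.homEquiv _ _ φ ⟨1⟩)
  have hφ : (adj.homEquiv _ _).symm ((AddCommGrpCat.uliftZMultiplesAddEquiv _).symm a) ≫ E.g = φ := by
    apply (adj.homEquiv _ _).injective
    rw [Adjunction.homEquiv_naturality_right, Equiv.apply_symm_apply]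
    apply (AddCommGrpCat.uliftZMultiplesAddEquiv _).injective
    refine Eq.trans ?_ ha
    exact congrArg (E.g.hom.app (op (EtCoh.top Z))) ((AddCommGrpCat.uliftZMultiplesAddEquiv _).apply_symm_apply a)
  rw [← hφ, ← Ext.mk₀_comp_mk₀, Ext.comp_assoc_of_second_deg_zero, hE.comp_extClass, Ext.comp_zero]

theorem subsingleton_H_one (hZ : Cl Z) {N : EtCoh.Ab Z} (hN : FinTop N) : Subsingleton (EtCoh.H Z N 1) := by
  let S := ShortComplex.mk (Injective.ι N) (cokernel.π _) (cokernel.condition (Injective.ι N))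
  have hS : S.ShortExact := { exact := ShortComplex.exact_of_g_is_cokernel _ (cokernelIsCokernel _) }
  haveI : Injective S.X₂ := inferInstanceAs (Injective (Injective.under N))
  exact subsingleton_H_one_of_surjective hS (sections_surjective_top hZ hS hN)

/-- opens as etale schemes -/
noncomputable abbrev opn (U : Z.Opens) : Z.Etale := (EtZar.zarToEt Z).obj U

/-- all sections over basic opens lift -/
def LiftsBasic (E : ShortComplex (EtCoh.Ab Z)) : Prop :=
  ∀ f : Γ(Z, ⊤), Function.Surjective (E.g.hom.app (op (opn (Z.basicOpen f))))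

theorem liftsBasic_zero (hZ : Cl Z) {E : ShortComplex (EtCoh.Ab Z)} (hE : E.ShortExact) [Injective E.X₂]
    (h1 : FinTop E.X₁) : LiftsBasic E := fun f =>
  BigSiteLib.sections_surjective_of_H hE inferInstance (opn (Z.basicOpen f))
    (subsingleton_H_one (cl_of_opens hZ _ ⟨f, rfl⟩) (h1.pull _))

theorem hom_opn_ext {U : Z.Opens} {V : Z.Etale} (a b : V ⟶ opn U) : a = b :=
  @Subsingleton.elim _ (EtFound.subsingleton_hom_ofOpen U V) a b

theorem exists_basic_lift (hZ : Cl Z) {E : ShortComplex (EtCoh.Ab Z)} [Epi E.g] (U : Z.Opens)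
    (s : E.X₃.obj.obj (op (opn U))) (z : Z) (hz : z ∈ U) :
    ∃ (f : Γ(Z, ⊤)) (h : Z.basicOpen f ≤ U), z ∈ Z.basicOpen f ∧ ∃ t,
      E.g.hom.app (op (opn (Z.basicOpen f))) t = E.X₃.obj.map ((EtZar.zarToEt Z).map (homOfLE h)).op s := by
  haveI := hZ.isAffine
  obtain ⟨X, _, _, _, i, hi, hN⟩ := hZ
  obtain ⟨V, k, t, ⟨v, hv⟩, ht⟩ := exists_local_lift E.g s (⟨z, hz⟩ : U.toScheme)
  obtain ⟨A, hA, hvA, -⟩ := exists_isAffineOpen_mem_and_subset (U := (⊤ : V.left.Opens)) (x := v) trivial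
  haveI : IsAffine A.toScheme := hA
  haveI : AlgebraicGeometry.Etale (V.hom : V.left ⟶ Z) := V.prop
  let φ : A.toScheme ⟶ Z := A.ι ≫ V.hom
  obtain ⟨ι, _, W, e, he⟩ := EtCore73.exists_split_affine hN i φ
  obtain ⟨l, w, hw⟩ := (sigmaOpenCover fun l => (W l : Scheme.{u})).exists_eq (e.inv.base ⟨v, hvA⟩)
  let σ : (W l : Scheme.{u}) ⟶ V.left := (Sigma.ι (fun l => (W l : Scheme.{u})) l ≫ e.hom) ≫ A.ι
  have hσ : σ ≫ V.hom = (W l).ι := by
    simp only [σ, Category.assoc]
    exact he l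
  let m : opn (W l) ⟶ V := MorphismProperty.Over.homMk σ hσ
  have hwv : σ.base w = v := by
    have h1 : (Sigma.ι (fun l => (W l : Scheme.{u})) l ≫ e.hom).base w = (⟨v, hvA⟩ : A.toScheme) := by
      rw [Scheme.Hom.comp_apply]
      refine (congrArg e.hom.base hw).trans ?_
      rw [← Scheme.Hom.comp_apply, e.inv_hom_id]
      rfl
    exact (Scheme.Hom.comp_apply _ _ _).trans (congrArg A.ι.base h1)
  have hzW : z ∈ W l := by
    have h1 : (V.hom : V.left ⟶ Z).base (σ.base w) = (W l).ι.base w := by rw [← Scheme.Hom.comp_apply, hσ]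
    have h2 : (V.hom : V.left ⟶ Z).base v = z := by
      rw [← EtFound.apply_hom k v, hv]
      rfl
    rw [hwv, h2] at h1
    rw [h1]
    exact w.2
  obtain ⟨f, hfle, hzf⟩ := (isAffineOpen_top Z).exists_basicOpen_le (V := W l ⊓ U) ⟨z, hzW, hz⟩ trivial
  refine ⟨f, hfle.trans inf_le_right, hzf,
    E.X₂.obj.map ((EtZar.zarToEt Z).map (homOfLE (hfle.trans inf_le_left)) ≫ m).op t, ?_⟩
  rw [NatTrans.naturality_apply E.g.hom, ht, ← ConcreteCategory.comp_apply, ← Functor.map_comp, ← op_comp]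
  exact congrArg (fun q => E.X₃.obj.map (Quiver.Hom.op q) s) (hom_opn_ext _ _)

set_option maxHeartbeats 800000 in
theorem liftsBasic_succ (hZ : Cl Z) {E' E : ShortComplex (EtCoh.Ab Z)} [Injective E'.X₂] (hE : E.ShortExact)
    (e : E'.X₃ = E.X₁) (h : LiftsBasic E') : LiftsBasic E := by
  classical
  haveI := hE.epi_g
  haveI := EtLC12.EtZarCompare.zarCont Z
  intro a s
  let R : EtCoh.Ab Z ⥤ EtZar.Ab Z := EtZar.resZar Z
  let A₃ := R.obj E.X₃
  let A₂ := R.obj E.X₂
  let g' : A₂ ⟶ A₃ := R.map E.g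
  let lift? : Γ(Z, ⊤) → Prop := fun f => ∃ t, (g'.hom.app (op (Z.basicOpen (a * f)))).hom t =
    ZarFl.rz A₃ ((Z.basicOpen_mul a f).le.trans inf_le_left) (s : A₃.obj.obj (op (Z.basicOpen a)))
  have hdown : ∀ f f', Z.basicOpen (a * f') ≤ Z.basicOpen (a * f) → lift? f → lift? f' := by
    rintro f f' hle ⟨t, ht⟩
    exact ⟨ZarFl.rz A₂ hle t, by rw [ZarFl.rz_nat, ht, ZarFl.rz_comp]⟩
  have hadd : ∀ f f', lift? f → lift? f' → lift? (f + f') := by
    rintro f f' ⟨t, ht⟩ ⟨t', ht'⟩
    let b := a * (f + f')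
    let U := Z.basicOpen b
    let V₁ := Z.basicOpen (b * f)
    let V₂ := Z.basicOpen (b * f')
    let V₁₂ := Z.basicOpen (b * (f * f'))
    have hU : U ≤ Z.basicOpen a := (Z.basicOpen_mul a (f + f')).le.trans inf_le_left
    have h1 : V₁ ≤ Z.basicOpen (a * f) := by
      simp only [V₁, b, Scheme.basicOpen_mul]
      exact le_inf (inf_le_left.trans inf_le_left) inf_le_right
    have h2 : V₂ ≤ Z.basicOpen (a * f') := by
      simp only [V₂, b, Scheme.basicOpen_mul]
      exact le_inf (inf_le_left.trans inf_le_left) inf_le_right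
    have h1U : V₁ ≤ U := (Z.basicOpen_mul b f).le.trans inf_le_left
    have h2U : V₂ ≤ U := (Z.basicOpen_mul b f').le.trans inf_le_left
    have h12 : V₁₂ = V₁ ⊓ V₂ := by
      simp only [V₁₂, V₁, V₂, Scheme.basicOpen_mul]
      rw [inf_inf_inf_comm, inf_idem]
    have h121 : V₁₂ ≤ V₁ := h12.le.trans inf_le_left
    have h122 : V₁₂ ≤ V₂ := h12.le.trans inf_le_right
    have hcov : U ≤ V₁ ⊔ V₂ := by
      have h3 : Z.basicOpen (f + f') ≤ Z.basicOpen f ⊔ Z.basicOpen f' := Z.basicOpen_add_le f f'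
      calc U = U ⊓ Z.basicOpen (f + f') := by
            simp only [U, b, Scheme.basicOpen_mul]
            rw [inf_assoc, inf_idem]
        _ ≤ U ⊓ (Z.basicOpen f ⊔ Z.basicOpen f') := inf_le_inf_left _ h3
        _ = V₁ ⊔ V₂ := by rw [inf_sup_left]; simp only [U, V₁, V₂, Scheme.basicOpen_mul]
    let t₁ := ZarFl.rz A₂ h1 t
    let t₂ := ZarFl.rz A₂ h2 t'
    have hd : E.g.hom.app (op (opn V₁₂)) (ZarFl.rz A₂ h121 t₁ - ZarFl.rz A₂ h122 t₂) = 0 := by
      show (g'.hom.app (op V₁₂)).hom _ = 0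
      rw [map_sub, ZarFl.rz_nat, ZarFl.rz_nat, ZarFl.rz_nat, ZarFl.rz_nat, ht, ht', ZarFl.rz_comp, ZarFl.rz_comp,
        ZarFl.rz_comp, ZarFl.rz_comp, sub_self]
    obtain ⟨c₀, hc₀⟩ := (germ_sect_exact hE (opn V₁₂)).2 _ hd
    have hgE : ∀ (V : Z.Opens), ∀ c : E.X₁.obj.obj (op (opn V)),
        (g'.hom.app (op V)).hom (E.f.hom.app (op (opn V)) c) = 0 := fun V c => g_f_app E (opn V) c
    obtain ⟨c, hc⟩ : ∃ c : E.X₁.obj.obj (op (opn V₁)),
        E.X₁.obj.map ((EtZar.zarToEt Z).map (homOfLE h121)).op c = c₀ := by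
      have hsurj : Function.Surjective (E'.X₃.obj.map ((EtZar.zarToEt Z).map (homOfLE h121)).op) := by
        intro d
        obtain ⟨d', rfl⟩ := h (b * (f * f')) d
        haveI : Mono ((EtZar.zarToEt Z).map (homOfLE h121)) := ⟨fun p q _ => hom_opn_ext p q⟩
        haveI : Injective E'.X₂.obj :=
          Injective.injective_of_adjoint (sheafificationAdjunction Z.smallEtaleTopology AddCommGrpCat.{u + 1}) E'.X₂
        obtain ⟨d'', rfl⟩ := EtLC12.EtZarCompare.surjective_map_of_mono E'.X₂.obj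
          ((EtZar.zarToEt Z).map (homOfLE h121)) d'
        exact ⟨E'.g.hom.app (op (opn V₁)) d'', (NatTrans.naturality_apply E'.g.hom _ d'').symm⟩
      rw [e] at hsurj
      exact hsurj c₀
    let t₁' : A₂.obj.obj (op V₁) := t₁ - (show A₂.obj.obj (op V₁) from E.f.hom.app (op (opn V₁)) c)
    have hagree : ZarFl.rz A₂ h121 t₁' = ZarFl.rz A₂ h122 t₂ := by
      rw [map_sub]
      have : ZarFl.rz A₂ h121 (E.f.hom.app (op (opn V₁)) c) = E.f.hom.app (op (opn V₁₂)) c₀ := by
        rw [← hc]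
        exact (NatTrans.naturality_apply E.f.hom ((EtZar.zarToEt Z).map (homOfLE h121)).op c).symm
      rw [this, hc₀, sub_sub_cancel]
    let Vb : Bool → Z.Opens := fun q => cond q V₁ V₂
    let y : ∀ q, A₂.obj.obj (op (Vb q)) := fun q => match q with
      | true => t₁'
      | false => t₂
    have hVb : ∀ q, Vb q ≤ U := fun q => match q with
      | true => h1U
      | false => h2U
    obtain ⟨x, hx⟩ := ZarFl.glueZ A₂ (U := U) Vb hVb (fun z hz => by
        rcases hcov hz with h | h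
        exacts [⟨true, h⟩, ⟨false, h⟩]) y fun q q' W p p' => by
      match q, q', p, p' with
      | true, true, p, p' => rfl
      | false, false, p, p' => rfl
      | true, false, p, p' =>
        have hW : W ≤ V₁₂ := h12.ge.trans' (le_inf p p')
        have := congrArg (ZarFl.rz A₂ hW) hagree
        rwa [ZarFl.rz_comp, ZarFl.rz_comp] at this
      | false, true, p, p' =>
        have hW : W ≤ V₁₂ := h12.ge.trans' (le_inf p' p)
        have := congrArg (ZarFl.rz A₂ hW) hagree
        rw [ZarFl.rz_comp, ZarFl.rz_comp] at this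
        exact this.symm
    refine ⟨x, ZarFl.eq_of_coverZ A₃ Vb hVb (fun z hz => by
        rcases hcov hz with h | h
        exacts [⟨true, h⟩, ⟨false, h⟩]) _ _ fun q => ?_⟩
    rw [← ZarFl.rz_nat, hx]
    match q with
    | true =>
      show (g'.hom.app (op V₁)).hom t₁' = _
      rw [map_sub, hgE, sub_zero, ZarFl.rz_nat, ht, ZarFl.rz_comp, ZarFl.rz_comp]
    | false =>
      show (g'.hom.app (op V₂)).hom t₂ = _
      rw [ZarFl.rz_nat, ht', ZarFl.rz_comp, ZarFl.rz_comp]
  have h0 : lift? 0 := by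
    refine ⟨0, ?_⟩
    refine ZarFl.eq_of_coverZ A₃ (I := PEmpty.{1}) (fun q => q.elim) (fun q => q.elim) (fun z hz => ?_) _ _
      (fun q => q.elim)
    rw [mul_zero, Scheme.basicOpen_zero] at hz
    exact hz.elim
  let 𝔞 : Ideal Γ(Z, ⊤) :=
    { carrier := {f | lift? f}
      zero_mem' := h0
      add_mem' := fun {f f'} hf hf' => hadd f f' hf hf'
      smul_mem' := fun r f hf => hdown f _ (by
        simp only [smul_eq_mul, Scheme.basicOpen_mul]
        exact le_inf inf_le_left (inf_le_right.trans inf_le_right)) hf }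
  haveI := hZ.isAffine
  have hrad : a ∈ 𝔞.radical := by
    rw [Ideal.radical_eq_sInf, Submodule.mem_sInf]
    rintro p ⟨hle, hp⟩
    by_contra ha
    let z : Z := Z.isoSpec.inv.base ⟨p, hp⟩
    have hmem : ∀ r : Γ(Z, ⊤), z ∈ Z.basicOpen r ↔ r ∉ p := fun r => by
      rw [← Scheme.map_PrimeSpectrum_basicOpen_of_affine]
      show Z.isoSpec.hom.base (Z.isoSpec.inv.base ⟨p, hp⟩) ∈ PrimeSpectrum.basicOpen r ↔ _
      rw [← Scheme.Hom.comp_apply, Z.isoSpec.inv_hom_id]
      rfl
    obtain ⟨f, hfa, hzf, t, ht⟩ := exists_basic_lift hZ (E := E) (Z.basicOpen a) s z ((hmem a).2 ha)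
    have hf : lift? f := ⟨ZarFl.rz A₂ ((Z.basicOpen_mul a f).le.trans inf_le_right) t, by
      rw [ZarFl.rz_nat]
      refine (congrArg (ZarFl.rz A₃ _) (show (g'.hom.app _).hom t = ZarFl.rz A₃ hfa _ from ht)).trans ?_
      exact ZarFl.rz_comp A₃ _ hfa _⟩
    exact (hmem f).1 hzf (hle hf)
  obtain ⟨n, hn⟩ := hrad
  obtain ⟨t, ht⟩ := hn
  have hle : Z.basicOpen a ≤ Z.basicOpen (a * a ^ n) := by
    rw [Scheme.basicOpen_mul]
    refine le_inf le_rfl ?_
    rcases Nat.eq_zero_or_pos n with rfl | hn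
    · rw [pow_zero, Scheme.basicOpen_of_isUnit _ isUnit_one]; exact le_top
    · exact (Scheme.basicOpen_pow (X := Z) (f := a) hn).ge
  refine ⟨ZarFl.rz A₂ hle t, ?_⟩
  show (g'.hom.app (op (Z.basicOpen a))).hom _ = _
  rw [ZarFl.rz_nat, ht, ZarFl.rz_comp]
  exact ZarFl.rz_self A₃ _

/-- the standard injective resolution, piece by piece -/
noncomputable def res (N : EtCoh.Ab Z) : ℕ → ShortComplex (EtCoh.Ab Z)
  | 0 => ShortComplex.mk (Injective.ι N) (cokernel.π _) (cokernel.condition (Injective.ι N))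
  | k + 1 => ShortComplex.mk (Injective.ι (res N k).X₃) (cokernel.π _) (cokernel.condition _)

theorem res_shortExact (N : EtCoh.Ab Z) : ∀ k, (res N k).ShortExact ∧ Injective (res N k).X₂
  | 0 => ⟨{ exact := ShortComplex.exact_of_g_is_cokernel _ (cokernelIsCokernel _)
            mono_f := inferInstanceAs (Mono (Injective.ι N))
            epi_g := inferInstanceAs (Epi (cokernel.π (Injective.ι N))) },
      inferInstanceAs (Injective (Injective.under N))⟩
  | k + 1 => ⟨{ exact := ShortComplex.exact_of_g_is_cokernel _ (cokernelIsCokernel _)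
                mono_f := inferInstanceAs (Mono (Injective.ι (res N k).X₃))
                epi_g := inferInstanceAs (Epi (cokernel.π (Injective.ι (res N k).X₃))) },
      inferInstanceAs (Injective (Injective.under (res N k).X₃))⟩

theorem liftsBasic_res (hZ : Cl Z) {N : EtCoh.Ab Z} (hN : FinTop N) : ∀ k, LiftsBasic (res N k)
  | 0 => by
    haveI := (res_shortExact N 0).2
    exact liftsBasic_zero hZ (res_shortExact N 0).1 hN
  | k + 1 => by
    haveI := (res_shortExact N k).2
    exact liftsBasic_succ hZ (res_shortExact N (k + 1)).1 rfl (liftsBasic_res hZ hN k)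

theorem subsingleton_H_res (hZ : Cl Z) {N : EtCoh.Ab Z} (hN : FinTop N) :
    ∀ (n k : ℕ), Subsingleton (EtCoh.H Z (res N k).X₁ (n + 1))
  | 0, k => by
    haveI := (res_shortExact N k).2
    refine subsingleton_H_one_of_surjective (res_shortExact N k).1 fun s => ?_
    let e : opn (Z.basicOpen (1 : Γ(Z, ⊤))) ⟶ EtCoh.top Z := (EtCore.topIsTerminal Z).from _
    have he : (EtZar.zarToEt Z).obj ⊤ = opn (Z.basicOpen (1 : Γ(Z, ⊤))) := by
      rw [Scheme.basicOpen_of_isUnit _ isUnit_one]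
    obtain ⟨t, ht⟩ := liftsBasic_res hZ hN k (1 : Γ(Z, ⊤)) ((res N k).X₃.obj.map e.op s)
    let e' : EtCoh.top Z ⟶ opn (Z.basicOpen (1 : Γ(Z, ⊤))) :=
      EtLC12.EtZarCompare.topIso.inv ≫ eqToHom he
    refine ⟨(res N k).X₂.obj.map e'.op t, ?_⟩
    rw [NatTrans.naturality_apply (res N k).g.hom, ht, ← ConcreteCategory.comp_apply, ← Functor.map_comp,
      ← op_comp, (EtCore.topIsTerminal Z).hom_ext (e' ≫ e) (𝟙 _)]
    exact ConcreteCategory.congr_hom ((res N k).X₃.obj.map_id _) s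
  | n + 1, k => by
    haveI := (res_shortExact N k).2
    haveI : Subsingleton (EtCoh.H Z (res N k).X₃ (n + 1)) := subsingleton_H_res hZ hN n (k + 1)
    refine subsingleton_of_forall_eq 0 fun x => ?_
    obtain ⟨z, rfl⟩ := Ext.covariant_sequence_exact₁ _ (res_shortExact N k).1 x (Ext.eq_zero_of_injective _)
      (rfl : (n + 1) + 1 = _)
    rw [Subsingleton.elim z 0, Ext.zero_comp]

/-- finite constant sheaves on these schemes have no higher cohomology -/
theorem subsingleton_H (hZ : Cl Z) {N : EtCoh.Ab Z} (hN : FinTop N) (n : ℕ) :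
    Subsingleton (EtCoh.H Z N (n + 1)) := subsingleton_H_res hZ hN n 0

end Groth.Agent.PBC50.AicVanish
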