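import Groth.Agent.PBC50.ConnPn
import Groth.Agent.PnCoh.Chow.Exists
import Groth.Agent.EtFound.SpectralPiZero
import Mathlib.Topology.Spectral.Basic

/-!
# Proper schemes over henselian pairs: closed parts of closures of points are connected
-/

set_option linter.style.haveILetI false

universe u

open CategoryTheory CategoryTheory.Limits AlgebraicGeometry Topology TopologicalSpace
open Groth.Agent.HensCouple7

namespace Groth.Agent.PBC50

set_option backward.isDefEq.respectTransparency.types false

variable {A : Type u} [CommRing A] (I : Ideal A) [HenselianRing A I] {X : Scheme.{u}}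
  (f : X ⟶ Spec (CommRingCat.of A)) [IsProper f]

theorem nonempty_inter_preimage_zeroLocus {D : Set X} (hD : IsClosed D) (hne : D.Nonempty) :
    (f ⁻¹' PrimeSpectrum.zeroLocus (I : Set A) ∩ D).Nonempty := by
  obtain ⟨y, hy⟩ := hne
  obtain ⟨m, hm, hle⟩ := Ideal.exists_le_maximal (f y).asIdeal (f y).isPrime.ne_top
  let p : PrimeSpectrum A := ⟨m, hm.isPrime⟩
  obtain ⟨z, hz, hzp⟩ : p ∈ f '' D := by
    refine (f.isClosedMap D hD).stableUnderSpecialization ?_ ⟨y, hy, rfl⟩
    exact (PrimeSpectrum.le_iff_specializes _ _).mp hle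
  refine ⟨z, ?_, hz⟩
  rw [Set.mem_preimage, hzp]
  exact (HenselianRing.jac (I := I)).trans (sInf_le ⟨bot_le, hm⟩)

theorem isPreconnected_of_isIntegral [IsIntegral X] :
    _root_.IsPreconnected (f ⁻¹' PrimeSpectrum.zeroLocus (I : Set A)) := by
  obtain ⟨N, X', π, p, hint, hp, hcomm, hπ, U, ⟨u₀⟩, hiso⟩ := PnCoh.Chow.chow_integral f
  have hsurj : Function.Surjective π := by
    intro x
    have hη : genericPoint X ∈ U := by
      refine ((genericPoint_spec X).specializes (show u₀.1 ∈ (Set.univ : Set X) from Set.mem_univ _)).mem_open U.isOpen u₀.2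
    have h1 : genericPoint X ∈ Set.range π := by
      obtain ⟨w, hw⟩ := (π ∣_ U).homeomorph.surjective ⟨genericPoint X, hη⟩
      refine ⟨(π ⁻¹ᵁ U).ι w, ?_⟩
      rw [← Scheme.Hom.comp_apply, ← morphismRestrict_ι, Scheme.Hom.comp_apply]
      exact congrArg U.ι hw
    have h2 : Set.range π = Set.univ := by
      refine Set.eq_univ_of_univ_subset ?_
      calc Set.univ = closure {genericPoint X} := (genericPoint_closure X).symm
        _ ⊆ Set.range π := closure_minimal (Set.singleton_subset_iff.2 h1) π.isClosedMap.isClosed_range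
    exact Set.mem_range.1 (h2.ge (Set.mem_univ x))
  have h := isPreconnected_of_closedImmersion_projSpace I p (π ≫ f) hcomm
  have himg : π '' ((π ≫ f) ⁻¹' PrimeSpectrum.zeroLocus (I : Set A)) = f ⁻¹' PrimeSpectrum.zeroLocus (I : Set A) :=
    Set.image_preimage_eq (f ⁻¹' PrimeSpectrum.zeroLocus (I : Set A)) hsurj
  rw [← himg]
  exact h.image _ π.continuous.continuousOn

/-- For `X` proper over a henselian pair, the closure of every point meets the closed part in a connected set. -/
theorem isConnected_inter_closure (x : X) :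
    _root_.IsConnected (f ⁻¹' PrimeSpectrum.zeroLocus (I : Set A) ∩ closure {x}) := by
  refine ⟨nonempty_inter_preimage_zeroLocus I f isClosed_closure ⟨x, subset_closure rfl⟩, ?_⟩
  let S : Closeds X := ⟨closure {x}, isClosed_closure⟩
  let j := (Scheme.IdealSheafData.vanishingIdeal S).subschemeι
  have hr : Set.range j = closure {x} := H23.RedSub.range_vanishingIdeal S
  haveI : IrreducibleSpace ↥(Scheme.IdealSheafData.vanishingIdeal S).subscheme := by
    have h1 : IsIrreducible (closure {x}) := isIrreducible_singleton.closure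
    rw [← hr] at h1
    haveI : IrreducibleSpace (Set.range j) := Subtype.irreducibleSpace h1
    exact j.isClosedEmbedding.isEmbedding.toHomeomorph.symm.surjective.irreducibleSpace
      j.isClosedEmbedding.isEmbedding.toHomeomorph.symm.continuous
  haveI : IsIntegral (Scheme.IdealSheafData.vanishingIdeal S).subscheme :=
    isIntegral_of_irreducibleSpace_of_isReduced _
  have h := (isPreconnected_of_isIntegral I (j ≫ f)).image j j.continuous.continuousOn
  have : j '' ((j ≫ f) ⁻¹' PrimeSpectrum.zeroLocus (I : Set A)) =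
      f ⁻¹' PrimeSpectrum.zeroLocus (I : Set A) ∩ closure {x} := by
    rw [← hr]
    exact Set.image_preimage_eq_inter_range (f := j) (t := f ⁻¹' PrimeSpectrum.zeroLocus (I : Set A))
  rwa [this] at h

include f in
theorem spectralSpace : SpectralSpace X := by
  haveI : CompactSpace X := QuasiCompact.compactSpace_of_compactSpace f
  haveI : QuasiSeparatedSpace X := quasiSeparatedSpace_of_quasiSeparated f
  exact { }

/-- Clopens of a proper scheme over a henselian pair are those of its closed part. -/
theorem lifts : Lifts (f ⁻¹' PrimeSpectrum.zeroLocus (I : Set A)) := by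
  haveI := spectralSpace f
  let Z : Set X := f ⁻¹' PrimeSpectrum.zeroLocus (I : Set A)
  have hZ : IsClosed Z := (PrimeSpectrum.isClosed_zeroLocus _).preimage f.continuous
  refine lifts_of_exists (fun D hD hDZ => ?_) fun V hV => ?_
  · by_contra hne
    obtain ⟨z, hz, hzD⟩ := nonempty_inter_preimage_zeroLocus I f hD.isClosed (Set.nonempty_iff_ne_empty.2 hne)
    exact Set.eq_empty_iff_forall_notMem.mp hDZ z ⟨hzD, hz⟩
  · have he := hZ.isClosedEmbedding_subtypeVal
    obtain ⟨X₁, X₂, h₁, h₂, hd, hu, e₁, e₂⟩ := Groth.Agent.EtFound.SpectralPiZero.exists_lift_decomposition Z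
      (isConnected_inter_closure I f) (Subtype.val '' V) (Subtype.val '' Vᶜ) (he.isClosedMap _ hV.1)
      (he.isClosedMap _ hV.compl.1) (by rw [Set.disjoint_image_iff Subtype.val_injective]; exact disjoint_compl_right)
      (by rw [← Set.image_union, Set.union_compl_self, Set.image_univ, Subtype.range_coe])
    refine ⟨X₁, ⟨h₁, ?_⟩, ?_⟩
    · have : X₁ = X₂ᶜ := (IsCompl.compl_eq ⟨hd.symm, codisjoint_iff.2 (by rw [sup_comm]; exact hu)⟩).symm
      rw [this]; exact h₂.isOpen_compl
    · ext z
      refine ⟨fun hz => ?_, fun hz => (e₁.le ⟨z, hz, rfl⟩).2⟩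
      obtain ⟨z', hz', e⟩ := e₁.ge ⟨z.2, hz⟩
      rwa [← Subtype.val_injective e]

theorem surjective_connectedComponentsMap {P : Type u} [TopologicalSpace P] {φ : P → X} (hφ : Continuous φ)
    (hr : Set.range φ = f ⁻¹' PrimeSpectrum.zeroLocus (I : Set A)) :
    Function.Surjective hφ.connectedComponentsMap := by
  intro c
  obtain ⟨x, rfl⟩ := ConnectedComponents.surjective_coe c
  obtain ⟨z, hz, hzx⟩ := nonempty_inter_preimage_zeroLocus I f (isClosed_connectedComponent (x := x))
    ⟨x, mem_connectedComponent⟩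
  obtain ⟨p, rfl⟩ := hr.ge hz
  exact ⟨p, (ConnectedComponents.coe_eq_coe'.mpr hzx)⟩

theorem injective_connectedComponentsMap {P : Type u} [TopologicalSpace P] [SpectralSpace P] {φ : P → X}
    (hφ : IsEmbedding φ) (hr : Set.range φ = f ⁻¹' PrimeSpectrum.zeroLocus (I : Set A)) :
    Function.Injective hφ.continuous.connectedComponentsMap := by
  intro a b
  obtain ⟨p, rfl⟩ := ConnectedComponents.surjective_coe a
  obtain ⟨q, rfl⟩ := ConnectedComponents.surjective_coe b
  intro hpq
  rw [ConnectedComponents.coe_eq_coe', Groth.Agent.EtFound.SpectralPiZero.connectedComponent_eq_iInter_clopen]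
  rintro W ⟨hW, hqW⟩
  obtain ⟨U, ⟨hU, hUW⟩, -⟩ := ((lifts_range_iff hφ).2 (hr ▸ lifts I f)) W hW
  have hqU : φ q ∈ U := (Set.ext_iff.mp hUW q).2 hqW
  have hpq' : (φ p : _root_.ConnectedComponents X) = φ q := hpq
  have hpU : φ p ∈ U := hU.connectedComponent_subset hqU (ConnectedComponents.coe_eq_coe'.mp hpq')
  exact (Set.ext_iff.mp hUW p).1 hpU

end Groth.Agent.PBC50
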