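import Groth.Agent.PBC50.Germ
import Groth.Agent.EtFound.StalkSet

/-!
# Agreement loci of two sections given on etale neighbourhoods
-/

set_option autoImplicit false
set_option linter.style.haveILetI false

universe u

open CategoryTheory CategoryTheory.Limits AlgebraicGeometry Opposite TopologicalSpace

namespace Groth.Agent.PBC50

set_option backward.isDefEq.respectTransparency.types false

variable {X : Scheme.{u}}

/-- the fibre product of two etale schemes -/
noncomputable def pairObj (Ua Ub : X.Etale) : X.Etale :=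
  haveI := Ua.prop
  haveI := Ub.prop
  Scheme.Etale.mk (pullback.fst Ua.hom Ub.hom ≫ Ua.hom)

/-- the first projection -/
noncomputable def pairFst (Ua Ub : X.Etale) : pairObj Ua Ub ⟶ Ua :=
  MorphismProperty.Over.homMk (pullback.fst Ua.hom Ub.hom) rfl trivial

/-- the second projection -/
noncomputable def pairSnd (Ua Ub : X.Etale) : pairObj Ua Ub ⟶ Ub :=
  MorphismProperty.Over.homMk (pullback.snd Ua.hom Ub.hom) pullback.condition.symm trivial

variable (F : EtCoh.Ab X) {P : Scheme.{u}} (O : P.Opens) {Ua Ub : X.Etale}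
  (f : O.toScheme ⟶ Ua.left) (g : O.toScheme ⟶ Ub.left) (h : f ≫ Ua.hom = g ≫ Ub.hom)
  (a : EtCoh.sect F Ua) (b : EtCoh.sect F Ub)

/-- the map to the fibre product -/
noncomputable def agreeMap : O.toScheme ⟶ (pairObj Ua Ub).left := pullback.lift f g h

/-- the locus in `P` where the sections pulled back along `f` and `g` agree -/
noncomputable def agreeSet : Set P :=
  O.ι '' ((agreeMap O f g h) ⁻¹'
    {w | GermEq F (F.obj.map (pairFst Ua Ub).op a) (F.obj.map (pairSnd Ua Ub).op b) w})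

theorem isOpen_agreeSet : IsOpen (agreeSet F O f g h a b) :=
  O.ι.isOpenEmbedding.isOpenMap _
    ((isOpen_germEq (U := pairObj Ua Ub) (F.obj.map (pairFst Ua Ub).op a) (F.obj.map (pairSnd Ua Ub).op b)).preimage (agreeMap O f g h).continuous)

theorem mem_of_mem_agreeSet {x : P} (hx : x ∈ agreeSet F O f g h a b) : x ∈ O := by
  obtain ⟨y, -, rfl⟩ := hx
  exact y.2

theorem mem_agreeSet_iff {Ω : Type u} [Field Ω] [IsSepClosed Ω] {ξ : Spec (CommRingCat.of Ω) ⟶ X}
    (r : Spec (CommRingCat.of Ω) ⟶ O.toScheme) (t : (Scheme.pointSmallEtale ξ).fiber.obj Ua)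
    (t' : (Scheme.pointSmallEtale ξ).fiber.obj Ub)
    (ht : (t.left : Spec (CommRingCat.of Ω) ⟶ Ua.left) = r ≫ f)
    (ht' : (t'.left : Spec (CommRingCat.of Ω) ⟶ Ub.left) = r ≫ g) :
    (r ≫ O.ι).base default ∈ agreeSet F O f g h a b ↔ germAt F t a = germAt F t' b := by
  let s : (Scheme.pointSmallEtale ξ).fiber.obj (pairObj Ua Ub) :=
    Over.homMk (r ≫ (agreeMap O f g h)) (by
      show (r ≫ pullback.lift f g h) ≫ pullback.fst Ua.hom Ub.hom ≫ Ua.hom = ξ
      rw [Category.assoc, pullback.lift_fst_assoc, ← Category.assoc]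
      exact (congrArg (· ≫ Ua.hom) ht.symm).trans (Over.w t))
  have hs₁ : (Scheme.pointSmallEtale ξ).fiber.map (pairFst Ua Ub) s = t := by
    refine Over.OverMorphism.ext ?_
    show (r ≫ pullback.lift f g h) ≫ pullback.fst Ua.hom Ub.hom = (t.left : Spec (CommRingCat.of Ω) ⟶ Ua.left)
    rw [Category.assoc, pullback.lift_fst]
    exact ht.symm
  have hs₂ : (Scheme.pointSmallEtale ξ).fiber.map (pairSnd Ua Ub) s = t' := by
    refine Over.OverMorphism.ext ?_
    show (r ≫ pullback.lift f g h) ≫ pullback.snd Ua.hom Ub.hom = (t'.left : Spec (CommRingCat.of Ω) ⟶ Ub.left)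
    rw [Category.assoc, pullback.lift_snd]
    exact ht'.symm
  rw [← hs₁, ← hs₂, ← germAt_map, ← germAt_map, germAt_eq_iff]
  have hpt : ptOf s = (agreeMap O f g h) (r.base default) :=
    Scheme.Hom.comp_apply _ _ _
  rw [hpt]
  show (r ≫ O.ι).base default ∈ agreeSet F O f g h a b ↔ _
  rw [Scheme.Hom.comp_apply]
  exact O.ι.isOpenEmbedding.injective.mem_set_image

theorem range_subset_opens {Ω : Type u} [Field Ω] {Q : Scheme.{u}} {U : Q.Opens}
    (r : Spec (CommRingCat.of Ω) ⟶ Q) (hr : r.base default ∈ U) : Set.range r ⊆ Set.range U.ι := by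
  rintro _ ⟨w, rfl⟩
  rw [Scheme.Opens.range_ι, Subsingleton.elim w default]
  exact hr

/-- factor a geometric point through an open containing it -/
noncomputable def liftPt {Ω : Type u} [Field Ω] {Q : Scheme.{u}} (U : Q.Opens)
    (r : Spec (CommRingCat.of Ω) ⟶ Q) (hr : r.base default ∈ U) : Spec (CommRingCat.of Ω) ⟶ U.toScheme :=
  IsOpenImmersion.lift U.ι r (range_subset_opens r hr)

theorem liftPt_ι {Ω : Type u} [Field Ω] {Q : Scheme.{u}} (U : Q.Opens)
    (r : Spec (CommRingCat.of Ω) ⟶ Q) (hr : r.base default ∈ U) : liftPt U r hr ≫ U.ι = r :=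
  IsOpenImmersion.lift_fac _ _ _

section localChart

variable {κ : Type u} (U : κ → X.Etale) {T : Scheme.{u}} (π : T ⟶ X)

/-- Local lifts to one of the etale schemes. -/
theorem exists_local_chart (g : (∐ fun k => (U k).left) ⟶ X) (hg : ∀ k, Sigma.ι (fun k => (U k).left) k ≫ g = (U k).hom)
    (hloc : ∀ t : T, ∃ (V : T.Opens) (r : V.toScheme ⟶ ∐ fun k => (U k).left), t ∈ V ∧ r ≫ g = V.ι ≫ π) (t : T) :
    ∃ (k : κ) (O : T.Opens) (h : O.toScheme ⟶ (U k).left),
      t ∈ O ∧ IsCompact (O : Set T) ∧ h ≫ (U k).hom = O.ι ≫ π := by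
  obtain ⟨V, r, htV, hr⟩ := hloc t
  obtain ⟨k, u, hu⟩ := (sigmaOpenCover fun k => (U k).left).exists_eq (r ⟨t, htV⟩)
  let W : V.toScheme.Opens := r ⁻¹ᵁ (Sigma.ι (fun k => (U k).left) k).opensRange
  obtain ⟨O, hO, htO, hOW⟩ := exists_isAffineOpen_mem_and_subset (X := T) (U := V.ι ''ᵁ W) (x := t)
    ⟨⟨t, htV⟩, ⟨u, hu⟩, rfl⟩
  have hOV : O ≤ V := fun x hx => by
    obtain ⟨y, -, rfl⟩ := hOW hx
    exact y.2
  have hrange : Set.range (T.homOfLE hOV ≫ r) ⊆ Set.range (Sigma.ι (fun k => (U k).left) k) := by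
    rintro _ ⟨x, rfl⟩
    obtain ⟨y, hy, e⟩ := hOW x.2
    have : T.homOfLE hOV x = y := by
      refine V.ι.isOpenEmbedding.injective ?_
      refine Eq.trans ?_ e.symm
      rw [← Scheme.Hom.comp_apply, Scheme.homOfLE_ι]
      rfl
    rw [Scheme.Hom.comp_apply, this]
    exact hy
  let l := IsOpenImmersion.lift (Sigma.ι (fun k => (U k).left) k) (T.homOfLE hOV ≫ r) hrange
  refine ⟨k, O, l, htO, hO.isCompact, ?_⟩
  refine (congrArg (l ≫ ·) (hg k).symm).trans ((Category.assoc _ _ _).symm.trans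
    ((congrArg (· ≫ g) (IsOpenImmersion.lift_fac _ _ hrange)).trans ((Category.assoc _ _ _).trans ?_)))
  exact (congrArg (T.homOfLE hOV ≫ ·) hr).trans (Scheme.homOfLE_ι_assoc _ _ _)

end localChart

end Groth.Agent.PBC50
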