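import Groth.Agent.PBC50.TorsColim
import Groth.Agent.EtBCA.PullId
import Groth.Agent.EtFound.NoethConstr
import Mathlib.CategoryTheory.Subobject.NoetherianObject

/-!
# Compact and Noetherian torsion sheaves are constructible; effacing cohomology by constructible sheaves
-/

set_option autoImplicit false
set_option linter.style.haveILetI false

universe u

open CategoryTheory CategoryTheory.Limits AlgebraicGeometry Opposite

namespace Groth.Agent.PBC50

set_option backward.isDefEq.respectTransparency.types false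

variable {X : Scheme.{u}} [CompactSpace X] [QuasiSeparatedSpace X]

theorem isConstructible_of_retract {F G : EtCoh.Ab X} (s : F ⟶ G) (r : G ⟶ F) (h : s ≫ r = 𝟙 F)
    (hG : EtPBC.IsConstructible G) : EtPBC.IsConstructible F := by
  let p : G ⟶ G := 𝟙 G - r ≫ s
  have hpr : p ≫ r = 0 := by
    simp [p, Preadditive.sub_comp, h]
  have e : cokernel p ≅ F :=
    { hom := cokernel.desc p r hpr
      inv := s ≫ cokernel.π p
      hom_inv_id := by
        refine coequalizer.hom_ext ?_
        have hc : p ≫ cokernel.π p = 0 := cokernel.condition p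
        rw [Preadditive.sub_comp, Category.id_comp, sub_eq_zero, Category.assoc] at hc
        rw [cokernel.π_desc_assoc, Category.comp_id]
        exact hc.symm
      inv_hom_id := by rw [Category.assoc, cokernel.π_desc, h] }
  exact EtFound.isConstructible_of_iso e (EtFound.isConstructible_cokernel p hG hG)

theorem isConstructible_of_compact (F : EtCoh.Ab X) (hF : EtCoh.IsTorsion F)
    (hc : ∀ (J : Type (u + 1)) [SmallCategory J] [IsFiltered J],
      PreservesColimitsOfShape J (coyoneda.obj (op F))) : EtPBC.IsConstructible F := by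
  obtain ⟨J, _, _, D, c, hcol, ⟨e⟩, hD⟩ :=
    TorsColim.exists_colimit TorsColim.adapted_univ F hF (Set.subset_univ _)
  haveI := hc J
  obtain ⟨j, g, hg⟩ := Types.jointly_surjective _ (isColimitOfPreserves (coyoneda.obj (op F)) hcol) e.inv
  change g ≫ c.ι.app j = e.inv at hg
  exact isConstructible_of_retract g (c.ι.app j ≫ e.hom) (by rw [← Category.assoc, hg, e.inv_hom_id]) (hD j).1

omit [CompactSpace X] [QuasiSeparatedSpace X] in
theorem isConstructible_of_isNoetherianObject [IsNoetherian X] (F : EtCoh.Ab X) (hF : EtCoh.IsTorsion F)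
    [IsNoetherianObject F] : EtPBC.IsConstructible F := by
  obtain ⟨J, _, _, D, c, hcol, ⟨e⟩, hD⟩ :=
    TorsColim.exists_colimit TorsColim.adapted_univ F hF (Set.subset_univ _)
  let f : ∀ j, D.obj j ⟶ F := fun j => c.ι.app j ≫ e.hom
  let Sb : J → Subobject F := fun j => imageSubobject (f j)
  obtain ⟨M, ⟨j, rfl⟩, hmax⟩ :=
    (wellFounded_gt : WellFounded ((· > ·) : Subobject F → Subobject F → Prop)).has_min (Set.range Sb)
      ⟨_, ⟨(IsFiltered.nonempty (C := J)).some, rfl⟩⟩
  have hmono : ∀ {a b : J} (k : a ⟶ b), Sb a ≤ Sb b := fun {a b} k => by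
    show imageSubobject (f a) ≤ imageSubobject (f b)
    have e : f a = D.map k ≫ f b := by simp [f]
    exact imageSubobject_le (f a) (D.map k ≫ factorThruImageSubobject (f b))
      (by rw [Category.assoc, imageSubobject_arrow_comp]; exact e.symm)
  have hle : ∀ k, Sb k ≤ Sb j := by
    intro k
    obtain ⟨l, u, v, -⟩ := IsFilteredOrEmpty.cocone_objs j k
    rcases (hmono u).lt_or_eq with h | h
    · exact absurd h (hmax _ ⟨l, rfl⟩)
    · exact h ▸ hmono v
  have hπ : cokernel.π (f j) = 0 := by
    refine (cancel_epi e.hom).1 (hcol.hom_ext fun k => ?_)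
    rw [comp_zero, comp_zero, ← Category.assoc]
    show f k ≫ cokernel.π (f j) = 0
    have h0 : (Sb j).arrow ≫ cokernel.π (f j) = 0 := by
      rw [← cancel_epi (factorThruImageSubobject (f j)), imageSubobject_arrow_comp_assoc, comp_zero]
      exact cokernel.condition _
    rw [← imageSubobject_arrow_comp (f k), ← Subobject.ofLE_arrow (hle k), Category.assoc, Category.assoc, h0,
      comp_zero, comp_zero]
  haveI : Epi (f j) := Preadditive.epi_of_cokernel_zero hπ
  exact EtFound.isConstructible_of_epi (hD j).1 (f j)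

theorem exists_efface_constructible {F : EtCoh.Ab X} (hF : EtPBC.IsConstructible F) (q : ℕ) (hq : 0 < q)
    (α : EtCoh.H X F q) :
    ∃ (G : EtCoh.Ab X) (u : F ⟶ G), EtPBC.IsConstructible G ∧ Mono u ∧ (EtCoh.HF X q).map u α = 0 := by
  obtain ⟨n, hn, hn0⟩ := EtFound.exists_killedBy X hF
  have hFt : EtCoh.IsTorsion F := TorsColim.isLTorsion_univ_iff.1
    (EtBCA.isLTorsion_of_nsmul_id_eq_zero ⟨hn, fun p _ _ => Set.mem_univ p⟩ hn0)
  obtain ⟨I, u, hu, hI, hIa⟩ := EtBCA.exists_efface (L := Set.univ) F (TorsColim.isLTorsion_univ_iff.2 hFt)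
  obtain ⟨J, _, _, D, c, hcol, ⟨e⟩, hD⟩ :=
    TorsColim.exists_colimit TorsColim.adapted_univ I (TorsColim.isLTorsion_univ_iff.1 hI) (Set.subset_univ _)
  obtain ⟨j, g, hg⟩ := (EtFound.isCpt_of_isConstructible hF).exists_stage hcol (u ≫ e.inv)
  haveI := EtBCA.subsingleton_H_of_qcAcyclic hIa q hq
  haveI := EtLC12.QcqsAcyclic.preservesColimitsOfShape_HF X q J
  have hc' := isColimitOfPreserves (EtCoh.HF X q) hcol
  have h0 : (EtCoh.HF X q).map (c.ι.app j) ((EtCoh.HF X q).map g α) =
      (EtCoh.HF X q).map (c.ι.app j) 0 := by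
    rw [map_zero, ← ConcreteCategory.comp_apply, ← Functor.map_comp, hg, Functor.map_comp,
      ConcreteCategory.comp_apply]
    exact (congrArg _ (Subsingleton.elim _ (0 : EtCoh.H X I q))).trans (map_zero _)
  obtain ⟨k, a, b, hab⟩ := Concrete.isColimit_exists_of_rep_eq _ hc' _ _ h0
  refine ⟨D.obj k, g ≫ D.map a, (hD k).1, ?_, ?_⟩
  · haveI := hu
    haveI : Mono (u ≫ e.inv) := mono_comp _ _
    have : (g ≫ D.map a) ≫ c.ι.app k = u ≫ e.inv := by rw [Category.assoc, c.w, hg]
    exact mono_of_mono_fac this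
  · rw [Functor.map_comp, ConcreteCategory.comp_apply]
    exact hab.trans (map_zero _)

end Groth.Agent.PBC50
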