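import Groth.Agent.PBC50.InjKilled
import Groth.Agent.EtBCA.Efface
import Groth.Agent.EtLimCore.StrictHens
import Groth.Agent.EtLC12.QcqsAcyclic
import Groth.Agent.PBC50.TorsColim

/-!
# Comparison maps which are bijective in degree zero and on injective sheaves of `ℤ/n`-modules
-/

set_option autoImplicit false
set_option linter.style.haveILetI false

universe u

open CategoryTheory CategoryTheory.Limits AlgebraicGeometry Opposite CategoryTheory.Abelian

namespace Groth.Agent.PBC50.Compare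

set_option backward.isDefEq.respectTransparency.types false

open Groth.Agent.EtBCA (TorIdx torSystem torCocone isIso_torDesc nsmul_id_torSystem)

/-- a natural map between functors commuting with a colimit is an isomorphism if it is on each term -/
theorem isIso_app_of_isColimit {C : Type*} [Category* C] {D : Type*} [Category* D] {J : Type*} [Category* J]
    {F₁ F₂ : C ⥤ D} (τ : F₁ ⟶ F₂) {K : J ⥤ C} {c : Cocone K} (hc : IsColimit c)
    [PreservesColimit K F₁] [PreservesColimit K F₂] (h : ∀ j, IsIso (τ.app (K.obj j))) : IsIso (τ.app c.pt) := by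
  let α : K ⋙ F₁ ≅ K ⋙ F₂ := NatIso.ofComponents (fun j => @asIso _ _ _ _ (τ.app (K.obj j)) (h j))
    (fun f => τ.naturality (K.map f))
  have e : τ.app c.pt = (IsColimit.coconePointsIsoOfNatIso (isColimitOfPreserves F₁ hc)
      (isColimitOfPreserves F₂ hc) α).hom := by
    refine (isColimitOfPreserves F₁ hc).hom_ext fun j => ?_
    rw [IsColimit.comp_coconePointsIsoOfNatIso_hom]
    exact τ.naturality (c.ι.app j)
  rw [e]
  infer_instance

/-- a torsion sheaf is the colimit of its kernels of multiplication -/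
noncomputable def isColimitTor {X : Scheme.{u}} {F : EtCoh.Ab X} (hF : EtCoh.IsTorsion F) :
    IsColimit (torCocone (L := Set.univ) F) :=
  haveI : IsIso ((colimit.isColimit (torSystem (L := Set.univ) F)).desc (torCocone (L := Set.univ) F)) :=
    isIso_torDesc (L := Set.univ) F (TorsColim.isLTorsion_univ_iff.2 hF)
  IsColimit.ofPointIso (colimit.isColimit (torSystem (L := Set.univ) F))
    (t := torCocone (L := Set.univ) F)

section Hpull

variable {X₀ X : Scheme.{u}} (i : X₀ ⟶ X) [PreservesFiniteLimits (EtCoh.pull i)]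

/-- restriction of cohomology as a natural transformation -/
noncomputable def hpullNat (q : ℕ) : EtCoh.HF X q ⟶ EtCoh.pull i ⋙ EtCoh.HF X₀ q where
  app F := AddCommGrpCat.ofHom (EtCore.Hpull i F q)
  naturality _ _ φ := AddCommGrpCat.hom_ext <| AddMonoidHom.ext fun x => EtBCA.Hpull_natural i φ q x

theorem Hpull_bijective_of_killed [CompactSpace X] [QuasiSeparatedSpace X] {n : ℕ} (hn : n ≠ 0)
    (h0 : ∀ F : EtCoh.Ab X, EtCoh.KilledBy n F → Function.Bijective (EtCore.Hpull i F 0))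
    (hI : ∀ I : EtCoh.Ab X, InjKilled n I → ∀ q, Subsingleton (EtCoh.H X₀ ((EtCoh.pull i).obj I) (q + 1))) :
    ∀ (q : ℕ) (F : EtCoh.Ab X), EtCoh.KilledBy n F → Function.Bijective (EtCore.Hpull i F q)
  | 0, F, hF => h0 F hF
  | q + 1, F, hF => by
    have ih := Hpull_bijective_of_killed hn h0 hI q
    obtain ⟨I, ι, _, hI'⟩ := InjKilled.exists_embedding hF
    haveI : (EtCoh.pull i).Additive := (EtCoh.pullPushAdj i).left_adjoint_additive
    haveI := EtBCA.BCQ.pullColimits i
    let E := ShortComplex.mk ι (cokernel.π ι) (cokernel.condition ι)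
    have hE : E.ShortExact := { exact := ShortComplex.exact_of_g_is_cokernel _ (cokernelIsCokernel _) }
    have hE₀ := hE.map_of_exact (EtCoh.pull i)
    have hQ := EtBCA.BCQ.killedBy_of_epi (cokernel.π ι) hI'.killed
    constructor
    · refine (injective_iff_map_eq_zero _).2 fun x hx => ?_
      obtain ⟨z, rfl⟩ := Ext.covariant_sequence_exact₁ _ hE x ((hI'.subsingleton_H hn q).elim _ _) rfl
      rw [EtBCA.Hpull_extClass i hE q z] at hx
      obtain ⟨w, hw⟩ := Ext.covariant_sequence_exact₃ _ hE₀ (EtCore.Hpull i E.X₃ q z) rfl hx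
      obtain ⟨w', rfl⟩ := (ih I hI'.killed).2 w
      have hz : z = w'.comp (Ext.mk₀ E.g) (add_zero q) := by
        refine (ih _ hQ).1 (hw.symm.trans ?_)
        exact (EtBCA.Hpull_natural i E.g q w').symm
      rw [hz]
      refine (Ext.comp_assoc_of_second_deg_zero _ _ _ _).trans ?_
      exact (congrArg (fun t => Ext.comp w' t _) hE.comp_extClass).trans (Ext.comp_zero ..)
    · intro y
      obtain ⟨z, rfl⟩ := Ext.covariant_sequence_exact₁ _ hE₀ y ((hI I hI' q).elim _ _) rfl
      obtain ⟨z', rfl⟩ := (ih _ hQ).2 z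
      exact ⟨z'.comp hE.extClass rfl, EtBCA.Hpull_extClass i hE q z'⟩

/-- restriction of torsion cohomology is bijective -/
theorem Hpull_bijective [CompactSpace X] [QuasiSeparatedSpace X] [CompactSpace X₀] [QuasiSeparatedSpace X₀]
    (h0 : ∀ F : EtCoh.Ab X, EtCoh.IsTorsion F → Function.Bijective (EtCore.Hpull i F 0))
    (hI : ∀ (n : ℕ), n ≠ 0 → ∀ I : EtCoh.Ab X, InjKilled n I →
      ∀ q, Subsingleton (EtCoh.H X₀ ((EtCoh.pull i).obj I) (q + 1)))
    (q : ℕ) (F : EtCoh.Ab X) (hF : EtCoh.IsTorsion F) : Function.Bijective (EtCore.Hpull i F q) := by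
  haveI := EtLC12.QcqsAcyclic.preservesColimitsOfShape_HF X q (TorIdx.{u} Set.univ)
  haveI := EtLC12.QcqsAcyclic.preservesColimitsOfShape_HF X₀ q (TorIdx.{u} Set.univ)
  haveI : (EtCoh.pull i).IsLeftAdjoint := (EtCoh.pullPushAdj i).isLeftAdjoint
  have h := isIso_app_of_isColimit (hpullNat i q) (isColimitTor hF) fun a => by
    refine (ConcreteCategory.isIso_iff_bijective _).2 (Hpull_bijective_of_killed i
      (Nat.pos_iff_ne_zero.1 a.prop.1) (fun G hG => h0 G ?_) (hI a.val (Nat.pos_iff_ne_zero.1 a.prop.1)) q _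
      (EtBCA.BCQ.killedBy_of_nsmul_id (nsmul_id_torSystem F a)))
    exact TorsColim.isLTorsion_univ_iff.1 (EtBCA.isLTorsion_of_nsmul_id_eq_zero
      ⟨a.prop.1, fun p _ _ => Set.mem_univ p⟩ (EtBCA.BCQ.nsmul_id_of_killedBy hG))
  exact (ConcreteCategory.isIso_iff_bijective _).1 h

end Hpull

section bcQ

variable {X S X' S' : Scheme.{u}} (f : X ⟶ S) (g : S' ⟶ S) (f' : X' ⟶ S') (g' : X' ⟶ X)
  (w : g' ≫ f = f' ≫ g) [PreservesFiniteLimits (EtCoh.pull g)] [PreservesFiniteLimits (EtCoh.pull g')]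

attribute [local instance] EtBCA.BCQ.pullAdditive EtBCA.BCQ.pullColimits

theorem isIso_bcQ_zero (F : EtCoh.Ab X) [IsIso (EtCoh.baseChange0 f g f' g' w F)] :
    IsIso (EtBC.bcQ f g f' g' w 0 F) := by
  haveI := (EtCoh.pullPushAdj f).rightAdjoint_preservesLimits
  haveI := (EtCoh.pullPushAdj f').rightAdjoint_preservesLimits
  haveI := (EtCoh.pullPushAdj f).right_adjoint_additive
  haveI := (EtCoh.pullPushAdj f').right_adjoint_additive
  have h := EtBCA.BCQ.natMap_app_toRightDerivedZero (EtBCA.BCQ.beta f g f' g' w) F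
  rw [EtBCA.BCQ.beta_app] at h
  rw [EtBCA.BCQ.bcQ_eq]
  haveI : IsIso ((EtCoh.push f).toRightDerivedZero.app F) := inferInstance
  haveI : IsIso ((EtCoh.push f').toRightDerivedZero.app ((EtCoh.pull g').obj F)) := inferInstance
  haveI : IsIso ((EtCoh.pull g).map ((EtCoh.push f).toRightDerivedZero.app F) ≫
      EtBCA.BCQ.bc (EtBCA.BCQ.beta f g f' g' w) 0 F) := by
    rw [h]; infer_instance
  exact IsIso.of_isIso_comp_left ((EtCoh.pull g).map ((EtCoh.push f).toRightDerivedZero.app F)) _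

variable [QuasiCompact f] [QuasiSeparated f]

omit [PreservesFiniteLimits (EtCoh.pull g)] in
theorem isIso_bcQ_of_killed {n : ℕ}
    (h0 : ∀ F : EtCoh.Ab X, EtCoh.KilledBy n F → IsIso (EtBC.bcQ f g f' g' w 0 F))
    (hI : ∀ I : EtCoh.Ab X, InjKilled n I → ∀ q, IsZero ((EtCoh.Rpush f' (q + 1)).obj ((EtCoh.pull g').obj I))) :
    ∀ (q : ℕ) (F : EtCoh.Ab X), EtCoh.KilledBy n F → IsIso (EtBC.bcQ f g f' g' w q F)
  | 0, F, hF => h0 F hF
  | q + 1, F, hF => by
    have ih := isIso_bcQ_of_killed h0 hI q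
    obtain ⟨I, ι, _, hI'⟩ := InjKilled.exists_embedding hF
    obtain ⟨φ, _, -⟩ := EtBCA.BCQ.exists_mono_cokernel_killed w ih ι hI'.killed
    haveI := EtBCA.BCQ.mono_bcQ_succ_killed w ih F hF
    haveI : Epi (EtBC.bcQ f g f' g' w (q + 1) F) :=
      Preadditive.epi_of_isZero_cokernel _ (IsZero.of_mono φ ((hI I hI' q).of_epi (cokernel.π _)))
    exact isIso_of_mono_of_epi _

omit [QuasiCompact f] [QuasiSeparated f] in
/-- the base change map as a natural transformation -/
noncomputable def bcQNat (q : ℕ) :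
    EtCoh.Rpush f q ⋙ EtCoh.pull g ⟶ EtCoh.pull g' ⋙ EtCoh.Rpush f' q where
  app F := EtBC.bcQ f g f' g' w q F
  naturality _ _ φ := EtBCA.BCQ.bcQ_natural f g f' g' w q φ

/-- stalks of higher direct images commute with filtered colimits -/
theorem preservesColimitsOfShape_stalk_Rpush {P Q : Scheme.{u}} (h : P ⟶ Q) [QuasiCompact h] [QuasiSeparated h]
    {Ω : Type u} [Field Ω] [IsSepClosed Ω] (ξ : Spec (CommRingCat.of Ω) ⟶ Q) (q : ℕ)
    (J : Type (u + 1)) [SmallCategory J] [IsFiltered J] :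
    PreservesColimitsOfShape J (EtCoh.Rpush h q ⋙ EtCoh.stalk ξ) := by
  let σ := CdLib.EtaleStrictHens.toX ξ
  obtain ⟨e⟩ := EtLimCore.nonempty_stalk_Rpush_iso h ξ (L := EtLimCore.locCone ξ) σ
    (EtLimCore.locCone_hom ξ) (EtLimCore.isLimitLocCone ξ) q
  haveI : IsAffine (EtLimCore.locCone ξ).pt := inferInstanceAs (IsAffine (Spec _))
  haveI : CompactSpace ↥(EtLimCore.locCone ξ).pt := inferInstance
  haveI : CompactSpace ↥(pullback h σ) := QuasiCompact.compactSpace_of_compactSpace (pullback.snd h σ)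
  haveI : QuasiSeparatedSpace ↥(pullback h σ) := quasiSeparatedSpace_of_quasiSeparated (pullback.snd h σ)
  haveI := EtLC12.QcqsAcyclic.preservesColimitsOfShape_HF (pullback h σ) q J
  haveI : (EtCoh.pull (pullback.fst h σ)).IsLeftAdjoint := (EtCoh.pullPushAdj _).isLeftAdjoint
  have hp : PreservesColimitsOfShape J (EtCoh.pull (pullback.fst h σ) ⋙ EtCoh.HF (pullback h σ) q) :=
    comp_preservesColimitsOfShape (EtCoh.pull (pullback.fst h σ)) (EtCoh.HF (pullback h σ) q)
  exact @preservesColimitsOfShape_of_natIso _ _ _ _ _ _ _ _ e.symm hp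

/-- base change for torsion sheaves -/
theorem isIso_bcQ [QuasiCompact f'] [QuasiSeparated f']
    (h0 : ∀ F : EtCoh.Ab X, EtCoh.IsTorsion F → IsIso (EtBC.bcQ f g f' g' w 0 F))
    (hI : ∀ (n : ℕ), n ≠ 0 → ∀ I : EtCoh.Ab X, InjKilled n I →
      ∀ q, IsZero ((EtCoh.Rpush f' (q + 1)).obj ((EtCoh.pull g').obj I)))
    (q : ℕ) (F : EtCoh.Ab X) (hF : EtCoh.IsTorsion F) : IsIso (EtBC.bcQ f g f' g' w q F) := by
  refine (EtFound.isIso_iff_stalks _).2 fun Ω _ _ ξ => ?_
  haveI := preservesColimitsOfShape_stalk_Rpush f' ξ q (TorIdx.{u} Set.univ)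
  haveI := preservesColimitsOfShape_stalk_Rpush f (ξ ≫ g) q (TorIdx.{u} Set.univ)
  haveI : (EtCoh.pull g').IsLeftAdjoint := (EtCoh.pullPushAdj _).isLeftAdjoint
  haveI : PreservesColimitsOfShape (TorIdx.{u} Set.univ) ((EtCoh.Rpush f q ⋙ EtCoh.pull g) ⋙ EtCoh.stalk ξ) :=
    preservesColimitsOfShape_of_natIso
      (Functor.isoWhiskerLeft (EtCoh.Rpush f q) (EtFound.stalkPullIso g ξ).symm ≪≫ (Functor.associator _ _ _).symm)
  haveI : PreservesColimitsOfShape (TorIdx.{u} Set.univ) ((EtCoh.pull g' ⋙ EtCoh.Rpush f' q) ⋙ EtCoh.stalk ξ) :=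
    preservesColimitsOfShape_of_natIso (Functor.associator _ _ _).symm
  refine isIso_app_of_isColimit (Functor.whiskerRight (bcQNat f g f' g' w q) (EtCoh.stalk ξ))
    (isColimitTor hF) fun a => ?_
  haveI : IsIso (EtBC.bcQ f g f' g' w q ((torSystem F).obj a)) := by
    refine isIso_bcQ_of_killed f g f' g' w (fun G hG => h0 G ?_) (hI a.val (Nat.pos_iff_ne_zero.1 a.prop.1)) q _
      (EtBCA.BCQ.killedBy_of_nsmul_id (nsmul_id_torSystem F a))
    exact TorsColim.isLTorsion_univ_iff.1 (EtBCA.isLTorsion_of_nsmul_id_eq_zero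
      ⟨a.prop.1, fun p _ _ => Set.mem_univ p⟩ (EtBCA.BCQ.nsmul_id_of_killedBy hG))
  exact inferInstanceAs (IsIso ((EtCoh.stalk ξ).map (EtBC.bcQ f g f' g' w q ((torSystem F).obj a))))

end bcQ

end Groth.Agent.PBC50.Compare
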