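import Groth.Agent.PnCoh.Chow.Proper
import Groth.Prelude.Def_CohB1
import Mathlib.AlgebraicGeometry.ProjectiveSpectrum.Functor
import Mathlib.RingTheory.GradedAlgebra.Radical
import Mathlib.RingTheory.MvPolynomial.Homogeneous
import Mathlib.RingTheory.MvPolynomial.Ideal

/-!
# Change of rings for projective space, and zero loci in projective space
-/

set_option linter.style.haveILetI false

universe u

open CategoryTheory AlgebraicGeometry HomogeneousLocalization

namespace Groth.Agent.PBC50

set_option backward.isDefEq.respectTransparency.types false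

variable {R S : Type u} [CommRing R] [CommRing S] (φ : R →+* S) (n : ℕ)

/-- Change of coefficients of polynomials, as a graded ring homomorphism. -/
noncomputable def polyMap : CohB1.polyGrading n R →+*ᵍ CohB1.polyGrading n S where
  __ := MvPolynomial.map (σ := Fin (n + 1)) φ
  map_mem {_ x} hx := (MvPolynomial.mem_homogeneousSubmodule _ _).2
    (((MvPolynomial.mem_homogeneousSubmodule _ _).1 hx).map φ)

theorem polyMap_apply (x : MvPolynomial (Fin (n + 1)) R) : polyMap φ n x = MvPolynomial.map φ x := rfl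

theorem mem_span_X_of_mem_irrelevant {x : MvPolynomial (Fin (n + 1)) S}
    (hx : x ∈ HomogeneousIdeal.irrelevant (CohB1.polyGrading n S)) :
    x ∈ Ideal.span (Set.range (MvPolynomial.X : Fin (n + 1) → MvPolynomial (Fin (n + 1)) S)) := by
  classical
  have h0 : x.coeff 0 = 0 := by
    rw [HomogeneousIdeal.mem_irrelevant_iff, GradedRing.proj_apply] at hx
    exact (MvPolynomial.C_eq_zero).1 ((MvPolynomial.homogeneousComponent_zero x).symm.trans
      ((MvPolynomial.decomposition.decompose'_apply x 0).symm.trans hx))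
  rw [← Set.image_univ, MvPolynomial.mem_ideal_span_X_image]
  intro m hm
  obtain ⟨i, hi⟩ : ∃ i, m i ≠ 0 := by
    by_contra h
    push Not at h
    have : m = 0 := Finsupp.ext h
    exact (MvPolynomial.mem_support_iff.1 hm) (this ▸ h0)
  exact ⟨i, Set.mem_univ _, hi⟩

theorem X_mem_irrelevant (i : Fin (n + 1)) :
    (MvPolynomial.X i : MvPolynomial (Fin (n + 1)) R) ∈ HomogeneousIdeal.irrelevant (CohB1.polyGrading n R) := by
  rw [HomogeneousIdeal.mem_irrelevant_iff, GradedRing.proj_apply]
  exact DirectSum.decompose_of_mem_ne _ ((MvPolynomial.mem_homogeneousSubmodule _ _).2 (MvPolynomial.isHomogeneous_X _ i)) one_ne_zero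

theorem irrelevant_le_map :
    HomogeneousIdeal.irrelevant (CohB1.polyGrading n S) ≤
      (HomogeneousIdeal.irrelevant (CohB1.polyGrading n R)).map (polyMap φ n) := by
  intro x hx
  refine (Ideal.span_le.2 ?_) (mem_span_X_of_mem_irrelevant n hx)
  rintro _ ⟨i, rfl⟩
  have h := Ideal.mem_map_of_mem (polyMap φ n) (X_mem_irrelevant (R := R) n i)
  rwa [polyMap_apply, MvPolynomial.map_X] at h

/-- Change of rings `P^n_S ⟶ P^n_R`. -/
noncomputable def projMap : CohB1.ProjSpace n S ⟶ CohB1.ProjSpace n R :=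
  Proj.map (polyMap φ n) (irrelevant_le_map φ n)

theorem projMap_toSpec :
    projMap φ n ≫ CohB1.ProjSpace.toSpec n R = CohB1.ProjSpace.toSpec n S ≫ Spec.map (CommRingCat.ofHom φ) := by
  refine (Proj.mapAffineOpenCover (polyMap φ n) (irrelevant_le_map φ n)).openCover.hom_ext _ _ ?_
  rintro ⟨⟨i, hi⟩, ⟨f, hf₀⟩⟩
  have hf : f ∈ CohB1.polyGrading n R i := hf₀
  show Proj.awayι (CohB1.polyGrading n S) (polyMap φ n f) ((polyMap φ n).map_mem hf) hi ≫
      Proj.map (polyMap φ n) (irrelevant_le_map φ n) ≫ Proj.toSpecZero (CohB1.polyGrading n R) ≫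
        Spec.map (CommRingCat.ofHom (algebraMap R (CohB1.polyGrading n R 0))) =
    Proj.awayι (CohB1.polyGrading n S) (polyMap φ n f) ((polyMap φ n).map_mem hf) hi ≫
      (Proj.toSpecZero (CohB1.polyGrading n S) ≫
        Spec.map (CommRingCat.ofHom (algebraMap S (CohB1.polyGrading n S 0)))) ≫ Spec.map (CommRingCat.ofHom φ)
  rw [Category.assoc, Proj.awayι_comp_map_assoc (polyMap φ n) (irrelevant_le_map φ n) hi f hf,
    Proj.awayι_toSpecZero_assoc, Proj.awayι_toSpecZero_assoc, ← Spec.map_comp, ← Spec.map_comp, ← Spec.map_comp,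
    ← Spec.map_comp]
  refine congrArg Spec.map ?_
  ext r
  show (Away.map (polyMap φ n) _ (fromZeroRingHom _ _ (algebraMap R (CohB1.polyGrading n R 0) r))).val =
    (fromZeroRingHom (CohB1.polyGrading n S) _ (algebraMap S (CohB1.polyGrading n S 0) (φ r))).val
  simp only [fromZeroRingHom, Away.map, RingHom.coe_mk, MonoidHom.coe_mk, OneHom.coe_mk]
  erw [HomogeneousLocalization.map_mk, HomogeneousLocalization.val_mk, HomogeneousLocalization.val_mk]
  simp [NumDenSameDeg.map, polyMap_apply, MvPolynomial.algebraMap_eq]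

/-- The image in `Spec R` of a point of `P^n_R` is the trace of its homogeneous prime on the constants. -/
theorem toSpec_mem_basicOpen (x : CohB1.ProjSpace n R) (a : R) :
    CohB1.ProjSpace.toSpec n R x ∈ PrimeSpectrum.basicOpen a ↔
      MvPolynomial.C a ∉ x.asHomogeneousIdeal := by
  obtain ⟨⟨⟨d, hd⟩, ⟨s, hs⟩⟩, z, rfl⟩ := (Proj.affineOpenCover (CohB1.polyGrading n R)).openCover.exists_eq x
  have hC : (MvPolynomial.C a : MvPolynomial (Fin (n + 1)) R) ∈ CohB1.polyGrading n R 0 :=
    (MvPolynomial.mem_homogeneousSubmodule _ _).2 (MvPolynomial.isHomogeneous_C _ a)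
  have hg : MvPolynomial.C a * s ∈ CohB1.polyGrading n R d := by
    simpa using SetLike.mul_mem_graded hC hs
  have hpre := congrArg (fun U : TopologicalSpace.Opens _ => z ∈ U)
    (Proj.awayι_preimage_basicOpen (CohB1.polyGrading n R) hs hd hg hd)
  let y := Proj.awayι (CohB1.polyGrading n R) s hs hd z
  have hsy : s ∉ y.asHomogeneousIdeal := by
    have : y ∈ (Proj.awayι (CohB1.polyGrading n R) s hs hd).opensRange := ⟨z, rfl⟩
    rwa [Proj.opensRange_awayι] at this
  have h1 : MvPolynomial.C a ∉ y.asHomogeneousIdeal ↔ z ∈ PrimeSpectrum.basicOpen (Away.isLocalizationElem hs hg) := by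
    refine Iff.trans ?_ hpre.to_iff
    show _ ↔ y ∈ Proj.basicOpen (CohB1.polyGrading n R) (MvPolynomial.C a * s)
    rw [Proj.mem_basicOpen]
    refine not_congr ⟨fun h => Ideal.mul_mem_right _ _ h, fun h => ?_⟩
    exact (y.isPrime.mem_or_mem h).resolve_right hsy
  have h2 : Away.isLocalizationElem hs hg =
      (fromZeroRingHom (CohB1.polyGrading n R) (Submonoid.powers s) (algebraMap R (CohB1.polyGrading n R 0) a)) ^ d := by
    refine HomogeneousLocalization.val_injective _ ?_
    simp only [Away.isLocalizationElem, Away.val_mk, HomogeneousLocalization.val_pow, fromZeroRingHom,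
      RingHom.coe_mk, MonoidHom.coe_mk, OneHom.coe_mk, val_mk, Localization.mk_pow]
    rw [Localization.mk_eq_mk_iff, Localization.r_iff_exists]
    refine ⟨1, ?_⟩
    simp [MvPolynomial.algebraMap_eq, mul_pow]
    ring
  show CohB1.ProjSpace.toSpec n R y ∈ PrimeSpectrum.basicOpen a ↔ MvPolynomial.C a ∉ y.asHomogeneousIdeal
  rw [h1, h2, PrimeSpectrum.basicOpen_pow _ d hd]
  show ((Proj.awayι (CohB1.polyGrading n R) s hs hd) ≫ CohB1.ProjSpace.toSpec n R) z ∈ _ ↔ _
  dsimp only [CohB1.ProjSpace.toSpec]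
  erw [Proj.awayι_toSpecZero_assoc, ← Spec.map_comp]
  rfl

end Groth.Agent.PBC50
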