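import Groth.Agent.PBC50.GammaIdem
import Groth.Agent.PBC50.PolyProj
import Groth.Agent.H23.RedSub
import Groth.Agent.Hensel.PairBasic
import Mathlib.RingTheory.FiniteType

/-!
# An integral closed subscheme of projective space over a henselian pair has connected closed part
-/

set_option linter.style.haveILetI false

universe u

open CategoryTheory CategoryTheory.Limits AlgebraicGeometry Topology TopologicalSpace
open Groth.Agent.HensCouple7 ProjectiveSpectrum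
open scoped TensorProduct

namespace Groth.Agent.PBC50

set_option backward.isDefEq.respectTransparency.types false

section radical

variable {A : Type u} [CommRing A] {n : ℕ}

theorem isHomogeneous_map_C (I : Ideal A) :
    (I.map (MvPolynomial.C : A →+* MvPolynomial (Fin (n + 1)) A)).IsHomogeneous (CohB1.polyGrading n A) := by
  refine Ideal.homogeneous_span _ _ ?_
  rintro _ ⟨a, -, rfl⟩
  exact ⟨0, (MvPolynomial.mem_homogeneousSubmodule _ _).2 (MvPolynomial.isHomogeneous_C _ a)⟩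

theorem exists_X_notMem (x : ProjectiveSpectrum (CohB1.polyGrading n A)) :
    ∃ i, (MvPolynomial.X i : MvPolynomial (Fin (n + 1)) A) ∉ x.asHomogeneousIdeal := by
  by_contra h
  push Not at h
  refine x.not_irrelevant_le fun p hp => ?_
  refine (Ideal.span_le.2 ?_) (mem_span_X_of_mem_irrelevant n hp)
  rintro _ ⟨i, rfl⟩
  exact h i

theorem X_mul_mem_radical {J : Ideal (MvPolynomial (Fin (n + 1)) A)}
    (hJ : J.IsHomogeneous (CohB1.polyGrading n A)) {f : MvPolynomial (Fin (n + 1)) A}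
    (hf : ∀ x : ProjectiveSpectrum (CohB1.polyGrading n A), (J : Set _) ⊆ (x.asHomogeneousIdeal : Set (MvPolynomial (Fin (n + 1)) A)) →
      f ∈ x.asHomogeneousIdeal) (i : Fin (n + 1)) :
    MvPolynomial.X i * f ∈ J.radical := by
  rw [hJ.radical_eq, Submodule.mem_sInf]
  rintro q ⟨hq, hJq, hqp⟩
  by_cases hX : (MvPolynomial.X i : MvPolynomial (Fin (n + 1)) A) ∈ q
  · exact Ideal.mul_mem_right _ _ hX
  · refine Ideal.mul_mem_left _ _ (hf ⟨⟨q, hq⟩, hqp, fun hle => hX (hle (X_mem_irrelevant n i))⟩ fun p hp => hJq hp)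

end radical

variable {A : Type u} [CommRing A] (I : Ideal A) [HenselianRing A I] {n : ℕ} {X : Scheme.{u}}

theorem isPreconnected_of_closedImmersion_projSpace [IsIntegral X] (p : X ⟶ CohB1.ProjSpace n A)
    [IsClosedImmersion p] (f : X ⟶ Spec (CommRingCat.of A)) (hpf : p ≫ CohB1.ProjSpace.toSpec n A = f) :
    _root_.IsPreconnected (f ⁻¹' PrimeSpectrum.zeroLocus (I : Set A)) := by
  classical
  rw [isPreconnected_closed_iff]
  intro u v hu hv huv hune hvne
  by_contra hne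
  rw [Set.not_nonempty_iff_eq_empty] at hne
  let Z : Set X := f ⁻¹' PrimeSpectrum.zeroLocus (I : Set A)
  have hZc : IsClosed Z := (PrimeSpectrum.isClosed_zeroLocus _).preimage f.continuous
  let Cu : Set (ProjectiveSpectrum (CohB1.polyGrading n A)) := p '' (Z ∩ u)
  let Cv : Set (ProjectiveSpectrum (CohB1.polyGrading n A)) := p '' (Z ∩ v)
  let S : Set (ProjectiveSpectrum (CohB1.polyGrading n A)) := Set.range p
  have hCu : IsClosed Cu := p.isClosedEmbedding.isClosedMap _ (hZc.inter hu)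
  have hCv : IsClosed Cv := p.isClosedEmbedding.isClosedMap _ (hZc.inter hv)
  have hS : IsClosed S := p.isClosedEmbedding.isClosed_range
  let P := (vanishingIdeal S).toIdeal
  let a := (vanishingIdeal Cu).toIdeal
  let b := (vanishingIdeal Cv).toIdeal
  let K : Ideal (MvPolynomial (Fin (n + 1)) A) := I.map MvPolynomial.C
  have hzero : ∀ (T : Set (ProjectiveSpectrum (CohB1.polyGrading n A))), IsClosed T → ∀ x,
      ((vanishingIdeal T).toIdeal : Set _) ⊆ (x.asHomogeneousIdeal : Set (MvPolynomial (Fin (n + 1)) A)) → x ∈ T := by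
    intro T hT x hx
    have : x ∈ ProjectiveSpectrum.zeroLocus (CohB1.polyGrading n A) ((vanishingIdeal T : HomogeneousIdeal _) : Set _) := hx
    rwa [ProjectiveSpectrum.zeroLocus_vanishingIdeal_eq_closure, hT.closure_eq] at this
  have hK : ∀ x : ProjectiveSpectrum (CohB1.polyGrading n A), (K : Set _) ⊆ (x.asHomogeneousIdeal : Set (MvPolynomial (Fin (n + 1)) A)) ↔
      CohB1.ProjSpace.toSpec n A x ∈ PrimeSpectrum.zeroLocus (I : Set A) := by
    intro x
    constructor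
    · intro h c hc
      by_contra hcx
      exact (toSpec_mem_basicOpen n x c).1 hcx (h (Ideal.mem_map_of_mem _ hc))
    · intro h
      refine Ideal.map_le_iff_le_comap.2 fun c hc => ?_
      by_contra hcx
      exact (toSpec_mem_basicOpen n x c).2 hcx (h hc)
  have hfp : ∀ z : X, CohB1.ProjSpace.toSpec n A (p z) = f z := fun z => by
    rw [← Scheme.Hom.comp_apply, hpf]
  have hcases : ∀ x : ProjectiveSpectrum (CohB1.polyGrading n A), ((P ⊔ K : Ideal _) : Set _) ⊆ (x.asHomogeneousIdeal : Set (MvPolynomial (Fin (n + 1)) A)) →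
      x ∈ Cu ∪ Cv := by
    intro x hx
    obtain ⟨z, rfl⟩ := hzero S hS x fun _ h => hx (Ideal.mem_sup_left h)
    have hz : z ∈ Z := by
      show f z ∈ PrimeSpectrum.zeroLocus (I : Set A)
      rw [← hfp]
      exact (hK _).1 fun _ h => hx (Ideal.mem_sup_right h)
    exact (huv hz).imp (fun h => ⟨z, ⟨hz, h⟩, rfl⟩) fun h => ⟨z, ⟨hz, h⟩, rfl⟩
  have hPK : (P ⊔ K).IsHomogeneous (CohB1.polyGrading n A) :=
    (vanishingIdeal S).isHomogeneous.sup (isHomogeneous_map_C I)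
  -- finitely many witnesses
  have w1 : ∀ i : Fin (n + 1), ∃ (m : ℕ) (α β π ι : MvPolynomial (Fin (n + 1)) A),
      α ∈ a ∧ β ∈ b ∧ π ∈ P ∧ ι ∈ K ∧ MvPolynomial.X i ^ m = α + β + (π + ι) := by
    intro i
    have h1 : MvPolynomial.X i * 1 ∈ ((a ⊔ b) ⊔ (P ⊔ K)).radical := by
      refine X_mul_mem_radical ((((vanishingIdeal Cu).isHomogeneous.sup (vanishingIdeal Cv).isHomogeneous)).sup hPK) (fun x hx => ?_) i
      obtain ⟨z, ⟨hz, hzu⟩, rfl⟩ := hzero Cu hCu x fun _ h => hx (Ideal.mem_sup_left (Ideal.mem_sup_left h))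
      obtain ⟨z', ⟨hz', hzv⟩, he⟩ := hzero Cv hCv _ fun _ h => hx (Ideal.mem_sup_left (Ideal.mem_sup_right h))
      obtain rfl := p.isClosedEmbedding.injective he
      exact absurd ⟨hz, hzu, hzv⟩ (Set.eq_empty_iff_forall_notMem.mp hne z')
    obtain ⟨m, hm⟩ := h1
    rw [mul_one] at hm
    obtain ⟨y, hy, y', hy', e⟩ := Submodule.mem_sup.1 hm
    obtain ⟨α, hα, β, hβ, rfl⟩ := Submodule.mem_sup.1 hy
    obtain ⟨π, hπ, ι, hι, rfl⟩ := Submodule.mem_sup.1 hy'
    exact ⟨m, α, β, π, ι, hα, hβ, hπ, hι, e.symm⟩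
  choose m α β π ι hα hβ hπ hι e using w1
  have w2 : ∀ t : Fin (n + 1) × Fin (n + 1) × Fin (n + 1), ∃ (k : ℕ) (π' ι' : MvPolynomial (Fin (n + 1)) A),
      π' ∈ P ∧ ι' ∈ K ∧ (MvPolynomial.X t.1 * (α t.2.1 * β t.2.2)) ^ k = π' + ι' := by
    intro t
    have h1 : MvPolynomial.X t.1 * (α t.2.1 * β t.2.2) ∈ (P ⊔ K).radical := by
      refine X_mul_mem_radical hPK (fun x hx => ?_) _
      rcases hcases x hx with h | h
      · exact Ideal.mul_mem_right _ _ ((mem_vanishingIdeal _ _).1 (hα t.2.1) x h)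
      · exact Ideal.mul_mem_left _ _ ((mem_vanishingIdeal _ _).1 (hβ t.2.2) x h)
    obtain ⟨k, hk⟩ := h1
    obtain ⟨π', hπ', ι', hι', e⟩ := Submodule.mem_sup.1 hk
    exact ⟨k, π', ι', hπ', hι', e.symm⟩
  choose k π' ι' hπ' hι' e' using w2
  -- the Noetherian model
  let s : Finset A := Finset.univ.biUnion (fun i => (α i).coeffs ∪ (β i).coeffs ∪ (π i).coeffs ∪ (ι i).coeffs) ∪
    Finset.univ.biUnion (fun t => (π' t).coeffs ∪ (ι' t).coeffs)
  let A₀ : Subalgebra ℤ A := Algebra.adjoin ℤ (s : Set A)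
  haveI : Algebra.FiniteType ℤ A₀ := Subalgebra.fg_iff_finiteType A₀ |>.1 (Subalgebra.fg_adjoin_finset s)
  haveI : IsNoetherianRing A₀ := Algebra.FiniteType.isNoetherianRing ℤ A₀
  let φ : A₀ →+* A := algebraMap A₀ A
  let M := MvPolynomial.map (σ := Fin (n + 1)) φ
  have hMinj : Function.Injective M := MvPolynomial.map_injective φ Subtype.val_injective
  have hlift : ∀ g : MvPolynomial (Fin (n + 1)) A, g.coeffs ⊆ s → ∃ g₀, M g₀ = g := by
    intro g hg
    refine MvPolynomial.mem_range_map_iff_coeffs_subset.2 fun c hc => ?_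
    exact ⟨⟨c, Algebra.subset_adjoin (hg hc)⟩, rfl⟩
  have hsub1 : ∀ i, (α i).coeffs ⊆ s ∧ (β i).coeffs ⊆ s ∧ (π i).coeffs ⊆ s ∧ (ι i).coeffs ⊆ s := by
    intro i
    refine ⟨?_, ?_, ?_, ?_⟩ <;>
      exact fun c hc => Finset.mem_union_left _ (Finset.mem_biUnion.2 ⟨i, Finset.mem_univ _, by simp [hc]⟩)
  have hsub2 : ∀ t, (π' t).coeffs ⊆ s ∧ (ι' t).coeffs ⊆ s := by
    intro t
    refine ⟨?_, ?_⟩ <;>
      exact fun c hc => Finset.mem_union_right _ (Finset.mem_biUnion.2 ⟨t, Finset.mem_univ _, by simp [hc]⟩)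
  choose α₀ hα₀ using fun i => hlift (α i) (hsub1 i).1
  choose β₀ hβ₀ using fun i => hlift (β i) (hsub1 i).2.1
  choose π₀ hπ₀ using fun i => hlift (π i) (hsub1 i).2.2.1
  choose ι₀ hι₀ using fun i => hlift (ι i) (hsub1 i).2.2.2
  choose π₀' hπ₀' using fun t => hlift (π' t) (hsub2 t).1
  choose ι₀' hι₀' using fun t => hlift (ι' t) (hsub2 t).2
  let I₀ : Ideal A₀ := I.comap φ
  let P₀ : Ideal (MvPolynomial (Fin (n + 1)) A₀) := P.comap M
  have hKcomap : ∀ g, M g ∈ K → g ∈ I₀.map MvPolynomial.C := by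
    intro g hg
    rw [MvPolynomial.mem_map_C_iff]
    intro d
    have := MvPolynomial.mem_map_C_iff.1 hg d
    rwa [MvPolynomial.coeff_map] at this
  let q : CohB1.ProjSpace n A ⟶ CohB1.ProjSpace n A₀ := projMap φ n
  have hq : ∀ (x : CohB1.ProjSpace n A) (g : MvPolynomial (Fin (n + 1)) A₀),
      g ∈ (q x).asHomogeneousIdeal ↔ M g ∈ x.asHomogeneousIdeal := fun x g => Iff.rfl
  let S₀ : Closeds ↥(CohB1.ProjSpace n A₀) :=
    ⟨ProjectiveSpectrum.zeroLocus (CohB1.polyGrading n A₀) (P₀ : Set _), ProjectiveSpectrum.isClosed_zeroLocus _ _⟩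
  let j := (Scheme.IdealSheafData.vanishingIdeal S₀).subschemeι
  have hrange : Set.range (p ≫ q) ⊆ Set.range j := by
    rw [H23.RedSub.range_vanishingIdeal]
    rintro _ ⟨z, rfl⟩ g hg
    rw [Scheme.Hom.comp_apply]
    exact (hq _ g).2 ((mem_vanishingIdeal _ _).1 hg (p z) ⟨z, rfl⟩)
  obtain ⟨r, hr⟩ := H23.RedSub.exists_lift_closed (p ≫ q) j hrange
  haveI := PnCoh.Chow.isProper_toSpec n A₀
  let h : _ ⟶ Spec (CommRingCat.of A₀) := j ≫ CohB1.ProjSpace.toSpec n A₀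
  haveI : IsProper h := inferInstanceAs (IsProper (j ≫ CohB1.ProjSpace.toSpec n A₀))
  let Z₀ : Set _ := h ⁻¹' PrimeSpectrum.zeroLocus (I₀ : Set A₀)
  let D : Set Z₀ := {y | ∀ i, α₀ i ∈ (j y.1).asHomogeneousIdeal}
  let D' : Set Z₀ := {y | ∀ i, β₀ i ∈ (j y.1).asHomogeneousIdeal}
  have hclosed : ∀ g : Fin (n + 1) → MvPolynomial (Fin (n + 1)) A₀,
      IsClosed {y : Z₀ | ∀ i, g i ∈ (j y.1).asHomogeneousIdeal} := by
    intro g
    have : {y : Z₀ | ∀ i, g i ∈ (j y.1).asHomogeneousIdeal} =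
        (fun y : Z₀ => j y.1) ⁻¹' ProjectiveSpectrum.zeroLocus (CohB1.polyGrading n A₀) (Set.range g) :=
      Set.ext fun y => ⟨fun h => Set.range_subset_iff.2 h, fun h i => h ⟨i, rfl⟩⟩
    rw [this]
    exact (ProjectiveSpectrum.isClosed_zeroLocus _ _).preimage (j.continuous.comp continuous_subtype_val)
  have hPmem : ∀ (y : Z₀) (g : MvPolynomial (Fin (n + 1)) A₀), g ∈ P₀ → g ∈ (j y.1).asHomogeneousIdeal := by
    intro y g hg
    have hy : j y.1 ∈ Set.range j := ⟨_, rfl⟩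
    rw [H23.RedSub.range_vanishingIdeal] at hy
    exact hy hg
  have hKmem : ∀ (y : Z₀) (g : MvPolynomial (Fin (n + 1)) A₀), g ∈ I₀.map MvPolynomial.C →
      g ∈ (j y.1).asHomogeneousIdeal := by
    intro y g hg
    refine (Ideal.map_le_iff_le_comap.2 fun c hc => ?_) hg
    by_contra hcx
    exact (toSpec_mem_basicOpen n (j y.1) c).2 hcx (y.2 hc)
  have hor : ∀ y, y ∈ D ∨ y ∈ D' := by
    intro y
    by_contra hy
    simp only [D, D', Set.mem_ofPred_eq, not_or, not_forall] at hy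
    obtain ⟨⟨i₁, h₁⟩, ⟨i₂, h₂⟩⟩ := hy
    obtain ⟨i, hi⟩ := exists_X_notMem (j y.1)
    have e0 : (MvPolynomial.X i * (α₀ i₁ * β₀ i₂)) ^ k (i, i₁, i₂) = π₀' (i, i₁, i₂) + ι₀' (i, i₁, i₂) := by
      refine hMinj ?_
      simp only [M, map_add, map_pow, map_mul, MvPolynomial.map_X]
      rw [hα₀, hβ₀, hπ₀', hι₀']
      exact e' (i, i₁, i₂)
    have hmem : (MvPolynomial.X i * (α₀ i₁ * β₀ i₂)) ^ k (i, i₁, i₂) ∈ (j y.1).asHomogeneousIdeal.toIdeal := by
      rw [e0]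
      refine add_mem (hPmem y _ ?_) (hKmem y _ (hKcomap _ ?_))
      · show M _ ∈ P; rw [hπ₀']; exact hπ' _
      · rw [hι₀']; exact hι' _
    rcases (j y.1).isPrime.mem_or_mem ((j y.1).isPrime.mem_of_pow_mem _ hmem) with h | h
    · exact hi h
    · exact ((j y.1).isPrime.mem_or_mem h).elim h₁ h₂
  have hdisj : ∀ y, y ∈ D → y ∉ D' := by
    intro y h1 h2
    obtain ⟨i, hi⟩ := exists_X_notMem (j y.1)
    have e0 : MvPolynomial.X i ^ m i = α₀ i + β₀ i + (π₀ i + ι₀ i) := by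
      refine hMinj ?_
      simp only [M, map_add, map_pow, MvPolynomial.map_X]
      rw [hα₀, hβ₀, hπ₀, hι₀]
      exact e i
    have hmem : (MvPolynomial.X i : MvPolynomial (Fin (n + 1)) A₀) ^ m i ∈ (j y.1).asHomogeneousIdeal.toIdeal := by
      rw [e0]
      refine add_mem (add_mem (h1 i) (h2 i)) (add_mem (hPmem y _ ?_) (hKmem y _ (hKcomap _ ?_)))
      · show M _ ∈ P; rw [hπ₀]; exact hπ _
      · rw [hι₀]; exact hι _
    exact hi ((j y.1).isPrime.mem_of_pow_mem _ hmem)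
  have hDclopen : IsClopen D := by
    refine ⟨hclosed α₀, ?_⟩
    have : D = D'ᶜ := Set.ext fun y => ⟨hdisj y, fun h => (hor y).resolve_right h⟩
    rw [this]
    exact (hclosed β₀).isOpen_compl
  obtain ⟨γ, hγ, hγD⟩ := exists_gamma_idem I₀ h D hDclopen
  -- the idempotent on the henselian base
  have hcomm : r ≫ h = f ≫ Spec.map (CommRingCat.ofHom φ) := by
    rw [← Category.assoc, hr, Category.assoc, projMap_toSpec, ← Category.assoc, hpf]
  letI : Algebra A₀ Γ((Scheme.IdealSheafData.vanishingIdeal S₀).subscheme, ⊤) := (toΓ h).toAlgebra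
  haveI : Module.Finite A₀ Γ((Scheme.IdealSheafData.vanishingIdeal S₀).subscheme, ⊤) := finite_toΓ h
  let R := Γ((Scheme.IdealSheafData.vanishingIdeal S₀).subscheme, ⊤)
  letI : Algebra A Γ(X, ⊤) := (toΓ f).toAlgebra
  letI : Algebra A₀ Γ(X, ⊤) := ((toΓ f).comp φ).toAlgebra
  haveI hst : @IsScalarTower A₀ A Γ(X, ⊤) Algebra.toSMul Algebra.toSMul Algebra.toSMul :=
    IsScalarTower.of_algebraMap_eq' rfl
  have hnat : r.appTop.hom.comp (toΓ h) = (toΓ f).comp φ := by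
    have : (Scheme.ΓSpecIso (CommRingCat.of A₀)).inv ≫ (r ≫ h).appTop =
        CommRingCat.ofHom φ ≫ (Scheme.ΓSpecIso (CommRingCat.of A)).inv ≫ f.appTop := by
      rw [hcomm, Scheme.Hom.comp_appTop, Scheme.ΓSpecIso_inv_naturality_assoc]
    rw [Scheme.Hom.comp_appTop] at this
    exact congrArg CommRingCat.Hom.hom this
  let rA : R →ₐ[A₀] Γ(X, ⊤) := { r.appTop.hom with commutes' := fun c => DFunLike.congr_fun hnat c }
  let ψ : A ⊗[A₀] R →ₐ[A] Γ(X, ⊤) :=
    Algebra.TensorProduct.lift (Algebra.ofId A Γ(X, ⊤)) rA fun _ _ => mul_comm _ _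
  have hψ : ∀ x : R, ψ ((1 : A) ⊗ₜ[A₀] x) = r.appTop.hom x := fun x => by
    simp [ψ, rA]
  let IT : Ideal (A ⊗[A₀] R) := I.map (algebraMap A (A ⊗[A₀] R))
  let inr : R →+* A ⊗[A₀] R := (Algebra.TensorProduct.includeRight : R →ₐ[A₀] A ⊗[A₀] R).toRingHom
  have hincl : I₀.map (toΓ h) ≤ IT.comap inr := by
    refine Ideal.map_le_iff_le_comap.2 fun c hc => ?_
    show inr (algebraMap A₀ R c) ∈ IT
    rw [show inr (algebraMap A₀ R c) = algebraMap A₀ (A ⊗[A₀] R) c from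
      Algebra.TensorProduct.includeRight.commutes c, IsScalarTower.algebraMap_apply A₀ A (A ⊗[A₀] R)]
    exact Ideal.mem_map_of_mem _ hc
  obtain ⟨ε, hε, hεγ⟩ := (((Hensel.henselianRing_iff_idempotents_lift I).mp ‹_›) (A ⊗[A₀] R) inferInstance).surjOn
    (show IsIdempotentElem (Ideal.Quotient.mk IT (inr γ)) from by
      show _ * _ = _
      rw [← map_mul, ← map_mul, Ideal.Quotient.eq, ← map_sub]
      exact hincl hγ)
  have hdiff : ψ ε - r.appTop.hom γ ∈ I.map (toΓ f) := by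
    have h1 : ψ (ε - inr γ) ∈ IT.map ψ := Ideal.mem_map_of_mem _ (Ideal.Quotient.eq.1 hεγ)
    rw [map_sub] at h1
    have h2 : IT.map ψ ≤ I.map (toΓ f) := by
      rw [Ideal.map_le_iff_le_comap, Ideal.map_le_iff_le_comap]
      intro c hc
      rw [Ideal.mem_comap, Ideal.mem_comap, AlgHom.commutes]
      exact Ideal.mem_map_of_mem _ hc
    rw [← hψ γ]
    exact h2 h1
  have hvan : ∀ c ∈ I.map (toΓ f), ∀ z ∈ Z, z ∉ X.basicOpen c := by
    intro c hc z hz
    induction hc using Submodule.span_induction with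
    | mem c hc =>
      obtain ⟨c, hc, rfl⟩ := hc
      rw [mem_basicOpen_toΓ]
      exact fun h => h (hz hc)
    | zero => rw [Scheme.basicOpen_zero]; exact fun h => h.elim
    | add c d _ _ hc hd => exact fun h => (X.basicOpen_add_le _ _ h).elim hc hd
    | smul c d _ hd => rw [smul_eq_mul, Scheme.basicOpen_mul]; exact fun h => hd h.2
  have hmemZ : ∀ z ∈ Z, r z ∈ Z₀ := by
    intro z hz c hc
    have : h (r z) = Spec.map (CommRingCat.ofHom φ) (f z) := by
      rw [← Scheme.Hom.comp_apply, hcomm, Scheme.Hom.comp_apply]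
    rw [this]
    exact hz hc
  have hkey : ∀ z (hz : z ∈ Z), z ∈ X.basicOpen (r.appTop.hom γ) ↔ (⟨r z, hmemZ z hz⟩ : Z₀) ∈ D := by
    intro z hz
    rw [← Scheme.preimage_basicOpen_top]
    exact hγD ⟨r z, hmemZ z hz⟩
  have hjr : ∀ z, j (r z) = q (p z) := fun z => by
    rw [← Scheme.Hom.comp_apply, hr, Scheme.Hom.comp_apply]
  have hinD : ∀ z (hz : z ∈ Z), z ∈ u → (⟨r z, hmemZ z hz⟩ : Z₀) ∈ D := by
    intro z hz hzu i
    show α₀ i ∈ (j (r z)).asHomogeneousIdeal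
    rw [hjr, hq, hα₀]
    exact (mem_vanishingIdeal _ _).1 (hα i) _ ⟨z, ⟨hz, hzu⟩, rfl⟩
  have hinD' : ∀ z (hz : z ∈ Z), z ∈ v → (⟨r z, hmemZ z hz⟩ : Z₀) ∈ D' := by
    intro z hz hzu i
    show β₀ i ∈ (j (r z)).asHomogeneousIdeal
    rw [hjr, hq, hβ₀]
    exact (mem_vanishingIdeal _ _).1 (hβ i) _ ⟨z, ⟨hz, hzu⟩, rfl⟩
  obtain ⟨z₁, hz₁, hz₁u⟩ := hune
  obtain ⟨z₂, hz₂, hz₂v⟩ := hvne
  have hz₁γ := (hkey z₁ hz₁).2 (hinD z₁ hz₁ hz₁u)
  have hz₂γ : z₂ ∉ X.basicOpen (r.appTop.hom γ) := fun h =>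
    hdisj _ ((hkey z₂ hz₂).1 h) (hinD' z₂ hz₂ hz₂v)
  haveI : Nonempty ↥(⊤ : X.Opens) := ⟨⟨z₁, trivial⟩⟩
  rcases IsIdempotentElem.iff_eq_zero_or_one.1 ((show IsIdempotentElem ε from hε).map ψ) with h0 | h0 <;>
    rw [h0] at hdiff
  · rw [zero_sub] at hdiff
    exact hvan _ (neg_mem_iff.1 hdiff) z₁ hz₁ hz₁γ
  · have h1 : z₂ ∈ X.basicOpen (1 - r.appTop.hom γ) ⊔ X.basicOpen (r.appTop.hom γ) := by
      refine X.basicOpen_add_le _ _ ?_
      rw [sub_add_cancel, Scheme.basicOpen_of_isUnit _ isUnit_one]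
      trivial
    exact h1.elim (hvan _ hdiff z₂ hz₂) hz₂γ

end Groth.Agent.PBC50
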