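import Groth.Agent.PBC50.Germ
import Groth.Agent.EtFound.CompactObj
import Groth.Agent.EtFound.ExtZero

/-!
# Stalks of extensions by zero are generated by the tautological sections
-/

set_option autoImplicit false
set_option linter.style.haveILetI false

universe u

open CategoryTheory CategoryTheory.Limits AlgebraicGeometry Opposite

namespace Groth.Agent.PBC50

set_option backward.isDefEq.respectTransparency.types false

variable {X : Scheme.{u}}

/-- A map out of a stalk of `j_! M` vanishes when it kills the germs of the tautological sections. -/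
theorem eq_zero_of_taut {U : X.Etale} {M : Type} [AddCommGroup M] {Ω : Type u} [Field Ω] [IsSepClosed Ω]
    (ξ : Spec (CommRingCat.of Ω) ⟶ X) {A : AddCommGrpCat.{u + 1}}
    (q : (EtCoh.stalk ξ).obj (EtPBC.extZeroConst U M) ⟶ A)
    (h : ∀ (t : (Scheme.pointSmallEtale ξ).fiber.obj U) (m : ULift.{u + 1} M),
      q (germAt (EtPBC.extZeroConst U M) t (EtFound.taut U M m)) = 0) : q = 0 := by
  let Φ := Scheme.pointSmallEtale ξ
  refine (Φ.skyscraperSheafAdjunction.homEquiv (EtPBC.extZeroConst U M) A).injective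
    (EtFound.hom_ext_taut _ _ ?_)
  have key : ∀ (r : (EtCoh.stalk ξ).obj (EtPBC.extZeroConst U M) ⟶ A) (t : Φ.fiber.obj U),
      ((Φ.skyscraperSheafAdjunction.homEquiv (EtPBC.extZeroConst U M) A) r).hom.app (op U) ≫
        Pi.π (fun _ : Φ.fiber.obj U => A) t = Φ.toPresheafFiber U t (EtPBC.extZeroConst U M).obj ≫ r :=
    fun r t => (congrArg (fun g => NatTrans.app g (op U) ≫ Pi.π _ t)
      (Φ.skyscraperSheafAdjunction_homEquiv_apply_hom r)).trans (Φ.skyscraperPresheafHomEquiv_app_π r U t)
  refine Pi.hom_ext _ _ fun t => ?_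
  refine (Category.assoc _ _ _).trans ((congrArg (_ ≫ ·) (key q t)).trans
    (Eq.trans ?_ ((congrArg (_ ≫ ·) (key 0 t)).symm.trans (Category.assoc _ _ _).symm)))
  exact AddCommGrpCat.ext fun m => h t m

/-- A map onto the tautological germs is surjective on a stalk of `j_! M`. -/
theorem surjective_stalk_of_taut {U : X.Etale} {M : Type} [AddCommGroup M] {G : EtCoh.Ab X}
    (k : G ⟶ EtPBC.extZeroConst U M) {Ω : Type u} [Field Ω] [IsSepClosed Ω]
    (ξ : Spec (CommRingCat.of Ω) ⟶ X)
    (h : ∀ (t : (Scheme.pointSmallEtale ξ).fiber.obj U) (m : ULift.{u + 1} M),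
      germAt (EtPBC.extZeroConst U M) t (EtFound.taut U M m) ∈ Set.range ((EtCoh.stalk ξ).map k)) :
    Function.Surjective ((EtCoh.stalk ξ).map k) := by
  have h0 : cokernel.π ((EtCoh.stalk ξ).map k) = 0 := eq_zero_of_taut ξ _ fun t m => by
    obtain ⟨g, hg⟩ := h t m
    rw [← hg, ← ConcreteCategory.comp_apply, cokernel.condition]
    rfl
  exact (AddCommGrpCat.epi_iff_surjective _).1 (Preadditive.epi_of_cokernel_zero h0)

end Groth.Agent.PBC50
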