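import Groth.Agent.HensCouple7.ProperPair

/-!
# Clopen subsets of a closed part are cut out by global functions, idempotent modulo the ideal
-/

set_option linter.style.haveILetI false

universe u

open CategoryTheory CategoryTheory.Limits AlgebraicGeometry Topology
open Groth.Agent.HensCouple7

namespace Groth.Agent.PBC50

set_option backward.isDefEq.respectTransparency.types false

/-- Formal functions for idempotents: for `Y` proper over a Noetherian ring `A` and any ideal `I`, a
clopen part of the part of `Y` over `V(I)` is cut out by a global function idempotent modulo `I`. -/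
theorem exists_gamma_idem {A : Type u} [CommRing A] [IsNoetherianRing A] (I : Ideal A)
    {Y : Scheme.{u}} (h : Y ⟶ Spec (CommRingCat.of A)) [IsProper h]
    (V : Set ↥(h ⁻¹' PrimeSpectrum.zeroLocus (I : Set A))) (hV : IsClopen V) :
    ∃ b : Γ(Y, ⊤), b * b - b ∈ I.map (toΓ h) ∧
      ∀ z : ↥(h ⁻¹' PrimeSpectrum.zeroLocus (I : Set A)), z.1 ∈ Y.basicOpen b ↔ z ∈ V := by
  let C := AdicCompletion I A
  let η : A →+* C := algebraMap A C
  let J₀ : Ideal C := I.map η
  haveI : Module.Flat A C := AdicCompletion.flat_of_isNoetherian I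
  haveI : IsAdicComplete J₀ C := AdicCompletion.isAdicComplete_self I (IsNoetherian.noetherian I)
  haveI : IsNoetherianRing (C ⧸ J₀) := by
    refine isNoetherianRing_of_surjective A _ ((Ideal.Quotient.mk J₀).comp η) fun x => ?_
    obtain ⟨x, rfl⟩ := Ideal.Quotient.mk_surjective x
    obtain ⟨a, ha⟩ := Ideal.Quotient.mk_surjective (AdicCompletion.evalOneₐ I x)
    refine ⟨a, Ideal.Quotient.eq.mpr ?_⟩
    show _ ∈ I.map (algebraMap A C)
    rw [← AdicCompletion.ker_evalOneₐ_eq_map I (IsNoetherian.noetherian I), RingHom.mem_ker, map_sub, sub_eq_zero]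
    exact (DFunLike.congr_fun (AdicCompletion.evalOneₐ_comp_algebraMap_eq_mk I) a).trans ha
  haveI : IsNoetherianRing C := LocalCrit.isNoetherianRing_of_isAdicComplete J₀
    (Ideal.FG.map (IsNoetherian.noetherian I) _)
  let s := Spec.map (CommRingCat.ofHom η)
  haveI : Flat s := by
    rw [HasRingHomProperty.Spec_iff (P := @Flat)]; exact RingHom.flat_algebraMap_iff.mpr inferInstance
  haveI : CompactSpace Y := QuasiCompact.compactSpace_of_compactSpace h
  haveI : QuasiSeparatedSpace Y := quasiSeparatedSpace_of_quasiSeparated h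
  let W := pullback h s
  let p : W ⟶ Y := pullback.fst h s
  let hc : W ⟶ Spec (CommRingCat.of C) := pullback.snd h s
  have HW : IsPullback p hc h s := IsPullback.of_hasPullback h s
  let Z : Set Y := h ⁻¹' PrimeSpectrum.zeroLocus (I : Set A)
  have hZW : p ⁻¹' Z = hc ⁻¹' PrimeSpectrum.zeroLocus (J₀ : Set C) := by
    ext w
    have hw : h (p w) = s (hc w) := by rw [← Scheme.Hom.comp_apply, HW.w, Scheme.Hom.comp_apply]
    show (show PrimeSpectrum A from h (p w)) ∈ PrimeSpectrum.zeroLocus (I : Set A) ↔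
      (show PrimeSpectrum C from hc w) ∈ PrimeSpectrum.zeroLocus (J₀ : Set C)
    rw [hw]
    exact (Ideal.map_le_iff_le_comap (f := η)).symm
  have hsurj : ∀ z ∈ Z, ∃ w, p w = z := by
    intro z hz
    refine Set.mem_range.mp ?_
    rw [Scheme.Pullback.range_fst]
    let ev : C →+* A ⧸ I := (AdicCompletion.evalOneₐ I).toRingHom
    have hz' : h z ∈ Set.range (Spec.map (CommRingCat.ofHom (Ideal.Quotient.mk I))) := by
      rw [range_specMap_mk]; exact hz
    obtain ⟨x, hx⟩ := hz'
    refine ⟨Spec.map (CommRingCat.ofHom ev) x, ?_⟩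
    rw [← Scheme.Hom.comp_apply, ← Spec.map_comp, ← CommRingCat.ofHom_comp,
      show ev.comp η = Ideal.Quotient.mk I from AdicCompletion.evalOneₐ_comp_algebraMap_eq_mk I, hx]
  -- the clopen subset of the completed scheme
  have hLW : Lifts (p ⁻¹' Z) := by
    haveI : IsClosedImmersion (Spec.map (CommRingCat.ofHom (Ideal.Quotient.mk J₀))) :=
      IsClosedImmersion.spec_of_surjective _ Ideal.Quotient.mk_surjective
    have := (scheme_lifts_iff hc (Spec.map (CommRingCat.ofHom (Ideal.Quotient.mk J₀)))).mp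
      (ProperComp7.exists_lift_clopen (I := J₀) hc)
    rwa [range_specMap_mk, ← hZW] at this
  let r : (p ⁻¹' Z : Set W) → Z := fun w => ⟨p w.1, w.2⟩
  obtain ⟨U', ⟨hU', hUV'⟩, -⟩ := hLW (r ⁻¹' V)
    (hV.preimage ((p.continuous.comp continuous_subtype_val).subtype_mk _))
  obtain ⟨ε, hε, hεU⟩ := exists_idempotent_of_isClopen hU'
  -- functions
  letI : Algebra A Γ(Y, ⊤) := (toΓ h).toAlgebra
  haveI : Module.Finite A Γ(Y, ⊤) := finite_toΓ h
  let IB : Ideal Γ(Y, ⊤) := I.map (toΓ h)
  let qI : A ⧸ I →+* Γ(Y, ⊤) ⧸ IB := Ideal.quotientMap IB (toΓ h) Ideal.le_comap_map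
  let ev : C →+* A ⧸ I := (AdicCompletion.evalOneₐ I).toRingHom
  have hev : ev.comp η = Ideal.Quotient.mk I := AdicCompletion.evalOneₐ_comp_algebraMap_eq_mk I
  have hpo := isPushout_appTop HW
  have hq : h.appTop ≫ CommRingCat.ofHom (Ideal.Quotient.mk IB) =
      s.appTop ≫ (Scheme.ΓSpecIso (CommRingCat.of C)).hom ≫ CommRingCat.ofHom (qI.comp ev) := by
    rw [Scheme.ΓSpecIso_naturality_assoc, ← CommRingCat.ofHom_comp, RingHom.comp_assoc, hev,
      ← Iso.inv_comp_eq]
    ext a
    exact (Ideal.quotientMap_mk (f := toΓ h) (J := I) (I := IB) (H := Ideal.le_comap_map)).symm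
  let q := hpo.desc (CommRingCat.ofHom (Ideal.Quotient.mk IB))
    ((Scheme.ΓSpecIso (CommRingCat.of C)).hom ≫ CommRingCat.ofHom (qI.comp ev)) hq
  have hqp : p.appTop ≫ q = CommRingCat.ofHom (Ideal.Quotient.mk IB) := hpo.inl_desc _ _ hq
  have hqc : hc.appTop ≫ q = (Scheme.ΓSpecIso (CommRingCat.of C)).hom ≫ CommRingCat.ofHom (qI.comp ev) :=
    hpo.inr_desc _ _ hq
  let J : Ideal Γ(W, ⊤) := IB.map p.appTop.hom
  let β : Γ(Y, ⊤) ⧸ IB →+* Γ(W, ⊤) ⧸ J := Ideal.quotientMap J p.appTop.hom Ideal.le_comap_map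
  have hβ : CommRingCat.ofHom (Ideal.Quotient.mk J) = q ≫ CommRingCat.ofHom β := by
    refine hpo.hom_ext ?_ ?_
    · rw [reassoc_of% hqp]; ext b
      exact (Ideal.quotientMap_mk (f := p.appTop.hom) (J := IB) (I := J) (H := Ideal.le_comap_map)).symm
    · rw [reassoc_of% hqc]
      ext x
      obtain ⟨a, ha⟩ := Ideal.Quotient.mk_surjective (ev ((Scheme.ΓSpecIso (CommRingCat.of C)).hom.hom x))
      have hx : (Scheme.ΓSpecIso (CommRingCat.of C)).hom.hom x - η a ∈ J₀ := by
        show _ ∈ I.map (algebraMap A C)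
        rw [← AdicCompletion.ker_evalOneₐ_eq_map I (IsNoetherian.noetherian I), RingHom.mem_ker, map_sub]
        exact sub_eq_zero.mpr (ha.symm.trans (DFunLike.congr_fun hev a).symm)
      let κ : C →+* Γ(W, ⊤) := toΓ hc
      have hκ : κ.comp η = p.appTop.hom.comp (toΓ h) := by
        have : CommRingCat.ofHom η ≫ (Scheme.ΓSpecIso (CommRingCat.of C)).inv ≫ hc.appTop =
            ((Scheme.ΓSpecIso (CommRingCat.of A)).inv ≫ h.appTop) ≫ p.appTop := by
          rw [Category.assoc, hpo.w, ← Category.assoc, Scheme.ΓSpecIso_inv_naturality, Category.assoc]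
        exact congrArg CommRingCat.Hom.hom this
      have hJ : J₀.map κ ≤ J := by
        rw [Ideal.map_map, hκ, ← Ideal.map_map]
      have h1 : κ ((Scheme.ΓSpecIso (CommRingCat.of C)).hom.hom x) = hc.appTop.hom x :=
        congr($((Scheme.ΓSpecIso (CommRingCat.of C)).hom_inv_id_assoc hc.appTop).hom x)
      show Ideal.Quotient.mk J (hc.appTop.hom x) = β (qI (ev _))
      refine Eq.trans ?_ (congrArg (fun t => β (qI t)) ha)
      rw [← h1]
      refine (Ideal.Quotient.eq.mpr (hJ (by rw [← map_sub]; exact Ideal.mem_map_of_mem κ hx))).trans ?_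
      rw [show κ (η a) = p.appTop.hom (toΓ h a) from DFunLike.congr_fun hκ a]
      exact ((congrArg β (Ideal.quotientMap_mk (f := toΓ h) (J := I) (I := IB) (H := Ideal.le_comap_map))).trans
        (Ideal.quotientMap_mk (f := p.appTop.hom) (J := IB) (I := J) (H := Ideal.le_comap_map))).symm
  obtain ⟨b, hb⟩ := Ideal.Quotient.mk_surjective (q.hom ε)
  have hvan : ∀ c ∈ J, ∀ w ∈ p ⁻¹' Z, w ∉ W.basicOpen c := by
    intro c hc' w hw
    have hc'' : c ∈ I.map (p.appTop.hom.comp (toΓ h)) := by rwa [← Ideal.map_map]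
    clear hc'
    induction hc'' using Submodule.span_induction with
    | mem c hc =>
      obtain ⟨a, ha, rfl⟩ := hc
      rw [RingHom.comp_apply, ← Scheme.preimage_basicOpen_top]
      show p w ∉ Y.basicOpen (toΓ h a)
      rw [mem_basicOpen_toΓ]
      exact fun hh => hh (hw ha)
    | zero => rw [Scheme.basicOpen_zero]; exact fun h => h.elim
    | add c d _ _ hc hd => exact fun h => (W.basicOpen_add_le _ _ h).elim hc hd
    | smul a c _ hc =>
      rw [smul_eq_mul, Scheme.basicOpen_mul]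
      exact fun h => hc h.2
  have hdiff : ε - p.appTop.hom b ∈ J := by
    rw [← Ideal.Quotient.eq]
    refine (congr($(hβ).hom ε)).trans ((congrArg β hb.symm).trans ?_)
    exact Ideal.quotientMap_mk
  have hbb : b * b - b ∈ IB := by
    rw [← Ideal.Quotient.eq, map_mul, hb]
    exact (show IsIdempotentElem ε from hε).map q.hom
  have hsub : ∀ a c : Γ(W, ⊤), a - c ∈ J → ∀ w ∈ p ⁻¹' Z, w ∈ W.basicOpen a → w ∈ W.basicOpen c := by
    intro a c hac w hw hwa
    have : w ∈ W.basicOpen (a - c) ⊔ W.basicOpen c := by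
      refine W.basicOpen_add_le _ _ ?_
      rwa [sub_add_cancel]
    exact this.elim (fun h => absurd h (hvan _ hac w hw)) id
  refine ⟨b, hbb, ?_⟩
  rintro ⟨z, hz⟩
  obtain ⟨w, rfl⟩ := hsurj z hz
  have h1 : p w ∈ Y.basicOpen b ↔ w ∈ W.basicOpen (p.appTop.hom b) := by
    rw [← Scheme.preimage_basicOpen_top]; rfl
  refine h1.trans (Iff.trans ⟨hsub _ _ (by simpa using J.neg_mem hdiff) w hz, hsub _ _ hdiff w hz⟩ ?_)
  have h2 : (⟨w, hz⟩ : (p ⁻¹' Z : Set W)) ∈ Subtype.val ⁻¹' U' ↔ (⟨p w, hz⟩ : Z) ∈ V := by rw [hUV']; rfl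
  rw [← SetLike.mem_coe, hεU]
  exact h2

end Groth.Agent.PBC50
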