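import Groth.Agent.EtFound.Germ
import Groth.Agent.EtFound.PullGerm
import Groth.Agent.EtFound.PushImm

/-!
# Equality of germs of abelian etale sheaves, pointwise
-/

set_option autoImplicit false

set_option linter.style.haveILetI false

universe u

open CategoryTheory CategoryTheory.Limits AlgebraicGeometry Opposite TopologicalSpace

namespace Groth.Agent.PBC50

set_option backward.isDefEq.respectTransparency.types false

variable {X : Scheme.{u}}

/-- The point of an etale scheme under a geometric point. -/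
noncomputable abbrev ptOf {U : X.Etale} {Ω : Type u} [Field Ω] [IsSepClosed Ω]
    {ξ : Spec (CommRingCat.of Ω) ⟶ X} (t : (Scheme.pointSmallEtale ξ).fiber.obj U) : U.left :=
  (t.left : Spec (CommRingCat.of Ω) ⟶ U.left).base (default : Spec (CommRingCat.of Ω))

/-- The germ of a section at a geometric point. -/
noncomputable abbrev germAt (F : EtCoh.Ab X) {U : X.Etale} {Ω : Type u} [Field Ω] [IsSepClosed Ω]
    {ξ : Spec (CommRingCat.of Ω) ⟶ X} (t : (Scheme.pointSmallEtale ξ).fiber.obj U) (a : EtCoh.sect F U) :=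
  (Scheme.pointSmallEtale ξ).toPresheafFiber U t F.obj a

/-- Two sections agree on an etale neighbourhood of a point. -/
def GermEq (F : EtCoh.Ab X) {U : X.Etale} (a b : EtCoh.sect F U) (z : U.left) : Prop :=
  ∃ (W : X.Etale) (k : W ⟶ U), z ∈ Set.range k.left ∧ F.obj.map k.op a = F.obj.map k.op b

variable {F : EtCoh.Ab X}

theorem mapMap {A B C : X.Etale} (f : A ⟶ B) (g : B ⟶ C) (x : EtCoh.sect F C) :
    F.obj.map f.op (F.obj.map g.op x) = F.obj.map (f ≫ g).op x := by
  rw [op_comp, Functor.map_comp]; rfl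

theorem germAt_map {U V : X.Etale} (k : V ⟶ U) {Ω : Type u} [Field Ω] [IsSepClosed Ω]
    {ξ : Spec (CommRingCat.of Ω) ⟶ X} (t : (Scheme.pointSmallEtale ξ).fiber.obj V) (a : EtCoh.sect F U) :
    germAt F t (F.obj.map k.op a) = germAt F ((Scheme.pointSmallEtale ξ).fiber.map k t) a :=
  (Scheme.pointSmallEtale ξ).toPresheafFiber_w_apply k t (P := F.obj) a

theorem germAt_eq_iff {U : X.Etale} (a b : EtCoh.sect F U) {Ω : Type u} [Field Ω] [IsSepClosed Ω]
    {ξ : Spec (CommRingCat.of Ω) ⟶ X} (t : (Scheme.pointSmallEtale ξ).fiber.obj U) :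
    germAt F t a = germAt F t b ↔ GermEq F a b (ptOf t) := by
  constructor
  · intro e
    obtain ⟨W, k, w, hw, he⟩ := ((Scheme.pointSmallEtale ξ).toPresheafFiber_eq_iff' (P := F.obj) U t a b).1 e
    refine ⟨W, k, ⟨ptOf w, ?_⟩, he⟩
    subst hw
    rfl
  · rintro ⟨W, k, ⟨w, hw⟩, e⟩
    obtain ⟨w', hw', -⟩ := EtFound.exists_lift_point k t w hw
    rw [← hw', ← germAt_map, ← germAt_map, e]

theorem GermEq.refl {U : X.Etale} (a : EtCoh.sect F U) (z : U.left) : GermEq F a a z :=
  ⟨U, 𝟙 U, ⟨z, rfl⟩, rfl⟩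

theorem GermEq.symm {U : X.Etale} {a b : EtCoh.sect F U} {z : U.left} (h : GermEq F a b z) : GermEq F b a z := by
  obtain ⟨W, k, hz, e⟩ := h
  exact ⟨W, k, hz, e.symm⟩

theorem isOpen_germEq {U : X.Etale} (a b : EtCoh.sect F U) : IsOpen {z : U.left | GermEq F a b z} := by
  refine isOpen_iff_forall_mem_open.2 fun z ⟨W, k, hz, e⟩ => ?_
  haveI := EtFound.etale_left k
  exact ⟨Set.range k.left, fun z' hz' => ⟨W, k, hz', e⟩, (Scheme.Hom.isOpenMap k.left).isOpen_range, hz⟩

theorem eq_of_germEq {U : X.Etale} {a b : EtCoh.sect F U} (h : ∀ z, GermEq F a b z) : a = b := by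
  refine EtFound.eq_of_cover F a b ((EtFound.mem_topology_iff _).2 fun z => ?_)
  obtain ⟨W, k, ⟨w, hw⟩, e⟩ := h z
  exact ⟨W, k, w, e, hw⟩

/-- A sheaf glues sections along a jointly surjective family of morphisms. -/
theorem exists_glue {ι : Type*} {B : X.Etale} (U : ι → X.Etale) (k : ∀ j, U j ⟶ B)
    (hcov : ∀ z : B.left, ∃ j, z ∈ Set.range (k j).left) (a : ∀ j, EtCoh.sect F (U j))
    (hcomp : ∀ (j l : ι) (W : X.Etale) (p : W ⟶ U j) (q : W ⟶ U l), p ≫ k j = q ≫ k l →
      F.obj.map p.op (a j) = F.obj.map q.op (a l)) :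
    ∃ s : EtCoh.sect F B, ∀ j, F.obj.map (k j).op s = a j := by
  have hmem : Sieve.ofArrows U k ∈ X.smallEtaleTopology B := by
    refine (EtFound.mem_topology_iff _).2 fun z => ?_
    obtain ⟨j, w, hw⟩ := hcov z
    exact ⟨U j, k j, w, Sieve.ofArrows_mk _ _ j, hw⟩
  have hs : Presieve.IsSheafFor (F.obj ⋙ forget AddCommGrpCat.{u + 1}) (Presieve.ofArrows U k) :=
    (Presieve.isSheafFor_iff_generate _).2
      ((Presheaf.isSheaf_iff_isSheaf_forget _ _ (forget AddCommGrpCat.{u + 1})).1 F.property |>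
        (fun h => (isSheaf_iff_isSheaf_of_type _ _).1 h _ hmem))
  obtain ⟨s, hs, -⟩ := (Presieve.isSheafFor_arrows_iff _ _).1 hs a fun j l W p q e => hcomp j l W p q e
  exact ⟨s, hs⟩

section pull

variable {Z : Scheme.{u}} (i : Z ⟶ X) [EtCoh.BCCont i] (F)

/-- Sections pulled back by the unit. -/
noncomputable abbrev upSec (U : X.Etale) (a : EtCoh.sect F U) :
    EtCoh.sect ((EtCoh.pull i).obj F) ((EtCoh.bc i).obj U) :=
  ((EtCoh.pullPushAdj i).unit.app F).hom.app (op U) a

theorem upSec_map {U V : X.Etale} (m : V ⟶ U) (a : EtCoh.sect F U) :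
    upSec F i V (F.obj.map m.op a) = ((EtCoh.pull i).obj F).obj.map ((EtCoh.bc i).map m).op (upSec F i U a) :=
  ConcreteCategory.congr_hom (((EtCoh.pullPushAdj i).unit.app F).hom.naturality m.op) a

variable {F} {Ω : Type u} [Field Ω] [IsSepClosed Ω] (ξ : Spec (CommRingCat.of Ω) ⟶ Z)

theorem germAt_upSec (U : X.Etale) (t : (Scheme.pointSmallEtale (ξ ≫ i)).fiber.obj U) (a : EtCoh.sect F U) :
    germAt ((EtCoh.pull i).obj F) ((EtFound.bcFiberEquiv i ξ U).symm t) (upSec F i U a) =
      (EtFound.sheafFiberPullIso i ξ).inv.app F (germAt F t a) := by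
  have h := ConcreteCategory.congr_hom
    (EtFound.sheafFiberPullIso_germ i ξ F U ((EtFound.bcFiberEquiv i ξ U).symm t)) a
  rw [Equiv.apply_symm_apply] at h
  exact h.symm

theorem pullIso_injective : Function.Injective ((EtFound.sheafFiberPullIso i ξ).inv.app F) :=
  Function.LeftInverse.injective (g := (EtFound.sheafFiberPullIso i ξ).hom.app F) fun x =>
    (ConcreteCategory.comp_apply _ _ x).symm.trans
      ((ConcreteCategory.congr_hom ((EtFound.sheafFiberPullIso i ξ).inv_hom_id_app F) x).trans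
        (ConcreteCategory.id_apply x))

theorem pullIso_surjective : Function.Surjective ((EtFound.sheafFiberPullIso i ξ).inv.app F) := fun x =>
  ⟨(EtFound.sheafFiberPullIso i ξ).hom.app F x,
    (ConcreteCategory.comp_apply _ _ x).symm.trans
      ((ConcreteCategory.congr_hom ((EtFound.sheafFiberPullIso i ξ).hom_inv_id_app F) x).trans
        (ConcreteCategory.id_apply x))⟩

/-- Every element of a stalk of the inverse image is the germ of a pulled back section. -/
theorem exists_germAt_upSec (c : (EtCoh.stalk ξ).obj ((EtCoh.pull i).obj F)) :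
    ∃ (U : X.Etale) (t : (Scheme.pointSmallEtale (ξ ≫ i)).fiber.obj U) (a : EtCoh.sect F U),
      germAt ((EtCoh.pull i).obj F) ((EtFound.bcFiberEquiv i ξ U).symm t) (upSec F i U a) = c := by
  obtain ⟨d, rfl⟩ := pullIso_surjective i ξ c
  obtain ⟨U, t, a, rfl⟩ := (Scheme.pointSmallEtale (ξ ≫ i)).toPresheafFiber_jointly_surjective (P := F.obj) d
  exact ⟨U, t, a, germAt_upSec i ξ U t a⟩

theorem subsingleton_fiber {U : X.Etale} [Mono U.hom] (ξ : Spec (CommRingCat.of Ω) ⟶ X) :
    Subsingleton ((Scheme.pointSmallEtale ξ).fiber.obj U) :=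
  ⟨fun s t => Over.OverMorphism.ext ((cancel_mono U.hom).1 ((Over.w s).trans (Over.w t).symm))⟩

/-- Sections which pull back to one global section have equal germs over the subscheme. -/
theorem germAt_eq_of_upSec (σ : EtCoh.sect ((EtCoh.pull i).obj F) ((EtCoh.bc i).obj (EtCoh.top X)))
    {U U' : X.Etale} (a : EtCoh.sect F U) (a' : EtCoh.sect F U') (m : U ⟶ EtCoh.top X) (m' : U' ⟶ EtCoh.top X)
    (ha : upSec F i U a = ((EtCoh.pull i).obj F).obj.map ((EtCoh.bc i).map m).op σ)
    (ha' : upSec F i U' a' = ((EtCoh.pull i).obj F).obj.map ((EtCoh.bc i).map m').op σ)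
    (t : (Scheme.pointSmallEtale (ξ ≫ i)).fiber.obj U) (t' : (Scheme.pointSmallEtale (ξ ≫ i)).fiber.obj U') :
    germAt F t a = germAt F t' a' := by
  refine pullIso_injective i ξ ?_
  rw [← germAt_upSec, ← germAt_upSec, ha, ha', germAt_map, germAt_map]
  haveI : Mono ((EtCoh.bc i).obj (EtCoh.top X)).hom := by
    show Mono (pullback.snd (𝟙 X) i)
    infer_instance
  exact congrArg (fun s => germAt ((EtCoh.pull i).obj F) s σ) ((subsingleton_fiber ξ).elim _ _)

end pull

end Groth.Agent.PBC50
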