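import Groth.Agent.EtLimCore.Taut
import Groth.Agent.EtBCA.PushTorsion
import Groth.Agent.EtBCA.Torsion
import Groth.Agent.PBC50.TorsColim

/-!
# Sheaves on a limit vanishing on a closed set come from sheaves on the stages vanishing on closed sets
-/

set_option autoImplicit false
set_option linter.style.haveILetI false
set_option maxHeartbeats 800000

universe u

open CategoryTheory CategoryTheory.Limits AlgebraicGeometry Opposite TopologicalSpace

namespace Groth.Agent.PBC50.LimitOff

set_option backward.isDefEq.respectTransparency false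
set_option backward.isDefEq.respectTransparency.types false

open Groth.Agent.EtLimCore

variable {I : Type u} [SmallCategory I] {Y : I ⥤ Scheme.{u}} {c : Cone Y}

/-- sections of a system whose germs vanish on given sets of the stages -/
def vanishing (S : Sys c) (V : ∀ k, Set (Y.obj k)) (A : Tot Y) : AddSubgroup (S.F.obj (op A)) where
  carrier := {t | ∀ (Ω : Type u) (_ : Field Ω) (_ : IsSepClosed Ω) (η : Spec (CommRingCat.of Ω) ⟶ Y.obj A.st)
    (z : (Scheme.pointSmallEtale η).fiber.obj A.obj), η.base default ∈ V A.st →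
      (Scheme.pointSmallEtale η).toPresheafFiber A.obj z (S.sheaf A.st).obj t = 0}
  zero_mem' := fun Ω _ _ η z _ =>
    map_zero ((Scheme.pointSmallEtale η).toPresheafFiber A.obj z (S.sheaf A.st).obj).hom
  add_mem' := fun {a b} ha hb Ω _ _ η z hη => by
    refine (map_add ((Scheme.pointSmallEtale η).toPresheafFiber A.obj z (S.sheaf A.st).obj).hom a b).trans ?_
    exact (congrArg₂ (· + ·) (ha Ω _ _ η z hη) (hb Ω _ _ η z hη)).trans (add_zero _)
  neg_mem' := fun {a} ha Ω _ _ η z hη => by
    refine (map_neg ((Scheme.pointSmallEtale η).toPresheafFiber A.obj z (S.sheaf A.st).obj).hom a).trans ?_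
    exact (congrArg Neg.neg (ha Ω _ _ η z hη)).trans neg_zero

theorem vanishing_map (S : Sys c) {V : ∀ k, Set (Y.obj k)}
    (hV : ∀ {k l : I} (a : l ⟶ k) (x : Y.obj l), x ∈ V l → (Y.map a).base x ∈ V k)
    {A B : Tot Y} (f : B ⟶ A) {t : S.F.obj (op A)} (ht : t ∈ vanishing S V A) :
    S.F.map f.op t ∈ vanishing S V B := by
  intro Ω _ _ η z hη
  let zA : (Scheme.pointSmallEtale (η ≫ Y.map f.a)).fiber.obj A.obj :=
    CategoryTheory.Over.homMk ((z.left : Spec (CommRingCat.of Ω) ⟶ B.obj.left) ≫ f.g) (by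
      refine (Category.assoc _ _ _).trans ((congrArg (_ ≫ ·) f.w).trans ?_)
      exact (Category.assoc _ _ _).symm.trans (congrArg (· ≫ Y.map f.a) (CategoryTheory.Over.w z)))
  refine germ_res_eq_zero S f t z zA rfl (ht Ω _ _ _ zA ?_)
  rw [Scheme.Hom.comp_apply]
  exact hV f.a _ hη

variable (S : Sys c) (V : ∀ k, Set (Y.obj k))
  (hV : ∀ {k l : I} (a : l ⟶ k) (x : Y.obj l), x ∈ V l → (Y.map a).base x ∈ V k)

include hV in
/-- the subsystem of vanishing sections -/
noncomputable def sub : Sys c where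
  F :=
    { obj := fun A => AddCommGrpCat.of (vanishing S V A.unop)
      map := fun {A B} f => AddCommGrpCat.ofHom
        (((S.F.map f).hom.comp (vanishing S V A.unop).subtype).codRestrict (vanishing S V B.unop)
          fun t => vanishing_map S hV f.unop t.2)
      map_id := fun A => AddCommGrpCat.hom_ext <| AddMonoidHom.ext fun t => Subtype.ext
        (ConcreteCategory.congr_hom (S.F.map_id A) t.1)
      map_comp := fun f g => AddCommGrpCat.hom_ext <| AddMonoidHom.ext fun t => Subtype.ext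
        (ConcreteCategory.congr_hom (S.F.map_comp f g) t.1) }
  isSheaf k := by
    refine Presheaf.isSheaf_of_isSheaf_comp _ _ (CategoryTheory.forget AddCommGrpCat.{u + 1}) ?_
    rw [isSheaf_iff_isSheaf_of_type]
    intro W R hR x hx
    have hG := ((sheafCompose (Y.obj k).smallEtaleTopology (CategoryTheory.forget AddCommGrpCat.{u + 1})).obj
      (S.sheaf k)).property
    rw [isSheaf_iff_isSheaf_of_type] at hG
    let x' : Presieve.FamilyOfElements ((S.sheaf k).obj ⋙ CategoryTheory.forget AddCommGrpCat.{u + 1}) R.arrows :=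
      fun W' f hf => (x f hf : vanishing S V ⟨k, W'⟩).1
    have hx' : x'.Compatible := fun W₁ W₂ W' g₁ g₂ f₁ f₂ h₁ h₂ e => congrArg Subtype.val (hx g₁ g₂ h₁ h₂ e)
    obtain ⟨w, hw, huniq⟩ := hG R hR x' hx'
    have hmem : w ∈ vanishing S V ⟨k, W⟩ := by
      intro Ω _ _ η z hη
      obtain ⟨W', g, v, hg, hv⟩ := (EtFound.mem_topology_iff _).1 hR
        ((z.left : Spec (CommRingCat.of Ω) ⟶ W.left).base (default : Spec (CommRingCat.of Ω)))
      obtain ⟨z', rfl, -⟩ := EtFound.exists_lift_point g z v hv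
      refine ((Scheme.pointSmallEtale η).toPresheafFiber_w_apply g z' (S.sheaf k).obj w).symm.trans ?_
      exact (congrArg _ (hw g hg)).trans ((x g hg : vanishing S V ⟨k, W'⟩).2 Ω _ _ η z' hη)
    exact ⟨⟨w, hmem⟩, fun W' f hf => Subtype.ext (hw f hf),
      fun w' hw' => Subtype.ext (huniq w'.1 fun W' f hf => congrArg Subtype.val (hw' f hf))⟩
  M := S.M
  ψ :=
    { app := fun A => AddCommGrpCat.ofHom ((S.ψ.app A).hom.comp (vanishing S V A.unop).subtype)
      naturality := fun A B f => AddCommGrpCat.hom_ext <| AddMonoidHom.ext fun t =>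
        ConcreteCategory.congr_hom (S.ψ.naturality f) t.1 }

/-- the inclusion of the subsystem -/
noncomputable def incl' (k : I) : (sub S V hV).sheaf k ⟶ S.sheaf k :=
  ObjectProperty.homMk
    { app := fun W => AddCommGrpCat.ofHom (vanishing S V ⟨k, W.unop⟩).subtype
      naturality := fun _ _ _ => rfl }

theorem mono_incl' (k : I) : Mono (incl' S V hV k) := by
  haveI : ∀ W, Mono ((incl' S V hV k).hom.app W) := fun W =>
    (AddCommGrpCat.mono_iff_injective _).2 Subtype.val_injective
  haveI : Mono (incl' S V hV k).hom := NatTrans.mono_of_mono_app _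
  exact (sheafToPresheaf _ _).mono_of_mono_map (by assumption)

theorem isZero_stalk_sub (k : I) {Ω : Type u} [Field Ω] [IsSepClosed Ω] (η : Spec (CommRingCat.of Ω) ⟶ Y.obj k)
    (hη : η.base default ∈ V k) : IsZero ((EtCoh.stalk η).obj ((sub S V hV).sheaf k)) := by
  refine (IsZero.iff_id_eq_zero _).2 (AddCommGrpCat.ext fun a => ?_)
  let Φ := Scheme.pointSmallEtale η
  obtain ⟨W, z, t, rfl⟩ := Φ.toPresheafFiber_jointly_surjective (P := ((sub S V hV).sheaf k).obj) a
  have h : Φ.toPresheafFiber W z (S.sheaf k).obj (t : vanishing S V ⟨k, W⟩).1 =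
      Φ.toPresheafFiber W z (S.sheaf k).obj 0 :=
    ((t : vanishing S V ⟨k, W⟩).2 Ω _ _ η z hη).trans
      (map_zero (Φ.toPresheafFiber W z (S.sheaf k).obj).hom).symm
  obtain ⟨W', g, z', hz', hg⟩ := (Φ.toPresheafFiber_eq_iff' (P := (S.sheaf k).obj) W z _ _).1 h
  show Φ.toPresheafFiber W z ((sub S V hV).sheaf k).obj t = 0
  rw [← hz', ← Φ.toPresheafFiber_w_apply g z']
  refine (congrArg _ (?_ : ((sub S V hV).sheaf k).obj.map g.op t = 0)).trans (map_zero _)
  apply Subtype.ext
  exact hg.trans (map_zero ((S.sheaf k).obj.map g.op).hom)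

variable [IsCofiltered I]

theorem sub_isColim (hS : S.IsColim) (hVc : ∀ k, IsClosed (V k))
    (hM : ∀ (Ω : Type u) [Field Ω] [IsSepClosed Ω] (ξ : Spec (CommRingCat.of Ω) ⟶ c.pt),
      (∀ k, (c.π.app k).base (ξ.base default) ∈ V k) → IsZero ((EtCoh.stalk ξ).obj S.M)) :
    (sub S V hV).IsColim where
  surj Ω _ _ ξ U u s := by
    obtain ⟨A, z, t, ht⟩ := hS.surj Ω ξ U u s
    by_cases h : ∀ k, (c.π.app k).base (ξ.base default) ∈ V k
    · refine ⟨A, z, 0, ?_⟩
      haveI := AddCommGrpCat.subsingleton_of_isZero (hM Ω ξ h)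
      exact @Subsingleton.elim ((EtCoh.stalk ξ).obj S.M) _ _ _
    obtain ⟨k, hk⟩ := not_forall.1 h
    obtain ⟨l, a, b, -⟩ := IsCofilteredOrEmpty.cone_objs A.st k
    let O : Opens (Y.obj l) := ⟨(V l)ᶜ, (hVc l).isOpen_compl⟩
    let W₁ := (bcObj A a).obj
    let hom₁ : W₁.left ⟶ Y.obj l := W₁.hom
    haveI : AlgebraicGeometry.Etale hom₁ := W₁.prop
    let O₁ : W₁.left.Opens := hom₁ ⁻¹ᵁ O
    let W₂ : (Y.obj l).Etale := EtFound.restrictEtale W₁ O₁
    let f₂ : (⟨l, W₂⟩ : Tot Y) ⟶ bcObj A a := (incl Y l).map (EtFound.restrictEtaleHom W₁ O₁)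
    -- the point lies in the open part
    let z₁ : (Scheme.pointSmallEtale ξ).fiber.obj ((bcTot c).obj (bcObj A a)) :=
      (Scheme.pointSmallEtale ξ).fiber.map (inv ((bcTot c).map (proj A a))) z
    have hz₁ : (Scheme.pointSmallEtale ξ).fiber.map ((bcTot c).map (proj A a)) z₁ = z := by
      rw [← ConcreteCategory.comp_apply, ← Functor.map_comp, IsIso.inv_hom_id, CategoryTheory.Functor.map_id]
      rfl
    let pf : ((bcTot c).obj (bcObj A a)).left ⟶ W₁.left := pullback.fst W₁.hom (c.π.app l)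
    have hpt : pf.base (EtFound.ptOf z₁) ∈ O₁ := by
      have hbase : hom₁.base (pf.base (EtFound.ptOf z₁)) = (c.π.app l).base (ξ.base default) := by
        let zl : Spec (CommRingCat.of Ω) ⟶ ((bcTot c).obj (bcObj A a)).left := z₁.left
        have e1 : zl ≫ pullback.snd W₁.hom (c.π.app l) = ξ := CategoryTheory.Over.w z₁
        have e2 : zl ≫ pf ≫ hom₁ = ξ ≫ c.π.app l := by
          rw [← e1, Category.assoc]
          exact congrArg (zl ≫ ·) pullback.condition
        have := congrArg (fun q : Spec (CommRingCat.of Ω) ⟶ Y.obj l => q.base default) e2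
        exact ((Scheme.Hom.comp_apply zl (pf ≫ hom₁) default).trans
          (Scheme.Hom.comp_apply pf hom₁ _)).symm.trans (this.trans (Scheme.Hom.comp_apply ξ _ _))
      show hom₁.base (pf.base (EtFound.ptOf z₁)) ∉ V l
      rw [hbase]
      intro hl
      refine hk ?_
      have := hV b _ hl
      rwa [← Scheme.Hom.comp_apply, c.w b] at this
    obtain ⟨w, hw, -⟩ := Scheme.exists_preimage_of_isPullback
      (EtCoh.isPullback_bc_map (c.π.app l) (EtFound.restrictEtaleHom W₁ O₁)) (EtFound.ptOf z₁) ⟨_, hpt⟩ rfl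
    obtain ⟨z₂, hz₂, -⟩ := EtFound.exists_lift_point ((EtCoh.bc (c.π.app l)).map (EtFound.restrictEtaleHom W₁ O₁))
      z₁ w hw
    let f : (⟨l, W₂⟩ : Tot Y) ⟶ A := f₂ ≫ proj A a
    have hfz : (Scheme.pointSmallEtale ξ).fiber.map ((bcTot c).map f) z₂ = z := by
      rw [Functor.map_comp, Functor.map_comp, ConcreteCategory.comp_apply]
      refine Eq.trans (congrArg _ ?_) hz₁
      exact (congrArg (fun q => (Scheme.pointSmallEtale ξ).fiber.map q z₂)
        (bcTot_map_incl c l (EtFound.restrictEtaleHom W₁ O₁))).trans hz₂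
    refine ⟨⟨l, W₂⟩, z₂, ⟨S.F.map f.op t, ?_⟩, ?_⟩
    · intro Ω' _ _ η z' hη'
      exfalso
      let zl : Spec (CommRingCat.of Ω') ⟶ O₁.toScheme := z'.left
      have e : zl ≫ O₁.ι ≫ hom₁ = η := CategoryTheory.Over.w z'
      have h2 : hom₁.base (O₁.ι.base (zl.base default)) = η.base default := by
        rw [← e]
        simp
      exact (h2 ▸ (zl.base default).2 : η.base default ∉ V l) hη'
    · refine Eq.trans ?_ ht
      show (Scheme.pointSmallEtale ξ).toPresheafFiber _ z₂ S.M.obj (S.ψ.app (op ⟨l, W₂⟩) (S.F.map f.op t)) = _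
      refine (congrArg _ (ConcreteCategory.congr_hom (S.ψ.naturality f.op) t)).trans ?_
      refine ((Scheme.pointSmallEtale ξ).toPresheafFiber_w_apply ((bcTot c).map f) z₂ S.M.obj _).trans ?_
      rw [hfz]; rfl
  inj Ω _ _ ξ A z t ht := by
    obtain ⟨B, f, y, hy, hf⟩ := hS.inj Ω ξ A z (t : vanishing S V A).1 ht
    exact ⟨B, f, y, hy, Subtype.ext hf⟩

end Groth.Agent.PBC50.LimitOff
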