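import Groth.Agent.PBC50.HenselNoeth
import Groth.Agent.PBC50.LimitOff
import Groth.Agent.PBC50.ConnFibre
import Groth.Agent.Hensel.NoethPair
import Groth.Agent.Hensel.PairBasic
import Groth.Agent.Hensel.Henselization
import Groth.Agent.HensCouple7.ProperPair

/-!
# Torsion sheaves vanishing on the closed subscheme of a henselian couple are acyclic

A henselian couple is the filtered union of Noetherian henselian couples.
-/

set_option autoImplicit false
set_option linter.style.haveILetI false

universe u

open CategoryTheory CategoryTheory.Limits AlgebraicGeometry Opposite TopologicalSpace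

namespace Groth.Agent.PBC50.HenselApprox

set_option backward.isDefEq.respectTransparency false
set_option backward.isDefEq.respectTransparency.types false

variable (A : Type u) [CommRing A] (I : Ideal A) [HenselianRing A I]

/-- finitely generated subrings -/
abbrev gen (s : Finset A) : Subalgebra ℤ A := Algebra.adjoin ℤ (s : Set A)

/-- the trace of the ideal -/
abbrev genIdeal (s : Finset A) : Ideal (gen A s) := I.comap (gen A s).val.toRingHom

/-- the henselisation of a stage -/
abbrev Henz (s : Finset A) : Type u := Hensel.PairHenz (gen A s) (genIdeal A I s)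

theorem exists_toRing (s : Finset A) :
    ∃ φ : Henz A I s →+* A, φ.comp (algebraMap (gen A s) (Henz A I s)) = (gen A s).val.toRingHom :=
  ((Hensel.isPairHenselization_pairHenz (gen A s) (genIdeal A I s)).2 A I (gen A s).val.toRingHom
    inferInstance Ideal.map_comap_le).exists

/-- the map to the ring -/
noncomputable def toRing (s : Finset A) : Henz A I s →+* A := (exists_toRing A I s).choose

theorem toRing_comp (s : Finset A) :
    (toRing A I s).comp (algebraMap (gen A s) (Henz A I s)) = (gen A s).val.toRingHom :=
  (exists_toRing A I s).choose_spec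

/-- the stages -/
noncomputable irreducible_def stage (s : Finset A) : Subring A := (toRing A I s).range

/-- the ideals of the stages -/
noncomputable def stageIdeal (s : Finset A) : Ideal (stage A I s) := I.comap (stage A I s).subtype

theorem gen_le_stage (s : Finset A) (g : gen A s) : (g : A) ∈ stage A I s :=
  (stage_def A I s).symm ▸ ⟨algebraMap (gen A s) (Henz A I s) g, RingHom.congr_fun (toRing_comp A I s) g⟩

theorem stage_mono {s t : Finset A} (h : s ≤ t) : stage A I s ≤ stage A I t := by
  have hst : gen A s ≤ gen A t := Algebra.adjoin_mono (Finset.coe_subset.2 h)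
  let f : gen A s →+* Henz A I t :=
    (algebraMap (gen A t) (Henz A I t)).comp (Subalgebra.inclusion hst).toRingHom
  have hH := Hensel.isPairHenselization_pairHenz (gen A t) (genIdeal A I t)
  obtain ⟨g, hg, -⟩ := (Hensel.isPairHenselization_pairHenz (gen A s) (genIdeal A I s)).2 (Henz A I t) _ f hH.1
    (Ideal.map_le_iff_le_comap.2 fun x hx => Ideal.mem_map_of_mem (algebraMap (gen A t) (Henz A I t))
      (show Subalgebra.inclusion hst x ∈ genIdeal A I t from hx))
  have hu : (toRing A I t).comp g = toRing A I s := by
    refine ((Hensel.isPairHenselization_pairHenz (gen A s) (genIdeal A I s)).2 A I (gen A s).val.toRingHom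
      inferInstance Ideal.map_comap_le).unique ?_ (toRing_comp A I s)
    rw [RingHom.comp_assoc, hg, ← RingHom.comp_assoc, toRing_comp]
    rfl
  rw [stage_def, stage_def]
  rintro _ ⟨x, rfl⟩
  exact ⟨g x, RingHom.congr_fun hu x⟩

theorem mem_stage (a : A) : a ∈ stage A I {a} :=
  gen_le_stage A I {a} ⟨a, Algebra.subset_adjoin (Finset.mem_singleton_self a)⟩

theorem isNoetherianRing_stage (s : Finset A) : IsNoetherianRing (stage A I s) := by
  haveI : IsNoetherianRing (gen A s) :=
    haveI : Algebra.FiniteType ℤ (gen A s) := (Subalgebra.fg_iff_finiteType _).1 ⟨s, rfl⟩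
    Algebra.FiniteType.isNoetherianRing ℤ _
  haveI : IsNoetherianRing (Henz A I s) := Hensel.isNoetherianRing_of_isPairHenselization (genIdeal A I s)
    (Hensel.isPairHenselization_pairHenz (gen A s) (genIdeal A I s))
  rw [stage_def]
  exact isNoetherianRing_range (toRing A I s)

theorem henselianRing_stage (s : Finset A) : HenselianRing (stage A I s) (stageIdeal A I s) := by
  let φ : Henz A I s →+* stage A I s :=
    (toRing A I s).codRestrict (stage A I s) fun x => (stage_def A I s).symm ▸ ⟨x, rfl⟩
  have hφ : Function.Surjective φ := fun y => by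
    obtain ⟨x, hx⟩ : (y : A) ∈ (toRing A I s).range := stage_def A I s ▸ y.2
    exact ⟨x, Subtype.ext hx⟩
  letI : Algebra (Henz A I s) (stage A I s) := φ.toAlgebra
  haveI : Algebra.IsIntegral (Henz A I s) (stage A I s) := ⟨fun y => by
    obtain ⟨x, rfl⟩ := hφ y
    exact isIntegral_algebraMap⟩
  let JH := (genIdeal A I s).map (algebraMap (gen A s) (Henz A I s))
  haveI : HenselianRing (Henz A I s) JH := (Hensel.isPairHenselization_pairHenz _ _).1
  have hle : JH ≤ I.comap (toRing A I s) := Ideal.map_le_iff_le_comap.2 fun x hx => by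
    rw [Ideal.comap_comap, toRing_comp]
    exact hx
  have hK : stageIdeal A I s = JH.map (algebraMap (Henz A I s) (stage A I s)) := by
    refine le_antisymm (fun y hy => ?_) (Ideal.map_le_iff_le_comap.2 fun x hx => hle hx)
    obtain ⟨x, rfl⟩ := hφ y
    refine Ideal.mem_map_of_mem _ ?_
    obtain ⟨r, hr⟩ := Ideal.Quotient.mk_surjective (Hensel.Henz.proj (gen A s) (gen A s ⧸ genIdeal A I s) x)
    have hz : x - algebraMap (gen A s) (Henz A I s) r ∈ JH := by
      show _ ∈ (genIdeal A I s).map (algebraMap (gen A s) (Henz A I s))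
      rw [← Hensel.ker_proj_pairHenz, RingHom.mem_ker, map_sub, AlgHom.commutes, ← hr]
      exact sub_self _
    have hrI : algebraMap (gen A s) (Henz A I s) r ∈ I.comap (toRing A I s) := by
      have h1 := sub_mem (show x ∈ I.comap (toRing A I s) from hy) (hle hz)
      rwa [sub_sub_cancel] at h1
    have hrJ : algebraMap (gen A s) (Henz A I s) r ∈ JH := Ideal.mem_map_of_mem _ (by
      rw [Ideal.mem_comap, ← RingHom.comp_apply, toRing_comp] at hrI
      exact hrI)
    simpa using add_mem hz hrJ
  rw [hK]
  exact Hensel.henselianRing_of_isIntegral' JH (stage A I s)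

/-- the system of stages -/
noncomputable def rings : Finset A ⥤ CommRingCat.{u} where
  obj s := CommRingCat.of (stage A I s)
  map h := CommRingCat.ofHom (Subring.inclusion (stage_mono A I (leOfHom h)))
  map_id _ := CommRingCat.hom_ext (RingHom.ext fun _ => Subtype.ext rfl)
  map_comp _ _ := CommRingCat.hom_ext (RingHom.ext fun _ => Subtype.ext rfl)

/-- the inclusions -/
noncomputable def cocone : Cocone (rings A I) where
  pt := CommRingCat.of A
  ι := { app := fun s => CommRingCat.ofHom (stage A I s).subtype
         naturality := fun _ _ _ => CommRingCat.hom_ext (RingHom.ext fun _ => rfl) }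

/-- the ring is the union of the stages -/
noncomputable def isColimit : IsColimit (cocone A I) := by
  classical
  haveI : ReflectsColimit (rings A I) (forget CommRingCat.{u}) := reflectsColimit_of_reflectsIsomorphisms _ _
  refine isColimitOfReflects (forget CommRingCat.{u}) ?_
  refine Types.FilteredColimit.isColimitOf' _ _ (fun z => ?_) fun s x y h => ?_
  · exact ⟨{z}, ⟨z, mem_stage A I z⟩, rfl⟩
  · exact ⟨s, 𝟙 s, congrArg _ (Subtype.ext h)⟩

/-- the spectra -/
noncomputable def specs : (Finset A)ᵒᵖ ⥤ Scheme.{u} := (rings A I).op ⋙ Scheme.Spec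

/-- the cone -/
noncomputable def specCone : Cone (specs A I) := Scheme.Spec.mapCone (cocone A I).op

/-- it is a limit -/
noncomputable def isLimitSpec : IsLimit (specCone A I) := isLimitOfPreserves Scheme.Spec (isColimit A I).op

instance isAffine_obj (k : (Finset A)ᵒᵖ) : IsAffine ((specs A I).obj k) :=
  inferInstanceAs (IsAffine (Spec (CommRingCat.of (stage A I k.unop))))

instance isAffineHom_map {k l : (Finset A)ᵒᵖ} (a : k ⟶ l) : IsAffineHom ((specs A I).map a) :=
  isAffineHom_of_isAffine _

instance compactSpace_obj (k : (Finset A)ᵒᵖ) : CompactSpace ((specs A I).obj k) :=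
  inferInstanceAs (CompactSpace (Spec (CommRingCat.of (stage A I k.unop))))

instance quasiSeparatedSpace_obj (k : (Finset A)ᵒᵖ) : QuasiSeparatedSpace ((specs A I).obj k) :=
  inferInstanceAs (QuasiSeparatedSpace (Spec (CommRingCat.of (stage A I k.unop))))

/-- the closed loci of the stages -/
noncomputable def locus (k : (Finset A)ᵒᵖ) : Set ((specs A I).obj k) :=
  PrimeSpectrum.zeroLocus (stageIdeal A I k.unop : Set (stage A I k.unop))

theorem locus_map {k l : (Finset A)ᵒᵖ} (a : l ⟶ k) (x : (specs A I).obj l) (hx : x ∈ locus A I l) :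
    ((specs A I).map a).base x ∈ locus A I k := by
  intro y hy
  show Subring.inclusion (stage_mono A I (leOfHom a.unop)) y ∈ (x : PrimeSpectrum (stage A I l.unop)).asIdeal
  let y' : stage A I k.unop := y
  exact hx (show (y' : A) ∈ I from hy)

theorem mem_zeroLocus_of_forall (p : Spec (CommRingCat.of A))
    (h : ∀ k, ((specCone A I).π.app k).base p ∈ locus A I k) : p ∈ PrimeSpectrum.zeroLocus (I : Set A) := fun a ha =>
  h (op {a}) (show (⟨a, mem_stage A I a⟩ : stage A I {a}) ∈ stageIdeal A I {a} from ha)

/-- torsion sheaves vanishing on the closed subscheme of a henselian couple have no cohomology -/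
theorem subsingleton_H (K : EtCoh.Ab (Spec (CommRingCat.of A))) (hK : EtCoh.IsTorsion K)
    (hoff : OffClosed (Spec.map (CommRingCat.ofHom (Ideal.Quotient.mk I))) K) (q : ℕ) :
    Subsingleton (EtCoh.H _ K q) := by
  haveI : IsClosedImmersion (Spec.map (CommRingCat.ofHom (Ideal.Quotient.mk I))) :=
    IsClosedImmersion.spec_of_surjective _ Ideal.Quotient.mk_surjective
  let c := specCone A I
  have hc : IsLimit c := isLimitSpec A I
  let K' : EtCoh.Ab c.pt := K
  let S := EtLimCore.taut c K'
  let S' := LimitOff.sub S (locus A I) (fun a x => locus_map A I a x)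
  have hS' : S'.IsColim := by
    refine LimitOff.sub_isColim S (locus A I) _ (EtLimCore.taut_isColim hc K')
      (fun k => PrimeSpectrum.isClosed_zeroLocus _) ?_
    intro Ω _ _ ξ hξ
    have hmem : ξ.base default ∈ Set.range (Spec.map (CommRingCat.ofHom (Ideal.Quotient.mk I))) := by
      rw [HensCouple7.range_specMap_mk]
      exact mem_zeroLocus_of_forall A I _ hξ
    obtain ⟨ξ', rfl⟩ := PBC50.exists_lift_geomPoint (Spec.map (CommRingCat.ofHom (Ideal.Quotient.mk I))) ξ hmem
    refine IsZero.of_iso ?_ ((EtFound.stalkPullIso _ ξ').app K).symm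
    exact (EtCoh.stalk ξ').map_isZero hoff
  refine subsingleton_of_forall_eq 0 fun x => ?_
  obtain ⟨k, -, ξ, hξ⟩ := S'.exists_H hc hS' q x (op ∅)
  let i := Spec.map (CommRingCat.ofHom (Ideal.Quotient.mk (stageIdeal A I k.unop)))
  haveI : IsClosedImmersion i := IsClosedImmersion.spec_of_surjective _ Ideal.Quotient.mk_surjective
  haveI := isNoetherianRing_stage A I k.unop
  haveI := henselianRing_stage A I k.unop
  haveI : IsAffineHom (c.π.app k) := by
    haveI : IsAffine (((Functor.const _).obj c.pt).obj k) := inferInstanceAs (IsAffine (Spec (CommRingCat.of A)))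
    exact isAffineHom_of_isAffine _
  have htor : EtCoh.IsTorsion (S'.sheaf k) := by
    haveI := LimitOff.mono_incl' S (locus A I) (fun a x => locus_map A I a x) k
    refine isTorsion_of_mono (LimitOff.incl' S (locus A I) (fun a x => locus_map A I a x) k ≫ S.ψ' k) ?_
    exact TorsColim.isLTorsion_univ_iff.1
      (EtBCA.isLTorsion_push (c.π.app k) (TorsColim.isLTorsion_univ_iff.2 hK))
  have hoff' : OffClosed i (S'.sheaf k) := by
    refine CdLib.Supp.isZero_of_supp_eq_empty _ (Set.eq_empty_of_forall_notMem fun y hy => ?_)
    obtain ⟨Ω, _, _, η, hη, hne⟩ := CdLib.Supp.exists_of_mem_supp hy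
    refine hne (IsZero.of_iso ?_ ((EtFound.stalkPullIso i η).app (S'.sheaf k)))
    refine LimitOff.isZero_stalk_sub S (locus A I) (fun a x => locus_map A I a x) k (η ≫ i) ?_
    show (η ≫ i).base default ∈ PrimeSpectrum.zeroLocus (stageIdeal A I k.unop : Set (stage A I k.unop))
    rw [← HensCouple7.range_specMap_mk, Scheme.Hom.comp_apply]
    exact Set.mem_range_self _
  have h0 : Subsingleton (EtCoh.H ((specs A I).obj k) (S'.sheaf k) q) :=
    HenselNoeth.subsingleton_H i (fun X' π _ => by
      rw [HensCouple7.range_specMap_mk]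
      exact PBC50.isConnected_inter_closure (stageIdeal A I k.unop) π) q (S'.sheaf k) htor hoff'
  rw [← hξ, h0.elim ξ 0, map_zero, map_zero]

end Groth.Agent.PBC50.HenselApprox
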