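import Groth.Agent.PBC50.NormalConst
import Groth.Agent.PBC50.PushAcyclic
import Groth.Agent.EtFound.IntegralBaseChange
import Groth.Agent.EtFound.StalkSet
import Groth.Agent.EtFound.SepClosedField
import Groth.Agent.EtLC12.QcqsAcyclic
import Groth.Agent.S0655
import Mathlib.FieldTheory.IsAlgClosed.AlgebraicClosure
import Mathlib.RingTheory.IntegralClosure.IntegralRestrict
import Mathlib.Topology.Sober

/-!
# Torsion sheaves vanishing on the closed subscheme of a Noetherian henselian couple are acyclic
-/

set_option autoImplicit false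
set_option linter.style.haveILetI false

universe u

open CategoryTheory CategoryTheory.Limits AlgebraicGeometry Opposite CategoryTheory.Abelian TopologicalSpace

namespace Groth.Agent.PBC50.HenselNoeth

set_option backward.isDefEq.respectTransparency.types false

open Groth.Agent.PBC50.AicVanish (FinTop Cl)

/-- an integral cover by a normal scheme with separably closed function field of the closure of a point -/
theorem exists_aic_cover (A : Type u) [CommRing A] (p : Ideal A) [p.IsPrime] :
    ∃ (T : Scheme.{u}) (_ : IsAffine T) (_ : IsIntegral T) (_ : IsSepClosed T.functionField)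
      (π : T ⟶ Spec (CommRingCat.of A)) (_ : IsIntegralHom π),
      (∀ t : T, IsIntegrallyClosed (T.presheaf.stalk t)) ∧ π.base (genericPoint T) = ⟨p, inferInstance⟩ := by
  let R := A ⧸ p
  let L := AlgebraicClosure (FractionRing R)
  haveI : IsScalarTower R (FractionRing R) L := inferInstance
  haveI : Algebra.IsAlgebraic R (FractionRing R) := IsLocalization.isAlgebraic _ (nonZeroDivisors R)
  haveI : Algebra.IsAlgebraic R L := Algebra.IsAlgebraic.trans R (FractionRing R) L
  let B := integralClosure R L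
  have hinj : Function.Injective (algebraMap R L) := by
    rw [IsScalarTower.algebraMap_eq R (FractionRing R) L]
    exact (algebraMap (FractionRing R) L).injective.comp (IsFractionRing.injective R (FractionRing R))
  haveI : IsFractionRing B L := integralClosure.isFractionRing_of_algebraic fun x hx => hinj (by rw [hx, map_zero])
  haveI : IsIntegrallyClosed B := (isIntegrallyClosed_iff L).2 fun {x} hx =>
    ⟨⟨x, isIntegral_trans (R := R) (A := B) x hx⟩, rfl⟩
  let g : A →+* B := (algebraMap R B).comp (Ideal.Quotient.mk p)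
  have hg : g.IsIntegral :=
    RingHom.IsIntegral.trans _ _ (RingHom.isIntegral_of_surjective _ Ideal.Quotient.mk_surjective)
      (fun b => Algebra.IsIntegral.isIntegral (R := R) b)
  let T := Spec (CommRingCat.of B)
  haveI : IsDomain (CommRingCat.of B) := inferInstanceAs (IsDomain B)
  letI : Algebra B T.functionField := instAlgebraCarrierFunctionFieldSpec (CommRingCat.of B)
  haveI : IsFractionRing B T.functionField := functionField_isFractionRing_of_affine (CommRingCat.of B)
  haveI : IsSepClosed T.functionField :=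
    Hensel.isSepClosed_of_ringEquiv (IsLocalization.algEquiv (nonZeroDivisors B) L T.functionField).toRingEquiv
  refine ⟨T, inferInstance, inferInstance, inferInstance, Spec.map (CommRingCat.ofHom g), ?_, fun t => ?_, ?_⟩
  · exact (IsIntegralHom.SpecMap_iff (φ := CommRingCat.ofHom g)).2 hg
  · haveI : IsIntegrallyClosed (Localization.AtPrime t.asIdeal) :=
      isIntegrallyClosed_of_isLocalization _ t.asIdeal.primeCompl t.asIdeal.primeCompl_le_nonZeroDivisors
    exact IsIntegrallyClosed.of_equiv (Spec.stalkIso (CommRingCat.of B) t).commRingCatIsoToRingEquiv.symm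
  · refine PrimeSpectrum.ext ?_
    have hgen : genericPoint T = ⟨⊥, Ideal.isPrime_bot⟩ := genericPoint_eq_bot_of_affine (CommRingCat.of B)
    rw [hgen]
    show Ideal.comap g ⊥ = p
    have hinjB : Function.Injective (algebraMap R B) := fun a b h => hinj (congrArg Subtype.val h)
    rw [← RingHom.ker, RingHom.ker_comp_of_injective _ hinjB, Ideal.mk_ker]

/-- the loci of nonzero stalks -/
def nz (F : Type (u + 1)) : Prop := Nontrivial F

theorem supp_eq_stalkSet {X : Scheme.{u}} (F : EtCoh.Ab X) : EtPBC.supp F = EtFound.stalkSet F nz := by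
  ext x
  refine exists_congr fun Ω => exists_congr fun _ => exists_congr fun _ => exists_congr fun ξ => and_congr_right fun _ => ?_
  rw [nz, ← not_subsingleton_iff_nontrivial]
  exact not_congr ⟨fun h => AddCommGrpCat.subsingleton_of_isZero h, fun h => @AddCommGrpCat.isZero_of_subsingleton _ h⟩

theorem exists_specializes_supp {X : Scheme.{u}} [IsNoetherian X] {F : EtCoh.Ab X} (hF : EtPBC.IsConstructible F)
    {x : X} (hx : x ∈ closure (EtPBC.supp F)) : ∃ a ∈ EtPBC.supp F, a ⤳ x := by
  haveI : SpectralSpace X := { }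
  have h : Topology.IsConstructible (EtPBC.supp F) := by
    rw [supp_eq_stalkSet]
    exact (EtFound.isLocallyConstructible_stalkSet hF fun A B ⟨e⟩ h =>
      @Equiv.nontrivial _ _ e.symm h).isConstructible
  exact (SpecLib.cons_clopen h).1.exists_specializes hx

section embed

variable {T X : Scheme.{u}} [IsIntegral T] (π : T ⟶ X)

/-- the geometric point of the generic point -/
noncomputable abbrev genPt : Spec (CommRingCat.of T.functionField) ⟶ X :=
  (𝟙 (Spec (CommRingCat.of T.functionField)) ≫ NormalConst.gen T) ≫ π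

/-- finite stalks map to direct images of finite constant sheaves -/
theorem exists_embedding [IsSepClosed T.functionField] (hN : ∀ t : T, IsIntegrallyClosed (T.presheaf.stalk t))
    (P : EtCoh.Ab X) (hP : Finite ((EtCoh.stalk (genPt π)).obj P)) :
    ∃ (N : EtCoh.Ab T) (ψ : P ⟶ (EtCoh.push π).obj N), FinTop N ∧ EtCoh.IsTorsion N ∧
      Function.Injective ((EtCoh.stalk (genPt π)).map ψ) := by
  let η := NormalConst.gen T
  let K := T.functionField
  let i₁ := EtFound.sheafFiberPullIso (A := AddCommGrpCat.{u + 1}) π (𝟙 (Spec (CommRingCat.of K)) ≫ η)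
  let Q := (EtCoh.pull π).obj P
  let M : AddCommGrpCat.{u + 1} := (EtCoh.stalk (𝟙 (Spec (CommRingCat.of K)))).obj ((EtCoh.pull η).obj Q)
  let iQ := (EtFound.sheafFiberPullIso (A := AddCommGrpCat.{u + 1}) η (𝟙 (Spec (CommRingCat.of K)))).app Q ≪≫
    i₁.app P
  haveI : Finite M := Finite.of_equiv _ iQ.addCommGroupIsoToAddEquiv.symm.toEquiv
  let N : EtCoh.Ab T := (constantSheaf T.smallEtaleTopology AddCommGrpCat.{u + 1}).obj M
  let φ : M ⟶ N.obj.obj (op (EtCoh.top T)) :=
    (toSheafify T.smallEtaleTopology ((Functor.const T.Etaleᵒᵖ).obj M)).app (op (EtCoh.top T))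
  have hφ : EtFound.ConstBy (A := AddCommGrpCat.{u + 1}) N φ := fun Ω _ _ ξ z =>
    EtFound.toSheafify_const_germ_bijective ξ AddCommGrpCat.{u + 1} M _ z
  have hfin : FinTop N := ⟨M, φ, inferInstance, hφ⟩
  have htor : EtCoh.IsTorsion N := by
    intro U s u
    obtain ⟨Ω, _, _, ξ, z, hz⟩ := EtFound.exists_point_through U u
    let Φ := Scheme.pointSmallEtale ξ
    obtain ⟨m, hm⟩ := (EtFound.toSheafify_const_germ_bijective ξ AddCommGrpCat.{u + 1} M U z).2
      (Φ.toPresheafFiber U z N.obj s)
    have hm0 : Φ.toPresheafFiber U z N.obj (Nat.card M • s) = Φ.toPresheafFiber U z N.obj 0 := by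
      rw [map_nsmul, map_zero, ← hm]
      let f : M →+ _ := ((toSheafify T.smallEtaleTopology ((Functor.const T.Etaleᵒᵖ).obj M)).app (op U) ≫
        Φ.toPresheafFiber U z (sheafify T.smallEtaleTopology ((Functor.const T.Etaleᵒᵖ).obj M))).hom
      show Nat.card M • f m = 0
      rw [← map_nsmul, card_nsmul_eq_zero', map_zero]
    obtain ⟨V, g, v, hv, h0⟩ := (Φ.toPresheafFiber_eq_iff' (P := N.obj) U z _ _).1 hm0
    refine ⟨V, g, ⟨ptOf v, ?_⟩, isOfFinAddOrder_iff_nsmul_eq_zero.2 ⟨Nat.card M, Nat.card_pos, ?_⟩⟩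
    · rw [← hz default]
      subst hv
      rfl
    · rw [← map_nsmul, h0, map_zero]
  let g₁ : M ⟶ (EtCoh.stalk (𝟙 (Spec (CommRingCat.of K)) ≫ η)).obj N :=
    φ ≫ (Scheme.pointSmallEtale (𝟙 (Spec (CommRingCat.of K)) ≫ η)).toPresheafFiber (EtCoh.top T)
      (CategoryTheory.Over.homMk (𝟙 (Spec (CommRingCat.of K)) ≫ η) (Category.comp_id _)) N.obj
  haveI : IsIso g₁ := (ConcreteCategory.isIso_iff_bijective _).2
    (EtFound.toSheafify_const_germ_bijective _ AddCommGrpCat.{u + 1} M _ _)
  haveI := EtFound.sheafFiber_isEquivalence (k := K) (A := AddCommGrpCat.{u + 1})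
  let e : (EtCoh.pull η).obj Q ≅ (EtCoh.pull η).obj N :=
    (Scheme.pointSmallEtale (𝟙 (Spec (CommRingCat.of K)))).sheafFiber.preimageIso
      (asIso g₁ ≪≫ ((EtFound.sheafFiberPullIso (A := AddCommGrpCat.{u + 1}) η
        (𝟙 (Spec (CommRingCat.of K)))).app N).symm)
  haveI := NormalConst.isIso_unit hN hfin
  let θ : Q ⟶ N :=
    (EtCoh.pullPushAdj η).homEquiv Q ((EtCoh.pull η).obj N) e.hom ≫ inv ((EtCoh.pullPushAdj η).unit.app N)
  have hθ : (EtCoh.pull η).map θ = e.hom := by
    have h1 : θ ≫ (EtCoh.pullPushAdj η).unit.app N = (EtCoh.pullPushAdj η).homEquiv _ _ e.hom := by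
      simp [θ]
    have h2 := congrArg ((EtCoh.pullPushAdj η).homEquiv Q ((EtCoh.pull η).obj N)).symm h1
    rw [Equiv.symm_apply_apply, Adjunction.homEquiv_counit, Functor.map_comp, Category.assoc] at h2
    erw [(EtCoh.pullPushAdj η).left_triangle_components N, Category.comp_id] at h2
    exact h2
  let ψ : P ⟶ (EtCoh.push π).obj N := (EtCoh.pullPushAdj π).homEquiv P N θ
  refine ⟨N, ψ, hfin, htor, ?_⟩
  have hψ : (EtCoh.pull π).map ψ ≫ (EtCoh.pullPushAdj π).counit.app N = θ :=
    ((EtCoh.pullPushAdj π).homEquiv_counit P N ψ).symm.trans (((EtCoh.pullPushAdj π).homEquiv P N).symm_apply_apply θ)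
  haveI : Mono ((EtCoh.pull η).map ((EtCoh.pull π).map ψ)) := by
    have h3 : (EtCoh.pull η).map ((EtCoh.pull π).map ψ) ≫ (EtCoh.pull η).map ((EtCoh.pullPushAdj π).counit.app N) =
        e.hom := by rw [← Functor.map_comp, hψ, hθ]
    exact mono_of_mono_fac h3
  let j := (Scheme.pointSmallEtale (𝟙 (Spec (CommRingCat.of K)))).sheafFiber (A := AddCommGrpCat.{u + 1})
  haveI : Mono (j.map ((EtCoh.pull η).map ((EtCoh.pull π).map ψ))) := inferInstance
  let I : EtCoh.pull π ⋙ EtCoh.pull η ⋙ j ≅ EtCoh.stalk (genPt π) :=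
    Functor.isoWhiskerLeft (EtCoh.pull π) (EtFound.sheafFiberPullIso η (𝟙 (Spec (CommRingCat.of K)))) ≪≫ i₁
  have hnat := I.inv.naturality ψ
  haveI : Mono ((EtCoh.stalk (genPt π)).map ψ ≫ I.inv.app _) := by
    rw [hnat]
    haveI : Mono ((EtCoh.pull π ⋙ EtCoh.pull η ⋙ j).map ψ) :=
      inferInstanceAs (Mono (j.map ((EtCoh.pull η).map ((EtCoh.pull π).map ψ))))
    infer_instance
  exact (AddCommGrpCat.mono_iff_injective _).1 (mono_of_mono ((EtCoh.stalk (genPt π)).map ψ) (I.inv.app _))

end embed

section main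

set_option linter.unusedSectionVars false

variable {A : Type u} [CommRing A] [IsNoetherianRing A] {Z : Scheme.{u}} (i : Z ⟶ Spec (CommRingCat.of A))
  [IsClosedImmersion i]
  (hfin : ∀ (X' : Scheme.{u}) (π : X' ⟶ Spec (CommRingCat.of A)) [IsFinite π], ConnIn (π ⁻¹' Set.range i))

include hfin in
/-- every constructible sheaf embeds, near a generic point of its support, in an acyclic one -/
theorem exists_acyclic_target (P : EtCoh.Ab (Spec (CommRingCat.of A))) (hP : EtPBC.IsConstructible P)
    (hoff : OffClosed i P) (x : Spec (CommRingCat.of A)) :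
    ∃ (G : EtCoh.Ab (Spec (CommRingCat.of A))) (θ : P ⟶ G), OffClosed i G ∧ EtCoh.IsTorsion G ∧
      (∀ q, Subsingleton (EtCoh.H _ G q)) ∧ x ∉ EtPBC.supp (kernel θ) := by
  obtain ⟨T, _, _, _, π, _, hN, hx⟩ := exists_aic_cover A x.asIdeal
  obtain ⟨N, ψ, hfinN, htorN, hinj⟩ := exists_embedding π hN P (EtFound.finite_stalk_of_isConstructible hP _)
  let G₀ := (EtCoh.push π).obj N
  let u₀ := (EtCoh.pullPushAdj i).unit.app G₀
  refine ⟨kernel u₀, kernel.lift u₀ ψ (hoff.comp_unit_eq_zero ψ), offClosed_kernel_unit G₀,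
    isTorsion_of_mono (kernel.ι u₀) (isTorsion_push_integral π htorN), ?_, ?_⟩
  · refine subsingleton_H_kernel_unit hfin (fun n => subsingleton_H_push_integral π N _ ?_) (fun n => ?_)
    · exact AicVanish.subsingleton_H ⟨T, ‹_›, ‹_›, ‹_›, 𝟙 T, inferInstance, hN⟩ hfinN n
    · let π' := pullback.snd π i
      let i' := pullback.fst π i
      haveI : IsIntegralHom π' := MorphismProperty.pullback_snd π i inferInstance
      haveI := S0655.result π i π' i' (IsPullback.of_hasPullback π i) N
      let e := asIso (EtCoh.baseChange0 π i π' i' (IsPullback.of_hasPullback π i).w N)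
      haveI : IsClosedImmersion i' := MorphismProperty.pullback_fst π i inferInstance
      refine subsingleton_H_push_integral i _ _ ?_
      refine CdLib.ExtVanish.ext_of_iso e.symm _ _ (subsingleton_H_push_integral π' _ _ ?_)
      exact AicVanish.subsingleton_H ⟨T, ‹_›, ‹_›, ‹_›, i', inferInstance, hN⟩ (hfinN.pull i') n
  · intro hmem
    obtain ⟨Ω, _, _, ζ, hζ, hne⟩ := hmem
    refine hne ?_
    have hker : IsZero ((EtCoh.stalk (genPt π)).obj (kernel (kernel.lift u₀ ψ (hoff.comp_unit_eq_zero ψ)))) := by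
      haveI := EtBCA.stalk_additive (genPt π)
      let θ := kernel.lift u₀ ψ (hoff.comp_unit_eq_zero ψ)
      refine (IsZero.iff_id_eq_zero _).2 (AddCommGrpCat.ext fun a => ?_)
      haveI : Mono ((EtCoh.stalk (genPt π)).map (kernel.ι θ)) := inferInstance
      apply (AddCommGrpCat.mono_iff_injective ((EtCoh.stalk (genPt π)).map (kernel.ι θ))).1 inferInstance
      show (EtCoh.stalk (genPt π)).map (kernel.ι θ) a = (EtCoh.stalk (genPt π)).map (kernel.ι θ) 0
      apply hinj
      rw [map_zero, map_zero, ← ConcreteCategory.comp_apply, ← Functor.map_comp,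
        show kernel.ι θ ≫ ψ = 0 by rw [← kernel.lift_ι u₀ ψ (hoff.comp_unit_eq_zero ψ), kernel.condition_assoc, zero_comp],
        Functor.map_zero]
      rfl
    have hbase : (genPt π).base (default : Spec (CommRingCat.of T.functionField)) = x := by
      rw [Scheme.Hom.comp_apply, Category.id_comp, NormalConst.gen_base]
      exact hx
    rw [EtFound.range_point, Set.singleton_eq_singleton_iff] at hζ
    obtain ⟨eq⟩ := EtFound.nonempty_stalk_equiv (kernel (kernel.lift u₀ ψ (hoff.comp_unit_eq_zero ψ))) ζ (genPt π)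
      (hζ.trans hbase.symm)
    haveI := AddCommGrpCat.subsingleton_of_isZero hker
    exact @AddCommGrpCat.isZero_of_subsingleton _ eq.subsingleton

include hfin in
theorem subsingleton_H_succ (q : ℕ)
    (ih : ∀ K : EtCoh.Ab (Spec (CommRingCat.of A)), EtCoh.IsTorsion K → OffClosed i K →
      Subsingleton (EtCoh.H _ K q)) :
    ∀ (P : EtCoh.Ab (Spec (CommRingCat.of A))), EtPBC.IsConstructible P → OffClosed i P →
      Subsingleton (EtCoh.H _ P (q + 1)) := by
  suffices h : ∀ (C : Closeds (Spec (CommRingCat.of A))) (P : EtCoh.Ab (Spec (CommRingCat.of A))),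
      EtPBC.IsConstructible P → OffClosed i P →
        (⟨closure (EtPBC.supp P), isClosed_closure⟩ : Closeds (Spec (CommRingCat.of A))) = C →
        Subsingleton (EtCoh.H _ P (q + 1)) from fun P hP hoff => h _ P hP hoff rfl
  haveI : WellFoundedLT (Closeds (Spec (CommRingCat.of A))) := inferInstance
  intro C
  induction C using WellFoundedLT.induction with
  | _ C IH =>
    intro P hP hoff hC
    subst hC
    by_cases he : EtPBC.supp P = ∅
    · exact CdLib.Devissage.subsingleton_H_of_isZero _ (CdLib.Supp.isZero_of_supp_eq_empty P he) _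
    obtain ⟨y, hy⟩ := Set.nonempty_iff_ne_empty.2 he
    let D : Set (Spec (CommRingCat.of A)) := closure (EtPBC.supp P)
    -- a generic point of a component of the closure of the support
    obtain ⟨Y, hY, hYD, hyY, hmax⟩ : ∃ Y : Set (Spec (CommRingCat.of A)), IsIrreducible Y ∧ Y ⊆ D ∧ y ∈ Y ∧
        ∀ Y', IsIrreducible Y' → Y' ⊆ D → Y ⊆ Y' → Y' = Y := by
      let yD : D := ⟨y, subset_closure hy⟩
      refine ⟨Subtype.val '' irreducibleComponent yD, ?_, Subtype.coe_image_subset _ _,
        ⟨yD, mem_irreducibleComponent, rfl⟩, fun Y' hY' hY'D hsub => ?_⟩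
      · exact isIrreducible_irreducibleComponent.image _ continuous_subtype_val.continuousOn
      · have hirr : IsIrreducible (Subtype.val ⁻¹' Y' : Set D) := by
          refine ⟨⟨yD, hsub ⟨yD, mem_irreducibleComponent, rfl⟩⟩, ?_⟩
          rintro u v hu hv ⟨a, haY, hau⟩ ⟨b, hbY, hbv⟩
          obtain ⟨u', hu', rfl⟩ := isOpen_induced_iff.1 hu
          obtain ⟨v', hv', rfl⟩ := isOpen_induced_iff.1 hv
          obtain ⟨c, hcY, hc⟩ := hY'.2 u' v' hu' hv' ⟨a.1, haY, hau⟩ ⟨b.1, hbY, hbv⟩
          exact ⟨⟨c, hY'D hcY⟩, hcY, hc⟩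
        have hle : irreducibleComponent yD ≤ Subtype.val ⁻¹' Y' := fun z hz => hsub ⟨z, hz, rfl⟩
        have hmax' := (irreducibleComponent_mem_irreducibleComponents yD).2 hirr hle
        exact Set.Subset.antisymm (fun z hz => ⟨⟨z, hY'D hz⟩, hmax' hz, rfl⟩) hsub
    let x := hY.genericPoint
    have hxg : closure ({x} : Set (Spec (CommRingCat.of A))) = closure Y := hY.isGenericPoint_genericPoint_closure
    have hxD : x ∈ D := closure_minimal hYD isClosed_closure (hxg ▸ subset_closure rfl)
    have hgen : ∀ a ∈ D, a ⤳ x → a = x := by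
      intro a ha hax
      have hca : closure {a} ⊆ D := closure_minimal (Set.singleton_subset_iff.2 ha) isClosed_closure
      have hsub : Y ⊆ closure {a} := fun z hz => by
        have hz' : z ∈ closure ({x} : Set (Spec (CommRingCat.of A))) := hxg.ge (subset_closure hz)
        exact closure_minimal (Set.singleton_subset_iff.2 (specializes_iff_mem_closure.1 hax)) isClosed_closure hz'
      have he' : closure {a} = Y := hmax _ isIrreducible_singleton.closure hca hsub
      have hxa : x ⤳ a := specializes_iff_mem_closure.2 (hxg.ge (subset_closure (he' ▸ subset_closure rfl)))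
      exact (hax.antisymm hxa).eq
    obtain ⟨G, θ, hGoff, hGtor, hG, hxker⟩ := exists_acyclic_target i hfin P hP hoff x
    -- the kernel has smaller support
    have hlt : (⟨closure (EtPBC.supp (kernel θ)), isClosed_closure⟩ : Closeds (Spec (CommRingCat.of A))) <
        ⟨closure (EtPBC.supp P), isClosed_closure⟩ := by
      refine SetLike.lt_iff_le_and_exists.2 ⟨closure_mono (CdLib.Supp.supp_mono (kernel.ι θ)), x, hxD, fun hx => ?_⟩
      obtain ⟨a, ha, hax⟩ := exists_specializes_supp (EtFound.isConstructible_kernel_noeth hP θ) hx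
      exact hxker (hgen a (subset_closure (CdLib.Supp.supp_mono (kernel.ι θ) ha)) hax ▸ ha)
    have hK := IH _ hlt (kernel θ) (EtFound.isConstructible_kernel_noeth hP θ) (hoff.of_mono (kernel.ι θ)) rfl
    let S₁ := ShortComplex.mk (kernel.ι θ) (Abelian.factorThruImage θ)
      (by rw [← cancel_mono (Abelian.image.ι θ), Category.assoc, Abelian.image.fac, kernel.condition, zero_comp])
    let S₂ := ShortComplex.mk (Abelian.image.ι θ) (cokernel.π θ) (kernel.condition _)
    have hS₁ : S₁.ShortExact :=
      { exact := ShortComplex.exact_of_f_is_kernel _ (KernelFork.IsLimit.ofι' _ _ fun {W} g hg =>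
          ⟨kernel.lift θ g (by rw [← Abelian.image.fac θ, ← Category.assoc]
                               exact (congrArg (· ≫ Abelian.image.ι θ) hg).trans zero_comp),
            kernel.lift_ι _ _ _⟩) }
    have hS₂ : S₂.ShortExact := { exact := ShortComplex.exact_of_f_is_kernel _ (kernelIsKernel (cokernel.π θ)) }
    exact CdLib.ExtVanish.ext₂ hS₁ _ _ hK (CdLib.ExtVanish.ext₁ hS₂ _ _
      (ih _ (isTorsion_of_epi (cokernel.π θ) hGtor) (hGoff.of_epi (cokernel.π θ))) (hG (q + 1)))

include hfin in
/-- torsion sheaves vanishing on the closed subscheme have no cohomology -/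
theorem subsingleton_H : ∀ (q : ℕ) (K : EtCoh.Ab (Spec (CommRingCat.of A))), EtCoh.IsTorsion K → OffClosed i K →
    Subsingleton (EtCoh.H _ K q)
  | 0, K, _, hK => subsingleton_H_zero hfin hK
  | q + 1, K, hKtor, hK => by
    refine subsingleton_of_forall_eq 0 fun α => ?_
    obtain ⟨J, _, _, D, c, hc, ⟨e⟩, hD⟩ := TorsColim.exists_colimit TorsColim.adapted_univ K hKtor (Set.subset_univ _)
    haveI := EtLC12.QcqsAcyclic.preservesColimitsOfShape_HF (Spec (CommRingCat.of A)) (q + 1) J
    obtain ⟨j, β, hβ⟩ := Concrete.isColimit_exists_rep _ (isColimitOfPreserves (EtCoh.HF _ (q + 1)) hc)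
      (((EtCoh.HF _ (q + 1)).map e.inv).hom α)
    let g : D.obj j ⟶ K := c.ι.app j ≫ e.hom
    have hg : α = Sheaf.H.map g (q + 1) β := by
      have h1 : ((EtCoh.HF _ (q + 1)).map e.hom).hom (((EtCoh.HF _ (q + 1)).map e.inv).hom α) = α := by
        rw [← ConcreteCategory.comp_apply, ← Functor.map_comp, e.inv_hom_id, CategoryTheory.Functor.map_id]
        rfl
      rw [← h1, ← hβ]
      exact (Sheaf.H.map_comp_apply _ _ β).symm
    have h2 : Sheaf.H.map g (q + 1) β = Sheaf.H.map (Abelian.image.ι g) (q + 1)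
        (Sheaf.H.map (Abelian.factorThruImage g) (q + 1) β) := by
      rw [← Sheaf.H.map_comp_apply, Abelian.image.fac]
    haveI := subsingleton_H_succ i hfin q (subsingleton_H q) (Abelian.image g)
      (EtFound.isConstructible_of_epi (hD j).1 (Abelian.factorThruImage g)) (hK.of_mono (Abelian.image.ι g))
    rw [hg, h2, Subsingleton.elim (Sheaf.H.map (Abelian.factorThruImage g) (q + 1) β) 0, map_zero]

end main

end Groth.Agent.PBC50.HenselNoeth
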