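import Groth.Agent.EtBCA.BCQ.Killed
import Groth.Agent.EtLimCore.StalkPush
import Groth.Agent.BigSiteLib.FlasquePush
import Groth.Agent.DualLib.Pull
import Groth.Agent.EtBCA.PullId
import Groth.Agent.CdLib.ExtVanish

/-!
# Injective sheaves of `ℤ/n`-modules
-/

set_option autoImplicit false
set_option linter.style.haveILetI false

universe u

open CategoryTheory CategoryTheory.Limits AlgebraicGeometry Opposite CategoryTheory.Abelian

namespace Groth.Agent.PBC50

set_option backward.isDefEq.respectTransparency.types false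

open Groth.Agent.EtBCA (QcAcyclic)
open Groth.Agent.EtBCA.BCQ (killedBy_functor nsmul_id_of_killedBy killedBy_of_nsmul_id)

variable {X Y : Scheme.{u}}

/-- injective among the sheaves killed by `n` -/
structure InjKilled (n : ℕ) (I : EtCoh.Ab X) : Prop where
  killed : EtCoh.KilledBy n I
  extend : ∀ {G G' : EtCoh.Ab X} (a : G ⟶ I) (m : G ⟶ G') [Mono m],
    EtCoh.KilledBy n G → EtCoh.KilledBy n G' → ∃ b : G' ⟶ I, m ≫ b = a

namespace InjKilled

theorem killedBy_kernel (n : ℕ) (J : EtCoh.Ab X) : EtCoh.KilledBy n (kernel (n • 𝟙 J)) := by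
  refine killedBy_of_nsmul_id ((cancel_mono (kernel.ι (n • 𝟙 J))).1 ?_)
  rw [zero_comp, ← kernel.condition (n • 𝟙 J), Preadditive.nsmul_comp, Preadditive.comp_nsmul,
    Category.id_comp, Category.comp_id]

theorem comp_nsmul_eq_zero {n : ℕ} {F J : EtCoh.Ab X} (hF : EtCoh.KilledBy n F) (φ : F ⟶ J) :
    φ ≫ (n • 𝟙 J) = 0 := by
  rw [Preadditive.comp_nsmul, Category.comp_id, ← Category.id_comp φ, ← Preadditive.nsmul_comp,
    nsmul_id_of_killedBy hF, zero_comp]

theorem kernel_nsmul (n : ℕ) (J : EtCoh.Ab X) [Injective J] : InjKilled n (kernel (n • 𝟙 J)) where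
  killed := killedBy_kernel n J
  extend {G G'} a m _ _ hG' := by
    refine ⟨kernel.lift _ (Injective.factorThru (a ≫ kernel.ι _) m) (comp_nsmul_eq_zero hG' _), ?_⟩
    rw [← cancel_mono (kernel.ι (n • 𝟙 J)), Category.assoc, kernel.lift_ι, Injective.comp_factorThru]

/-- enough injectives -/
theorem exists_embedding {n : ℕ} {F : EtCoh.Ab X} (hF : EtCoh.KilledBy n F) :
    ∃ (I : EtCoh.Ab X) (ι : F ⟶ I), Mono ι ∧ InjKilled n I := by
  refine ⟨_, kernel.lift (n • 𝟙 (Injective.under F)) (Injective.ι F) (comp_nsmul_eq_zero hF _),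
    mono_of_mono_fac (kernel.lift_ι _ _ _), kernel_nsmul n _⟩

/-- a summand of the `n`-torsion of an injective -/
theorem exists_retract {n : ℕ} {I : EtCoh.Ab X} (h : InjKilled n I) :
    ∃ (J : EtCoh.Ab X) (_ : Injective J) (s : I ⟶ kernel (n • 𝟙 J)) (r : kernel (n • 𝟙 J) ⟶ I),
      s ≫ r = 𝟙 I := by
  have : Mono (kernel.lift (n • 𝟙 (Injective.under I)) (Injective.ι I) (comp_nsmul_eq_zero h.killed _)) :=
    mono_of_mono_fac (kernel.lift_ι _ _ _)
  obtain ⟨r, hr⟩ := h.extend (𝟙 I)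
    (kernel.lift (n • 𝟙 (Injective.under I)) (Injective.ι I) (comp_nsmul_eq_zero h.killed _)) h.killed
    (killedBy_kernel n _)
  exact ⟨_, inferInstance, _, r, hr⟩

theorem push {n : ℕ} {I : EtCoh.Ab X} (h : InjKilled n I) (f : X ⟶ Y) : InjKilled n ((EtCoh.push f).obj I) where
  killed := by
    haveI := (EtCoh.pullPushAdj f).right_adjoint_additive
    exact killedBy_functor (EtCoh.push f) h.killed
  extend {G G'} a m _ hG hG' := by
    haveI := EtFound.pull_preservesFiniteLimits f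
    obtain ⟨b, hb⟩ := h.extend (((EtCoh.pullPushAdj f).homEquiv _ _).symm a) ((EtCoh.pull f).map m)
      (EtBCA.BCQ.killedBy_pull f hG) (EtBCA.BCQ.killedBy_pull f hG')
    refine ⟨(EtCoh.pullPushAdj f).homEquiv _ _ b, ?_⟩
    rw [← Adjunction.homEquiv_naturality_left, hb, Equiv.apply_symm_apply]

theorem mono_const_nsmul (W : Scheme.{u}) {n : ℕ} (hn : n ≠ 0) :
    Mono ((constantSheaf W.smallEtaleTopology AddCommGrpCat.{u + 1}).map
      (n • 𝟙 (AddCommGrpCat.of (ULift.{u + 1} ℤ)))) := by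
  haveI : Mono (n • 𝟙 (AddCommGrpCat.of (ULift.{u + 1} ℤ))) := by
    refine (AddCommGrpCat.mono_iff_injective _).2 ((injective_iff_map_eq_zero _).2 fun x hx => ?_)
    have h : n • x = 0 := hx
    apply ULift.down_injective
    simpa [hn] using congrArg ULift.down h
  haveI : ∀ U, Mono (((Functor.const W.Etaleᵒᵖ).map (n • 𝟙 (AddCommGrpCat.of (ULift.{u + 1} ℤ)))).app U) :=
    fun _ => ‹_›
  haveI := NatTrans.mono_of_mono_app ((Functor.const W.Etaleᵒᵖ).map (n • 𝟙 (AddCommGrpCat.of (ULift.{u + 1} ℤ))))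
  exact (presheafToSheaf W.smallEtaleTopology AddCommGrpCat.{u + 1}).map_mono _

/-- global sections of injective sheaves are divisible -/
theorem divisible_top (W : Scheme.{u}) {n : ℕ} (hn : n ≠ 0) (J : EtCoh.Ab W) [Injective J]
    (s : J.obj.obj (op (EtCoh.top W))) : ∃ t, n • t = s := by
  haveI := mono_const_nsmul W hn
  let a := EtCore.constAdj W
  let φ := AddCommGrpCat.ofHom ((zmultiplesHom (J.obj.obj (op (EtCoh.top W))) s).comp
    (AddEquiv.ulift : ULift.{u + 1} ℤ ≃+ ℤ).toAddMonoidHom)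
  let ψ := Injective.factorThru ((a.homEquiv _ _).symm φ)
    ((constantSheaf W.smallEtaleTopology AddCommGrpCat.{u + 1}).map (n • 𝟙 (AddCommGrpCat.of (ULift.{u + 1} ℤ))))
  have hψ := congrArg (a.homEquiv _ _) (Injective.comp_factorThru ((a.homEquiv _ _).symm φ)
    ((constantSheaf W.smallEtaleTopology AddCommGrpCat.{u + 1}).map (n • 𝟙 (AddCommGrpCat.of (ULift.{u + 1} ℤ)))))
  rw [Equiv.apply_symm_apply, Adjunction.homEquiv_naturality_left] at hψ
  refine ⟨a.homEquiv _ _ ψ (ULift.up 1), ?_⟩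
  have h := ConcreteCategory.congr_hom hψ (ULift.up 1)
  refine Eq.trans ?_ (h.trans ?_)
  · exact (map_nsmul (a.homEquiv _ _ ψ).hom n (ULift.up 1)).symm
  · exact one_zsmul s

/-- sections of injective sheaves are divisible -/
theorem divisible {n : ℕ} (hn : n ≠ 0) (J : EtCoh.Ab X) [Injective J] (U : X.Etale) (s : J.obj.obj (op U)) :
    ∃ t, n • t = s := by
  haveI : AlgebraicGeometry.Etale U.hom := U.prop
  haveI := EtFound.jCont U.hom
  haveI := DualLib.pull_preservesInjectiveObjects U.hom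
  haveI : Injective ((EtCoh.pull U.hom).obj J) := Functor.PreservesInjectiveObjects.injective_obj inferInstance
  let φ := EtLimCore.secMap U.hom J (𝟙 U.left) (Category.id_comp _)
  have hb : Function.Bijective φ := EtLimCore.secMap_self_bijective J U
  obtain ⟨t, ht⟩ := divisible_top U.left hn ((EtCoh.pull U.hom).obj J) (φ s)
  obtain ⟨t', rfl⟩ := hb.2 t
  exact ⟨t', hb.1 ((map_nsmul φ.hom n t').trans ht)⟩

theorem epi_nsmul {n : ℕ} (hn : n ≠ 0) (J : EtCoh.Ab X) [Injective J] : Epi (n • 𝟙 J) := by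
  refine (Sheaf.isLocallySurjective_iff_epi' _ _).1 ⟨fun {U} s => ?_⟩
  obtain ⟨t, ht⟩ := divisible hn J U s
  refine X.smallEtaleTopology.superset_covering ?_ (X.smallEtaleTopology.top_mem U)
  intro V g _
  exact ⟨J.obj.map g.op t, (map_nsmul (J.obj.map g.op).hom n t).symm.trans (congrArg (J.obj.map g.op) ht)⟩

/-- injective sheaves of `ℤ/n`-modules have no cohomology on étale schemes -/
theorem flabby {n : ℕ} (hn : n ≠ 0) {I : EtCoh.Ab X} (h : InjKilled n I) : BigSiteLib.Flabby I := by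
  obtain ⟨J, _, s, r, hsr⟩ := h.exists_retract
  intro W q hq
  suffices hK : Subsingleton (EtCoh.H W.left ((EtCoh.pull W.hom).obj (kernel (n • 𝟙 J))) q) by
    refine subsingleton_of_forall_eq 0 fun x => ?_
    have hx := (Sheaf.H.map_id_apply (n := q) x).symm
    rw [← (EtCoh.pull W.hom).map_id, ← hsr, Functor.map_comp, Sheaf.H.map_comp_apply] at hx
    rw [hx, @Subsingleton.elim _ hK (Sheaf.H.map ((EtCoh.pull W.hom).map s) q x) 0, map_zero]
  obtain ⟨k, rfl⟩ : ∃ k, q = k + 1 := ⟨q - 1, by omega⟩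
  haveI := epi_nsmul hn J
  let E := ShortComplex.mk (kernel.ι (n • 𝟙 J)) (n • 𝟙 J) (kernel.condition _)
  have hE : E.ShortExact := { exact := ShortComplex.exact_of_f_is_kernel _ (kernelIsKernel _) }
  cases k with
  | zero =>
    refine BigSiteLib.subsingleton_H1_of_surjective hE W (BigSiteLib.flabby_injective J W 1 hq) fun t => ?_
    obtain ⟨t', ht'⟩ := divisible hn J W t
    exact ⟨t', ht'⟩
  | succ k =>
    haveI : AlgebraicGeometry.Etale W.hom := W.prop
    haveI := EtFound.jCont W.hom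
    have hE' : (E.map (EtCoh.pull W.hom)).ShortExact :=
      EtLC12.AffineLocalAcyclic.shortExact_pull (W.hom : W.left ⟶ X) hE
    haveI : Subsingleton (Sheaf.H (E.map (EtCoh.pull W.hom)).X₂ (k + 1)) :=
      BigSiteLib.flabby_injective J W _ (by omega)
    haveI : Subsingleton (Sheaf.H (E.map (EtCoh.pull W.hom)).X₃ (k + 1)) :=
      BigSiteLib.flabby_injective J W _ (by omega)
    haveI : Subsingleton (Sheaf.H (E.map (EtCoh.pull W.hom)).X₂ (k + 1 + 1)) :=
      BigSiteLib.flabby_injective J W _ (by omega)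
    obtain ⟨e⟩ := Adeq2Lib.ZarCmp.shift _ hE' k
    exact e.symm.toEquiv.subsingleton

theorem qcAcyclic {n : ℕ} (hn : n ≠ 0) {I : EtCoh.Ab X} (h : InjKilled n I) : QcAcyclic I :=
  EtBCA.qcAcyclic_of_flabby (h.flabby hn)

theorem subsingleton_H {n : ℕ} (hn : n ≠ 0) {I : EtCoh.Ab X} (h : InjKilled n I) (q : ℕ) :
    Subsingleton (EtCoh.H X I (q + 1)) := by
  have h' := h.flabby hn (EtCoh.top X) (q + 1) q.succ_pos
  exact CdLib.ExtVanish.ext_of_iso ((EtBCA.pullIdIso (X := X)).app I) _ _ h'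

theorem isZero_Rpush {n : ℕ} (hn : n ≠ 0) {I : EtCoh.Ab X} (h : InjKilled n I) (f : X ⟶ Y) [QuasiCompact f]
    [QuasiSeparated f] (q : ℕ) : IsZero ((EtCoh.Rpush f (q + 1)).obj I) :=
  EtBCA.isRightAcyclic_push f (h.qcAcyclic hn) (q + 1) (by omega)

end InjKilled

end Groth.Agent.PBC50
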