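import Groth.Agent.PBC50.AicVanish
import Groth.Agent.PBC50.Germ
import Groth.Agent.S0089

/-!
# Finite constant sheaves on normal schemes with separably closed function field come from the generic point
-/

set_option autoImplicit false
set_option linter.style.haveILetI false

universe u

open CategoryTheory CategoryTheory.Limits AlgebraicGeometry Opposite TopologicalSpace

namespace Groth.Agent.PBC50.NormalConst

set_option backward.isDefEq.respectTransparency.types false

open Groth.Agent.PBC50.AicVanish (FinTop exists_local_lift)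

/-- the morphism of the generic point -/
noncomputable abbrev gen (X : Scheme.{u}) [IrreducibleSpace X] : Spec (CommRingCat.of X.functionField) ⟶ X :=
  X.fromSpecStalk (genericPoint X)

theorem gen_base (X : Scheme.{u}) [IsIntegral X] (w : Spec (CommRingCat.of X.functionField)) :
    (gen X).base w = genericPoint X := by
  have hw : w = IsLocalRing.closedPoint X.functionField := Subsingleton.elim _ _
  rw [hw]
  exact Scheme.fromSpecStalk_closedPoint

theorem nonempty_bc {X : Scheme.{u}} [IsIntegral X] (W : X.Etale) [Nonempty W.left] :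
    Nonempty ((EtCoh.bc (gen X)).obj W).left := by
  haveI : AlgebraicGeometry.Etale (W.hom : W.left ⟶ X) := W.prop
  obtain ⟨y, hy⟩ := ((genericPoint_spec X).mem_open_set_iff (W.hom : W.left ⟶ X).isOpenMap.isOpen_range).2
    ⟨_, Set.mem_univ _, ⟨Classical.arbitrary W.left, rfl⟩⟩
  obtain ⟨z, -, -⟩ := Scheme.Pullback.exists_preimage_pullback (f := W.hom) (g := gen X) y default
    (hy.trans (gen_base X default).symm)
  exact ⟨z⟩

variable {X : Scheme.{u}} [IsIntegral X]

theorem isIso_unit (hN : ∀ x : X, IsIntegrallyClosed (X.presheaf.stalk x)) [IsSepClosed X.functionField]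
    {N : EtCoh.Ab X} (h : FinTop N) : IsIso ((EtCoh.pullPushAdj (gen X)).unit.app N) := by
  classical
  obtain ⟨M, φ, hM, hφ⟩ := h
  let η := gen X
  let G := (EtCoh.pull η).obj N
  let ι : N ⟶ (EtCoh.push η).obj G := (EtCoh.pullPushAdj η).unit.app N
  let sec : ∀ (W : X.Etale), M → N.obj.obj (op W) := fun W m =>
    N.obj.map ((EtCore.topIsTerminal X).from W).op (φ m)
  have hmap : ∀ {W W' : X.Etale} (k : W' ⟶ W) (m : M), N.obj.map k.op (sec W m) = sec W' m := fun k m => by
    show N.obj.map k.op (N.obj.map _ (φ m)) = N.obj.map _ (φ m)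
    rw [← ConcreteCategory.comp_apply, ← Functor.map_comp]
    exact congrArg (fun q => N.obj.map (Quiver.Hom.op q) (φ m)) ((EtCore.topIsTerminal X).hom_ext _ _)
  -- detecting the values at points over the generic point
  have hinj : ∀ (W : X.Etale) [Nonempty W.left] (m : M), ι.hom.app (op W) (sec W m) = 0 → m = 0 := by
    intro W _ m hm
    obtain ⟨w⟩ := nonempty_bc W
    obtain ⟨Ω, _, _, ξ, z, hz⟩ := EtFound.exists_algClosed_point ((EtCoh.bc η).obj W) w
    have h2 := (Scheme.pointSmallEtale ξ).toPresheafFiber_w_apply ((EtCoh.bc η).map ((EtCore.topIsTerminal X).from W)) z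
      G.obj (ι.hom.app (op (EtCoh.top X)) (φ m))
    have h3 : G.obj.map ((EtCoh.bc η).map ((EtCore.topIsTerminal X).from W)).op (ι.hom.app (op (EtCoh.top X)) (φ m)) = 0 := by
      refine Eq.trans ?_ hm
      exact (NatTrans.naturality_apply ι.hom ((EtCore.topIsTerminal X).from W).op (φ m)).symm
    rw [h3, map_zero] at h2
    apply (EtFound.constBy_pull (A := AddCommGrpCat.{u + 1}) η hφ Ω ξ _).1
    rw [map_zero]
    exact (ConcreteCategory.comp_apply _ _ _).trans h2.symm
  haveI : Mono ι := by
    haveI : ∀ V, Mono (ι.hom.app V) := fun V => (AddCommGrpCat.mono_iff_injective _).2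
      ((injective_iff_map_eq_zero (ι.hom.app V).hom).2 fun a ha => by
        refine eq_of_germEq (X := X) (F := N) fun v => ?_
        obtain ⟨Ω, _, _, ξ, z, hz⟩ := EtFound.exists_algClosed_point V.unop v
        let Φ := Scheme.pointSmallEtale ξ
        obtain ⟨m, hm⟩ := (hφ Ω ξ (Φ.fiber.map ((EtCore.topIsTerminal X).from V.unop) z)).2
          (Φ.toPresheafFiber V.unop z N.obj a)
        have hm' : Φ.toPresheafFiber V.unop z N.obj (sec V.unop m) = Φ.toPresheafFiber V.unop z N.obj a := by
          refine Eq.trans ?_ hm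
          exact (Φ.toPresheafFiber_w_apply _ z N.obj (φ m)).trans (ConcreteCategory.comp_apply _ _ _).symm
        obtain ⟨W, k, w, hw, e⟩ := (Φ.toPresheafFiber_eq_iff' (P := N.obj) V.unop z _ _).1 hm'
        rw [hmap] at e
        haveI : Nonempty W.left := ⟨ptOf w⟩
        have hm0 : m = 0 := hinj W m (by
          rw [e, NatTrans.naturality_apply ι.hom k.op a, ha, map_zero])
        refine ⟨W, k, ⟨ptOf w, ?_⟩, ?_⟩
        · rw [← hz]
          subst hw
          rfl
        · rw [← e, hm0, map_zero]
          show N.obj.map _ (φ 0) = 0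
          rw [map_zero, map_zero])
    haveI : Mono ι.hom := NatTrans.mono_of_mono_app _
    exact (sheafToPresheaf _ _).mono_of_mono_map (by assumption)
  haveI : Epi ι := by
    refine (Sheaf.isLocallySurjective_iff_epi' _ ι).1 ⟨fun {U} σ => (EtFound.mem_topology_iff _).2 fun v => ?_⟩
    obtain ⟨A, hA, hvA, -⟩ := exists_isAffineOpen_mem_and_subset (U := (⊤ : U.left.Opens)) (x := v) trivial
    haveI : IsAffine A.toScheme := hA
    haveI : AlgebraicGeometry.Etale (U.hom : U.left ⟶ X) := U.prop
    let hom₀ : U.left ⟶ X := U.hom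
    obtain ⟨O, hO, hvO, -⟩ := exists_isAffineOpen_mem_and_subset (X := X) (U := (⊤ : X.Opens))
      (x := hom₀.base v) trivial
    -- split near `v`
    let g : A.toScheme ⟶ X := A.ι ≫ hom₀
    haveI : QuasiSeparatedSpace A.toScheme := inferInstance
    let B : A.toScheme.Opens := g ⁻¹ᵁ O
    let gB : B.toScheme ⟶ O.toScheme := g ∣_ O
    haveI : IsAffine O.toScheme := hO
    haveI : IsSeparated gB := by
      haveI : IsSeparated (B.ι ≫ terminal.from A.toScheme) := inferInstance
      haveI : IsSeparated (gB ≫ terminal.from O.toScheme) := by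
        rw [Subsingleton.elim (gB ≫ terminal.from O.toScheme) (B.ι ≫ terminal.from A.toScheme)]
        infer_instance
      exact IsSeparated.of_comp gB (terminal.from O.toScheme)
    haveI : Nonempty O.toScheme := ⟨⟨_, hvO⟩⟩
    haveI : IsIntegral O.toScheme := isIntegral_of_isOpenImmersion O.ι
    haveI : IsSepClosed O.toScheme.functionField := Hensel.isSepClosed_of_ringEquiv
      ((asIso (O.ι.stalkMap (genericPoint O.toScheme))).symm ≪≫
        X.presheaf.stalkCongr (.of_eq (genericPoint_eq_of_isOpenImmersion O.ι))).commRingCatIsoToRingEquiv.symm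
    have hN' : ∀ x : O.toScheme, IsIntegrallyClosed (O.toScheme.presheaf.stalk x) := fun x => by
      haveI := hN (O.ι x)
      exact IsIntegrallyClosed.of_equiv (asIso (O.ι.stalkMap x)).commRingCatIsoToRingEquiv
    obtain ⟨κ, V, e, he⟩ := S0089.result hN' gB
    obtain ⟨l, w, hw⟩ := (sigmaOpenCover fun l => (V l : Scheme.{u})).exists_eq (e.inv.base ⟨⟨v, hvA⟩, hvO⟩)
    let σm : (V l : Scheme.{u}) ⟶ U.left :=
      ((Sigma.ι (fun l => (V l : Scheme.{u})) l ≫ e.hom) ≫ B.ι) ≫ A.ι
    let j : (V l : Scheme.{u}) ⟶ X := (V l).ι ≫ O.ι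
    have hσm : σm ≫ U.hom = j := by
      have h1 : gB ≫ O.ι = B.ι ≫ g := morphismRestrict_ι g O
      simp only [σm, j, Category.assoc]
      rw [← he l]
      simp only [Category.assoc]
      rw [h1]
    let U' : X.Etale := Scheme.Etale.mk j
    let k : U' ⟶ U := MorphismProperty.Over.homMk σm hσm
    refine ⟨U', k, w, ?_, ?_⟩
    swap
    · show σm.base w = v
      have h1 : (Sigma.ι (fun l => (V l : Scheme.{u})) l ≫ e.hom).base w = (⟨⟨v, hvA⟩, hvO⟩ : B.toScheme) := by
        rw [Scheme.Hom.comp_apply]
        refine (congrArg e.hom.base hw).trans ?_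
        rw [← Scheme.Hom.comp_apply, e.inv_hom_id]
        rfl
      simp only [σm, Scheme.Hom.comp_apply] at h1 ⊢
      rw [h1]
      rfl
    -- over the generic point this piece is a point
    haveI : Nonempty U'.left := ⟨w⟩
    obtain ⟨b⟩ := nonempty_bc U'
    haveI : IsOpenImmersion (pullback.snd j η) := inferInstance
    haveI : Surjective (pullback.snd j η) := ⟨fun q => ⟨b, Subsingleton.elim (α := Spec (CommRingCat.of X.functionField)) _ _⟩⟩
    haveI : IsIso (pullback.snd j η) := (isIso_iff_isOpenImmersion_and_surjective _).2 ⟨inferInstance, inferInstance⟩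
    let T := EtCoh.top (Spec (CommRingCat.of X.functionField))
    let eI : pullback j η ≅ Spec (CommRingCat.of X.functionField) := asIso (pullback.snd j η)
    let ε : T ⟶ (EtCoh.bc η).obj U' := MorphismProperty.Over.homMk eI.inv eI.inv_hom_id
    let σ' : G.obj.obj (op T) := G.obj.map ε.op (G.obj.map ((EtCoh.bc η).map k).op σ)
    obtain ⟨Ω, _, _, ξ, z, -⟩ := EtFound.exists_algClosed_point T (default : Spec (CommRingCat.of X.functionField))
    let Φ := Scheme.pointSmallEtale ξ
    let r : T ⟶ (EtCoh.bc η).obj (EtCoh.top X) := ε ≫ (EtCoh.bc η).map ((EtCore.topIsTerminal X).from U')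
    obtain ⟨m, hm⟩ := (EtFound.constBy_pull (A := AddCommGrpCat.{u + 1}) η hφ Ω ξ (Φ.fiber.map r z)).2
      (Φ.toPresheafFiber T z G.obj σ')
    have hm' : Φ.toPresheafFiber T z G.obj (G.obj.map r.op (ι.hom.app (op (EtCoh.top X)) (φ m))) =
        Φ.toPresheafFiber T z G.obj σ' := by
      refine Eq.trans ?_ hm
      exact (Φ.toPresheafFiber_w_apply r z G.obj _).trans (ConcreteCategory.comp_apply _ _ _).symm
    obtain ⟨W, f, q, -, hf⟩ := (Φ.toPresheafFiber_eq_iff' (P := G.obj) T z _ _).1 hm'
    obtain ⟨s, hs⟩ : ∃ s : T ⟶ W, s ≫ f = 𝟙 T := by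
      haveI : AlgebraicGeometry.Etale (W.hom : W.left ⟶ Spec (CommRingCat.of X.functionField)) := W.prop
      obtain ⟨l, hl, -⟩ := Scheme.exists_fac_of_etale_of_isSepClosed
        (W.hom : W.left ⟶ Spec (CommRingCat.of X.functionField)) (𝟙 _) (ptOf q) (Subsingleton.elim (α := Spec (CommRingCat.of X.functionField)) _ _)
      exact ⟨MorphismProperty.Over.homMk l hl, (EtCore.topIsTerminal _).hom_ext _ _⟩
    have heq : G.obj.map r.op (ι.hom.app (op (EtCoh.top X)) (φ m)) = σ' := by
      have h1 := congrArg (G.obj.map s.op) hf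
      have h2 : ∀ x : G.obj.obj (op T), G.obj.map s.op (G.obj.map f.op x) = x := fun x => by
        rw [mapMap, hs]
        exact ConcreteCategory.congr_hom (G.obj.map_id (op T)) x
      exact (h2 _).symm.trans (h1.trans (h2 _))
    haveI : IsIso ε := by
      haveI : IsIso ε.left := inferInstanceAs (IsIso eI.inv)
      haveI : IsIso ((Scheme.Etale.forget _ ⋙ Over.forget _).map ε) := inferInstanceAs (IsIso ε.left)
      exact isIso_of_reflects_iso _ (Scheme.Etale.forget _ ⋙ Over.forget _)
    refine ⟨sec U' m, ?_⟩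
    show ι.hom.app (op U') (N.obj.map _ (φ m)) = G.obj.map ((EtCoh.bc η).map k).op σ
    rw [NatTrans.naturality_apply ι.hom]
    apply ((ConcreteCategory.isIso_iff_bijective (G.obj.map ε.op)).1 inferInstance).1
    refine Eq.trans ?_ heq
    show G.obj.map ε.op (G.obj.map _ _) = _
    rw [← ConcreteCategory.comp_apply, ← Functor.map_comp]
    rfl
  exact isIso_of_mono_of_epi ι

end Groth.Agent.PBC50.NormalConst
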