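import Groth.Agent.EtLimCore.PullSys
import Groth.Agent.EtLimCore.PullThen
import Groth.Agent.EtBCA.Hpull
import Groth.Agent.EtBCA.PullId
import Groth.Agent.EtBCA.Descent
import Groth.Agent.EtFound.PullStalk

/-!
# Restriction of cohomology classes of the inverse images of a sheaf
-/

set_option autoImplicit false
set_option linter.style.haveILetI false
set_option maxHeartbeats 800000

universe u

open CategoryTheory CategoryTheory.Limits AlgebraicGeometry Opposite

namespace Groth.Agent.PBC50.ResMap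

set_option backward.isDefEq.respectTransparency false
set_option backward.isDefEq.respectTransparency.types false

open Groth.Agent.EtLimCore (pullVia split split_app transpose ext_of_unit unit_pullVia)

variable {A B C Z : Scheme.{u}}

/-- the comparison of iterated base changes -/
noncomputable def canVia (k : A ⟶ B) (t : B ⟶ Z) {f : A ⟶ Z} (h : k ≫ t = f) (W : Z.Etale) :
    (EtCoh.bc k).obj ((EtCoh.bc t).obj W) ⟶ (EtCoh.bc f).obj W :=
  MorphismProperty.Over.homMk
    (pullback.lift (pullback.fst ((EtCoh.bc t).obj W).hom k ≫ pullback.fst W.hom t)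
      (pullback.snd ((EtCoh.bc t).obj W).hom k)
      (((Category.assoc _ _ _).trans (congrArg (_ ≫ ·) pullback.condition)).trans
        ((Category.assoc _ _ _).symm.trans ((congrArg (· ≫ t) (pullback.condition
          (f := ((EtCoh.bc t).obj W).hom) (g := k))).trans
          ((Category.assoc _ _ _).trans (congrArg (_ ≫ ·) h))))))
    (pullback.lift_snd _ _ _)

theorem canVia_fst (k : A ⟶ B) (t : B ⟶ Z) {f : A ⟶ Z} (h : k ≫ t = f) (W : Z.Etale) :
    (canVia k t h W).left ≫ pullback.fst W.hom f =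
      pullback.fst ((EtCoh.bc t).obj W).hom k ≫ pullback.fst W.hom t :=
  pullback.lift_fst _ _ _

variable (k : A ⟶ B) (m : B ⟶ C) (t : C ⟶ Z) {j : A ⟶ C} (hj : k ≫ m = j) {tB : B ⟶ Z} (hB : m ≫ t = tB)
  {tA : A ⟶ Z} (hA : k ≫ tB = tA) (hA' : j ≫ t = tA)

/-- the comparisons of inverse images are associative -/
theorem pullVia_assoc (G : EtCoh.Ab Z) :
    (EtCore.pullCongr hj.symm).hom.app _ ≫ (EtCore.pullComp k m).hom.app _ ≫
        (EtCoh.pull k).map (pullVia m t hB G) ≫ pullVia k tB hA G = pullVia j t hA' G := by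
  refine ((EtCoh.pullPushAdj j).homEquiv _ _).injective ?_
  haveI : IsIso ((split k m hj).app ((EtCoh.pull tA).obj G)) := by
    unfold split; infer_instance
  rw [← cancel_mono ((split k m hj).app ((EtCoh.pull tA).obj G))]
  refine (transpose k m hj (pullVia m t hB G) (pullVia k tB hA G)).trans ?_
  refine Sheaf.hom_ext (J := C.smallEtaleTopology) ?_
  refine congrArg (fun φ => φ.hom) (?_ : _ = ((EtCoh.pullPushAdj j).homEquiv _ _ (pullVia j t hA' G) ≫
    (split k m hj).app ((EtCoh.pull tA).obj G)))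
  refine ext_of_unit t _ _ fun W => ?_
  have hR : ((EtCoh.pullPushAdj j).homEquiv _ _ (pullVia j t hA' G) ≫
      (split k m hj).app ((EtCoh.pull tA).obj G)).hom.app (op ((EtCoh.bc t).obj W)) =
      ((EtCoh.pullPushAdj j).homEquiv _ _ (pullVia j t hA' G)).hom.app (op ((EtCoh.bc t).obj W)) ≫
        ((EtCoh.pull tA).obj G).obj.map (canVia k m hj ((EtCoh.bc t).obj W)).op :=
    congrArg (_ ≫ ·) (split_app k m hj _ _ _ (canVia_fst k m hj ((EtCoh.bc t).obj W)))
  rw [hR]
  refine Eq.trans ?_ (Category.assoc _ _ _)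
  refine Eq.trans ?_ (congrArg (· ≫ _) (unit_pullVia j t hA' G W (canVia j t hA' W) (canVia_fst j t hA' W)).symm)
  show _ ≫ ((EtCoh.pullPushAdj m).homEquiv _ _ (pullVia m t hB G)).hom.app _ ≫
    ((EtCoh.pullPushAdj k).homEquiv _ _ (pullVia k tB hA G)).hom.app (op ((EtCoh.bc m).obj ((EtCoh.bc t).obj W))) = _
  refine (Category.assoc _ _ _).symm.trans
    ((congrArg (· ≫ _) (unit_pullVia m t hB G W (canVia m t hB W) (canVia_fst m t hB W))).trans ?_)
  refine (Category.assoc _ _ _).trans ((congrArg (_ ≫ ·)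
    (((EtCoh.pullPushAdj k).homEquiv _ _ (pullVia k tB hA G)).hom.naturality (canVia m t hB W).op)).trans ?_)
  refine (Category.assoc _ _ _).symm.trans
    ((congrArg (· ≫ _) (unit_pullVia k tB hA G W (canVia k tB hA W) (canVia_fst k tB hA W))).trans ?_)
  refine (Category.assoc _ _ _).trans (Eq.trans (congrArg (_ ≫ ·) ?_) (Category.assoc _ _ _).symm)
  show ((EtCoh.pull tA).obj G).obj.map _ ≫ ((EtCoh.pull tA).obj G).obj.map ((EtCoh.bc k).map (canVia m t hB W)).op =
    ((EtCoh.pull tA).obj G).obj.map _ ≫ ((EtCoh.pull tA).obj G).obj.map _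
  rw [← Functor.map_comp, ← Functor.map_comp]
  refine congrArg ((EtCoh.pull tA).obj G).obj.map (Quiver.Hom.unop_inj (MorphismProperty.Over.Hom.ext ?_))
  apply pullback.hom_ext (f := W.hom) (g := tA)
  · show (((EtCoh.bc k).map (canVia m t hB W)).left ≫ (canVia k tB hA W).left) ≫ pullback.fst W.hom tA =
      ((canVia k m hj ((EtCoh.bc t).obj W)).left ≫ (canVia j t hA' W).left) ≫ pullback.fst W.hom tA
    refine ((Category.assoc _ _ _).trans (congrArg (_ ≫ ·) (canVia_fst k tB hA W))).trans (Eq.symm ?_)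
    refine ((Category.assoc _ _ _).trans (congrArg (_ ≫ ·) (canVia_fst j t hA' W))).trans ?_
    refine (Category.assoc _ _ _).symm.trans
      ((congrArg (· ≫ _) (canVia_fst k m hj ((EtCoh.bc t).obj W))).trans (Eq.symm ?_))
    refine (Category.assoc _ _ _).symm.trans ((congrArg (· ≫ _)
      (EtCoh.isPullback_bc_map k (canVia m t hB W)).w).trans ?_)
    exact ((Category.assoc _ _ _).trans (congrArg (_ ≫ ·) (canVia_fst m t hB W))).trans (Category.assoc _ _ _).symm
  · exact (MorphismProperty.Over.w ((EtCoh.bc k).map (canVia m t hB W) ≫ canVia k tB hA W)).trans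
      (MorphismProperty.Over.w (canVia k m hj ((EtCoh.bc t).obj W) ≫ canVia j t hA' W)).symm

variable [PreservesFiniteLimits (EtCoh.pull k)] [PreservesFiniteLimits (EtCoh.pull m)]
  [PreservesFiniteLimits (EtCoh.pull j)]

include hj in
/-- restrictions compose -/
theorem HpullVia_comp (G : EtCoh.Ab Z) (n : ℕ) (y : EtCoh.H C ((EtCoh.pull t).obj G) n) :
    EtCore.HpullVia k tB tA hA G n (EtCore.HpullVia m t tB hB G n y) = EtCore.HpullVia j t tA hA' G n y := by
  subst hj
  have e0 : pullVia (k ≫ m) t hA' G = (EtCore.pullComp k m).hom.app ((EtCoh.pull t).obj G) ≫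
      (EtCoh.pull k).map (pullVia m t hB G) ≫ pullVia k tB hA G := by
    have h1 : ∀ F, (EtCore.pullCongr (rfl : k ≫ m = k ≫ m)).hom.app F = 𝟙 _ := fun F => rfl
    refine (pullVia_assoc k m t rfl hB hA hA' G).symm.trans ?_
    exact (congrArg (· ≫ _) (h1 _)).trans (Category.id_comp _)
  let z := EtCore.Hpull (k ≫ m) ((EtCoh.pull t).obj G) n y
  have d1 : EtCore.HpullVia (k ≫ m) t tA hA' G n y = (EtCoh.HF A n).map (pullVia (k ≫ m) t hA' G) z :=
    EtBCA.HpullVia_def (k ≫ m) t tA hA' G n y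
  have d2 : EtCore.HpullVia k tB tA hA G n (EtCore.HpullVia m t tB hB G n y) =
      (EtCoh.HF A n).map (pullVia k tB hA G) (EtCore.Hpull k _ n (EtCore.HpullVia m t tB hB G n y)) :=
    EtBCA.HpullVia_def k tB tA hA G n _
  have d3 : EtCore.HpullVia m t tB hB G n y = (EtCoh.HF B n).map (pullVia m t hB G) (EtCore.Hpull m _ n y) :=
    EtBCA.HpullVia_def m t tB hB G n y
  have d4 := EtBCA.Hpull_natural k (pullVia m t hB G) n (EtCore.Hpull m ((EtCoh.pull t).obj G) n y)
  have d5 : EtCore.Hpull k _ n (EtCore.Hpull m ((EtCoh.pull t).obj G) n y) =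
      (EtCoh.HF A n).map ((EtCore.pullComp k m).hom.app ((EtCoh.pull t).obj G)) z :=
    (EtBCA.Hpull_comp k m _ n y).symm
  rw [d1, d2, d3, e0]
  refine ((congrArg (fun w => (EtCoh.HF A n).map (pullVia k tB hA G) w) d4).trans
    (congrArg (fun w => (EtCoh.HF A n).map (pullVia k tB hA G)
      ((EtCoh.HF A n).map ((EtCoh.pull k).map (pullVia m t hB G)) w)) d5)).trans ?_
  exact EtBCA.HF_map3 n _ _ _ z

theorem mapExactFunctor_id {C : Type*} [Category* C] [Abelian C] [HasExt C] [EnoughInjectives C] {X Y : C} {n : ℕ}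
    (α : Abelian.Ext X Y n) : α.mapExactFunctor (𝟭 C) = α := by
  induction α using EtMVLib.ext_induction with
  | h0 A B f => rw [Abelian.Ext.mapExactFunctor_mk₀]; rfl
  | hs A hS x ih =>
    rw [Abelian.Ext.mapExactFunctor_comp, ih, Abelian.Ext.mapExactFunctor_extClass]

/-- restriction along the identity -/
theorem Hpull_id_bijective {X : Scheme.{u}} (G : EtCoh.Ab X) (n : ℕ) [PreservesFiniteLimits (EtCoh.pull (𝟙 X))] :
    Function.Bijective (EtCore.Hpull (𝟙 X) G n) := by
  let e := EtBCA.pullIdIso (X := X)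
  let c : EtCoh.const X ℤ ≅ EtCoh.const X ℤ := (EtCore.pullConst (𝟙 X) ℤ).symm ≪≫ e.app _
  have key : ∀ x : EtCoh.H X G n, EtCore.Hpull (𝟙 X) G n x =
      (Abelian.Ext.mk₀ c.hom).comp (x.comp (Abelian.Ext.mk₀ (e.inv.app G)) (add_zero n)) (zero_add n) := fun x => by
    have h := EtMVLib.mapExactFunctor_natTrans (EtCoh.pull (𝟙 X)) (𝟭 (EtCoh.Ab X)) e.hom x
    rw [mapExactFunctor_id] at h
    rw [EtMVLib.Hpull_apply, show c.hom = (EtCore.pullConst (𝟙 X) ℤ).inv ≫ e.hom.app _ from rfl,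
      ← Abelian.Ext.mk₀_comp_mk₀]
    simp only [Abelian.Ext.comp_assoc_of_second_deg_zero]
    rw [← Abelian.Ext.comp_assoc_of_third_deg_zero (Abelian.Ext.mk₀ (e.hom.app _)), ← h,
      Abelian.Ext.comp_assoc_of_third_deg_zero, Abelian.Ext.mk₀_comp_mk₀, ← NatTrans.comp_app, e.hom_inv_id,
      NatTrans.id_app, Abelian.Ext.comp_mk₀_id]
  refine Function.bijective_iff_has_inverse.2 ⟨fun y =>
    (Abelian.Ext.mk₀ c.inv).comp (y.comp (Abelian.Ext.mk₀ (e.hom.app G)) (add_zero n)) (zero_add n),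
    fun x => ?_, fun y => ?_⟩
  · simp only [key, Abelian.Ext.comp_assoc_of_third_deg_zero, Abelian.Ext.mk₀_comp_mk₀_assoc,
      Abelian.Ext.mk₀_comp_mk₀, Iso.inv_hom_id, Iso.inv_hom_id_app, Abelian.Ext.mk₀_id_comp]
    exact Abelian.Ext.comp_mk₀_id x
  · simp only [key, Abelian.Ext.comp_assoc_of_third_deg_zero, Abelian.Ext.mk₀_comp_mk₀_assoc,
      Abelian.Ext.mk₀_comp_mk₀, Iso.hom_inv_id, Iso.hom_inv_id_app,
      Abelian.Ext.mk₀_id_comp, Abelian.Ext.comp_mk₀_id]

end Groth.Agent.PBC50.ResMap
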