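import Groth.Agent.PBC50.Topo
import Groth.Agent.ShSpLib.Embedding
import Mathlib.Topology.Sheaves.SheafCondition.UniqueGluing

/-!
# The sections criterion forces connectedness
-/

set_option autoImplicit false

set_option linter.style.haveILetI false

universe u

open CategoryTheory CategoryTheory.Limits TopologicalSpace Opposite Topology

namespace Groth.Agent.PBC50

set_option backward.isDefEq.respectTransparency.types false

variable {X : TopCat.{u}}

theorem bijective_stalk_unit (Z : Set X) (hZ : IsClosed Z) (F : TopCat.Sheaf (Type u) X) {z : X} (hz : z ∈ Z) :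
    Function.Bijective ((TopCat.Presheaf.stalkFunctor (Type u) z).map
      ((TopCat.Sheaf.pullbackPushforwardAdjunction (Type u)
        (TopCat.ofHom ⟨(Subtype.val : Z → X), continuous_subtype_val⟩)).unit.app F).hom) := by
  let i : TopCat.of Z ⟶ X := TopCat.ofHom ⟨(Subtype.val : Z → X), continuous_subtype_val⟩
  have hi : IsClosedEmbedding i := hZ.isClosedEmbedding_subtypeVal
  let adj := TopCat.Sheaf.pullbackPushforwardAdjunction (Type u) i
  have : IsIso ((TopCat.Sheaf.pullback (Type u) i).map (adj.unit.app F)) := by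
    have hc : IsIso (adj.counit.app ((TopCat.Sheaf.pullback (Type u) i).obj F)) :=
      ShSpLib.isIso_counit hi.isInducing _
    have : IsIso ((TopCat.Sheaf.pullback (Type u) i).map (adj.unit.app F) ≫
        adj.counit.app ((TopCat.Sheaf.pullback (Type u) i).obj F)) := by
      rw [adj.left_triangle_components F]; exact IsIso.id _
    exact IsIso.of_isIso_comp_right _ (adj.counit.app ((TopCat.Sheaf.pullback (Type u) i).obj F))
  exact (isIso_iff_bijective _).1 ((NatIso.isIso_map_iff (ShSpLib.pullbackStalkIso i ⟨z, hz⟩) (adj.unit.app F)).1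
    ((TopCat.Sheaf.forget (Type u) (TopCat.of Z) ⋙ TopCat.Presheaf.stalkFunctor (Type u) (⟨z, hz⟩ : Z)).map_isIso
      ((TopCat.Sheaf.pullback (Type u) i).map (adj.unit.app F))))

open scoped Classical in
/-- The criterion on sections implies that `Z` meets closures of points in connected sets. -/
theorem connIn_of_bijective (Z : Set X) (hZ : IsClosed Z)
    (h : ∀ F : TopCat.Sheaf (Type u) X, Function.Bijective
      (((TopCat.Sheaf.pullbackPushforwardAdjunction (Type u)
        (TopCat.ofHom ⟨(Subtype.val : Z → X), continuous_subtype_val⟩)).unit.app F).hom.app (op ⊤))) :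
    ConnIn Z := by
  intro x
  let F : TopCat.Sheaf (Type u) X := skyscraperSheaf x (ULift.{u} Bool)
  let i : TopCat.of Z ⟶ X := TopCat.ofHom ⟨(Subtype.val : Z → X), continuous_subtype_val⟩
  have hi : IsClosedEmbedding i := hZ.isClosedEmbedding_subtypeVal
  let adj := TopCat.Sheaf.pullbackPushforwardAdjunction (Type u) i
  let H := (TopCat.Sheaf.pushforward (Type u) i).obj ((TopCat.Sheaf.pullback (Type u) i).obj F)
  let η : F ⟶ H := adj.unit.app F
  have hout : ∀ y, y ∉ Z ∩ closure {x} → Subsingleton (H.presheaf.stalk y) := by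
    intro y hy
    by_cases hyZ : y ∈ Z
    · have hns : ¬ x ⤳ y := fun hs => hy ⟨hyZ, hs.mem_closure⟩
      haveI hu : Subsingleton (F.presheaf.stalk y) := @Unique.instSubsingleton _
        (Types.isTerminalEquivUnique _ (skyscraperPresheafStalkOfNotSpecializesIsTerminal x (ULift.{u} Bool) hns))
      exact @Function.Surjective.subsingleton _ _ _ hu (bijective_stalk_unit Z hZ F hyZ).2
    · obtain ⟨u₀⟩ := ShSpLib.nonempty_unique_stalk_pushforward hi ((TopCat.Sheaf.pullback (Type u) i).obj F) y
        (by show y ∉ Set.range (Subtype.val : Z → X); rwa [Subtype.range_coe])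
      exact @Unique.instSubsingleton _ u₀
  have hx : x ∈ (⊤ : Opens X) := trivial
  let tt : F.1.obj (op ⊤) := (eqToHom (if_pos hx).symm : ULift.{u} Bool ⟶ F.1.obj (op ⊤)) ⟨true⟩
  let ff : F.1.obj (op ⊤) := (eqToHom (if_pos hx).symm : ULift.{u} Bool ⟶ F.1.obj (op ⊤)) ⟨false⟩
  have htf : tt ≠ ff := fun e => by
    have := congrArg (eqToHom (if_pos hx) : F.1.obj (op ⊤) ⟶ ULift.{u} Bool) e
    simp [tt, ff, ← ConcreteCategory.comp_apply] at this
  have hgerm : ∀ y, x ⤳ y → ∀ c d : F.1.obj (op ⊤),
      F.presheaf.germ ⊤ y trivial c = F.presheaf.germ ⊤ y trivial d → c = d := by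
    intro y hy c d e
    have := congrArg (skyscraperPresheafStalkOfSpecializes x (ULift.{u} Bool) hy).hom e
    erw [← ConcreteCategory.comp_apply, ← ConcreteCategory.comp_apply,
      germ_skyscraperPresheafStalkOfSpecializes_hom] at this
    exact (eqToIso (if_pos (hy.mem_open (⊤ : Opens X).2 trivial))).toEquiv.injective this
  have hnat : ∀ (W : Opens X) (z : X) (hz : z ∈ W) (a : F.1.obj (op W)),
      (TopCat.Presheaf.stalkFunctor (Type u) z).map η.hom (F.presheaf.germ W z hz a) =
        H.presheaf.germ W z hz (η.hom.app (op W) a) :=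
    fun W z hz a => TopCat.Presheaf.stalkFunctor_map_germ_apply W z hz η.hom a
  refine ⟨?_, isPreconnected_closed_iff.2 fun A B hA hB hsub hAne hBne => ?_⟩
  · by_contra hne
    rw [Set.not_nonempty_iff_eq_empty] at hne
    refine htf ((h F).1 (TopCat.Presheaf.section_ext H ⊤ _ _ fun y _ => ?_))
    haveI := hout y (by rw [hne]; exact id)
    exact Subsingleton.elim _ _
  by_contra hne
  rw [Set.not_nonempty_iff_eq_empty] at hne
  let A' : Set X := Z ∩ closure {x} ∩ A
  let B' : Set X := Z ∩ closure {x} ∩ B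
  let UA : Opens X := ⟨B'ᶜ, ((hZ.inter isClosed_closure).inter hB).isOpen_compl⟩
  let UB : Opens X := ⟨A'ᶜ, ((hZ.inter isClosed_closure).inter hA).isOpen_compl⟩
  have hcov : (⊤ : Opens X) ≤ UA ⊔ UB := fun y _ => by
    by_cases hy : y ∈ B'
    · exact Or.inr fun hy' => Set.eq_empty_iff_forall_notMem.1 hne y ⟨hy.1, hy'.2, hy.2⟩
    · exact Or.inl hy
  let sA : H.1.obj (op UA) := H.1.map (homOfLE le_top).op (η.hom.app (op ⊤) tt)
  let sB : H.1.obj (op UB) := H.1.map (homOfLE le_top).op (η.hom.app (op ⊤) ff)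
  let U : Bool → Opens X := fun b => cond b UA UB
  let sf : ∀ b, H.1.obj (op (U b)) := fun b => match b with
    | true => sA
    | false => sB
  have hagree : ∀ y (hA' : y ∈ UA) (hB' : y ∈ UB),
      H.presheaf.germ UA y hA' sA = H.presheaf.germ UB y hB' sB := by
    intro y hA' hB'
    haveI := hout y fun hy => (hsub hy).elim (fun h => hB' ⟨hy, h⟩) fun h => hA' ⟨hy, h⟩
    exact Subsingleton.elim _ _
  obtain ⟨s, hs, -⟩ := H.existsUnique_gluing' U ⊤ (fun _ => homOfLE le_top)
    (fun y hy => Opens.mem_iSup.2 ((hcov hy).elim (fun h => ⟨true, h⟩) fun h => ⟨false, h⟩)) sf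
    (fun b b' => TopCat.Presheaf.section_ext H _ _ _ fun y hy => by
      show H.presheaf.germ _ y hy (H.presheaf.map _ _) = H.presheaf.germ _ y hy (H.presheaf.map _ _)
      erw [TopCat.Presheaf.germ_res_apply, TopCat.Presheaf.germ_res_apply]
      cases b <;> cases b'
      · rfl
      · exact (hagree y hy.2 hy.1).symm
      · exact hagree y hy.1 hy.2
      · rfl)
  obtain ⟨c, hc⟩ := (h F).2 s
  have key : ∀ (b : Bool) (d : F.1.obj (op ⊤)), sf b = H.1.map (homOfLE le_top).op (η.hom.app (op ⊤) d) →
      ∀ y ∈ U b, y ∈ Z → x ⤳ y → c = d := by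
    intro b d hd y hy hyZ hxy
    refine hgerm y hxy c d ((bijective_stalk_unit Z hZ F hyZ).1 ?_)
    rw [hnat, hnat, hc, ← TopCat.Presheaf.germ_res_apply H.presheaf (homOfLE le_top) y hy s,
      ← TopCat.Presheaf.germ_res_apply H.presheaf (homOfLE le_top) y hy (η.hom.app (op ⊤) d)]
    exact congrArg _ ((hs b).trans hd)
  obtain ⟨a, ha, haA⟩ := hAne
  obtain ⟨b, hb, hbB⟩ := hBne
  refine htf ((key true tt rfl a ?_ ha.1 (specializes_iff_mem_closure.2 ha.2)).symm.trans
    (key false ff rfl b ?_ hb.1 (specializes_iff_mem_closure.2 hb.2)))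
  · exact fun h' => Set.eq_empty_iff_forall_notMem.1 hne a ⟨ha, haA, h'.2⟩
  · exact fun h' => Set.eq_empty_iff_forall_notMem.1 hne b ⟨hb, h'.2, hbB⟩

end Groth.Agent.PBC50
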