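import Groth.Agent.PBC50.Topo
import Groth.Agent.ShSpLib.Embedding
import Mathlib.Topology.Spectral.Basic
import Mathlib.Topology.LocallyConstant.Basic
import Mathlib.Topology.Sheaves.SheafCondition.UniqueGluing

/-!
# Sections over a closed subset of a spectral space meeting closures of points in connected sets
-/

set_option autoImplicit false

set_option linter.style.haveILetI false

universe u

open CategoryTheory CategoryTheory.Limits TopologicalSpace Opposite Topology

namespace Groth.Agent.PBC50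

set_option backward.isDefEq.respectTransparency.types false

variable {X : TopCat.{u}}

variable (F H : TopCat.Sheaf (Type u) X) (η : F ⟶ H)

theorem germ_eq_of_specializes {x z : X} (h : x ⤳ z) (W W' : Opens X) (hz : z ∈ W) (hz' : z ∈ W')
    (a : F.1.obj (op W)) (b : F.1.obj (op W')) (e : F.presheaf.germ W z hz a = F.presheaf.germ W' z hz' b) :
    F.presheaf.germ W x (h.mem_open W.isOpen hz) a = F.presheaf.germ W' x (h.mem_open W'.isOpen hz') b := by
  have := congrArg (F.presheaf.stalkSpecializes h) e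
  erw [TopCat.Presheaf.germ_stalkSpecializes_apply, TopCat.Presheaf.germ_stalkSpecializes_apply] at this
  exact this

theorem bijective_app_top_of_connected [SpectralSpace X] (Z : Set X) (hZ : IsClosed Z)
    (hconn : ∀ x : X, _root_.IsConnected (Z ∩ closure {x}))
    (hbij : ∀ z ∈ Z, Function.Bijective ((TopCat.Presheaf.stalkFunctor (Type u) z).map η.hom))
    (hdet : ∀ s t : H.1.obj (op ⊤), (∀ z ∈ Z, H.presheaf.germ ⊤ z trivial s = H.presheaf.germ ⊤ z trivial t) → s = t) :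
    Function.Bijective (η.hom.app (op ⊤)) := by
  classical
  have hspec : ∀ x, ∃ z ∈ Z, x ⤳ z := fun x => by
    obtain ⟨z, hz, hzx⟩ := (hconn x).nonempty
    exact ⟨z, hz, specializes_iff_mem_closure.2 hzx⟩
  have hnat : ∀ (W : Opens X) (z : X) (hz : z ∈ W) (a : F.1.obj (op W)),
      (TopCat.Presheaf.stalkFunctor (Type u) z).map η.hom (F.presheaf.germ W z hz a) =
        H.presheaf.germ W z hz (η.hom.app (op W) a) :=
    fun W z hz a => TopCat.Presheaf.stalkFunctor_map_germ_apply W z hz η.hom a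
  refine ⟨fun s t hst => TopCat.Presheaf.section_ext F ⊤ s t fun x _ => ?_, fun σ => ?_⟩
  · obtain ⟨z, hz, hxz⟩ := hspec x
    refine germ_eq_of_specializes F hxz ⊤ ⊤ trivial trivial s t ((hbij z hz).1 ?_)
    rw [hnat, hnat, hst]
  let Good : ∀ W : Opens X, F.1.obj (op W) → Prop := fun W a => ∀ z (hzW : z ∈ W), z ∈ Z →
    H.presheaf.germ W z hzW (η.hom.app (op W) a) = H.presheaf.germ ⊤ z trivial σ
  have hgood_exists : ∀ z ∈ Z, ∃ (W : Opens X) (_ : z ∈ W) (a : F.1.obj (op W)),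
      IsCompact (W : Set X) ∧ Good W a := by
    intro z hz
    obtain ⟨c, hc⟩ := (hbij z hz).2 (H.presheaf.germ ⊤ z trivial σ)
    obtain ⟨U, hzU, a₀, rfl⟩ := TopCat.Presheaf.exists_germ_eq F.presheaf c
    rw [hnat] at hc
    obtain ⟨W', hzW', iU, it, heq⟩ := TopCat.Presheaf.germ_eq H.presheaf z hzU (show z ∈ (⊤ : Opens X) from trivial) _ σ hc
    obtain ⟨W, hWb, hzW, hWsub⟩ := PrespectralSpace.isTopologicalBasis.exists_subset_of_mem_open
      (show z ∈ (W' : Set X) from hzW') W'.isOpen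
    let Wo : Opens X := ⟨W, hWb.1⟩
    let i : Wo ⟶ W' := homOfLE hWsub
    refine ⟨Wo, hzW, F.1.map (i ≫ iU).op a₀, hWb.2, fun z' hz' _ => ?_⟩
    have h1 : η.hom.app (op Wo) (F.1.map (i ≫ iU).op a₀) = H.1.map (i ≫ iU).op (η.hom.app (op U) a₀) :=
      NatTrans.naturality_apply η.hom (i ≫ iU).op a₀
    rw [h1]
    show H.presheaf.germ Wo z' hz' (H.presheaf.map (i ≫ iU).op (η.hom.app (op U) a₀)) = _
    erw [TopCat.Presheaf.germ_res_apply, ← TopCat.Presheaf.germ_res_apply H.presheaf iU z' (hWsub hz'),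
      heq, TopCat.Presheaf.germ_res_apply]
  have hindep : ∀ z ∈ Z, ∀ (W W' : Opens X) (hz : z ∈ W) (hz' : z ∈ W') (a : F.1.obj (op W))
      (b : F.1.obj (op W')), Good W a → Good W' b → ∀ x (h : x ⤳ z),
      F.presheaf.germ W x (h.mem_open W.isOpen hz) a = F.presheaf.germ W' x (h.mem_open W'.isOpen hz') b := by
    intro z hzZ W W' hz hz' a b ha hb x h
    refine germ_eq_of_specializes F h W W' hz hz' a b ((hbij z hzZ).1 ?_)
    rw [hnat, hnat, ha z hz hzZ, hb z hz' hzZ]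
  choose! Wc hWc ac hWk hgood using hgood_exists
  let val : ∀ x z, z ∈ Z → x ⤳ z → F.presheaf.stalk x := fun x z hz h =>
    F.presheaf.germ (Wc z) x (h.mem_open (Wc z).isOpen (hWc z hz)) (ac z hz)
  have hconst : ∀ x z z' (hz : z ∈ Z) (hz' : z' ∈ Z) (h : x ⤳ z) (h' : x ⤳ z'), val x z hz h = val x z' hz' h' := by
    intro x z z' hz hz' h h'
    let g : ↥(Z ∩ closure {x}) → F.presheaf.stalk x := fun w => val x w.1 w.2.1 (specializes_iff_mem_closure.2 w.2.2)
    have hg : IsLocallyConstant g := by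
      rw [IsLocallyConstant.iff_exists_open]
      intro w
      refine ⟨Subtype.val ⁻¹' (Wc w.1 : Set X), (Wc w.1).isOpen.preimage continuous_subtype_val, hWc w.1 w.2.1, ?_⟩
      intro w' hw'
      exact hindep w'.1 w'.2.1 (Wc w'.1) (Wc w.1) (hWc w'.1 w'.2.1) hw' (ac _ w'.2.1) (ac _ w.2.1)
        (hgood _ w'.2.1) (hgood _ w.2.1) x (specializes_iff_mem_closure.2 w'.2.2)
    haveI : PreconnectedSpace ↥(Z ∩ closure {x}) := Subtype.preconnectedSpace (hconn x).isPreconnected
    exact hg.apply_eq_of_preconnectedSpace ⟨z, hz, h.mem_closure⟩ ⟨z', hz', h'.mem_closure⟩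
  choose zx hzx hxz using hspec
  let v : ∀ x, F.presheaf.stalk x := fun x => val x (zx x) (hzx x) (hxz x)
  have hv : ∀ x z (hz : z ∈ Z) (h : x ⤳ z) (W : Opens X) (hzW : z ∈ W) (a : F.1.obj (op W)), Good W a →
      v x = F.presheaf.germ W x (h.mem_open W.isOpen hzW) a := by
    intro x z hz h W hzW a ha
    exact (hconst x _ z (hzx x) hz (hxz x) h).trans
      (hindep z hz (Wc z) W (hWc z hz) hzW (ac z hz) a (hgood z hz) ha x h)
  obtain ⟨t, ht⟩ := hZ.isCompact.elim_finite_subcover (fun w : Z => (Wc w.1 : Set X)) (fun w => (Wc w.1).isOpen)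
    (fun z hz => Set.mem_iUnion.2 ⟨⟨z, hz⟩, hWc z hz⟩)
  have hloc : ∀ z ∈ Z, ∃ (O : Opens X) (_ : z ∈ O) (b : F.1.obj (op O)), ∀ y (hy : y ∈ O), v y = F.presheaf.germ O y hy b := by
    intro z hz
    let W := Wc z
    let E : Z → Set X := fun w => {y | ∃ (h₁ : y ∈ W) (h₂ : y ∈ Wc w.1),
      F.presheaf.germ W y h₁ (ac z hz) = F.presheaf.germ (Wc w.1) y h₂ (ac w.1 w.2)}
    have hE : ∀ w, IsOpen (E w) := fun w => isOpen_iff_mem_nhds.2 fun y ⟨h₁, h₂, e⟩ => by
      obtain ⟨N, hyN, i₁, i₂, heN⟩ := TopCat.Presheaf.germ_eq F.presheaf y h₁ h₂ _ _ e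
      refine Filter.mem_of_superset (N.isOpen.mem_nhds hyN) fun y' hy' => ⟨i₁.le hy', i₂.le hy', ?_⟩
      erw [← TopCat.Presheaf.germ_res_apply F.presheaf i₁ y' hy', heN, TopCat.Presheaf.germ_res_apply]
    let D : Z → Set X := fun w => (((W : Set X) ∩ Wc w.1) ∩ (E w)ᶜ) ∩ {y | ∃ k ∈ Z ∩ (Wc w.1 : Set X), y ⤳ k}
    have hD : ∀ w, SpecLib.CC (D w) := by
      intro w
      refine ((SpecLib.cc_of_isOpen_isCompact (W.isOpen.inter (Wc w.1).isOpen) ?_).inter
        (SpecLib.cc_of_isClosed (hE w).isClosed_compl)).inter (cc_gen_of_isCompact ?_)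
      · exact QuasiSeparatedSpace.inter_isCompact _ _ W.isOpen (hWk z hz) (Wc w.1).isOpen (hWk w.1 w.2)
      · exact (hWk w.1 w.2).inter_left hZ
    let O : Opens X := ⟨(W : Set X) ∩ ⋂ w ∈ t, (closure (D w))ᶜ,
      W.isOpen.inter (isOpen_biInter_finset fun w _ => isClosed_closure.isOpen_compl)⟩
    have hzO : z ∈ O := by
      refine ⟨hWc z hz, Set.mem_iInter₂.2 fun w _ hw => ?_⟩
      obtain ⟨y, ⟨⟨⟨hyW, hyl⟩, hyE⟩, k, ⟨hkZ, hkW⟩, hyk⟩, hyz⟩ := (hD w).exists_specializes hw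
      refine hyE ⟨hyW, hyl, ?_⟩
      exact (hv y z hz hyz W (hWc z hz) _ (hgood z hz)).symm.trans
        (hv y k hkZ hyk (Wc w.1) hkW _ (hgood w.1 w.2))
    refine ⟨O, hzO, F.1.map (homOfLE (Set.inter_subset_left : (O : Set X) ⊆ W)).op (ac z hz), fun y hy => ?_⟩
    show v y = F.presheaf.germ O y hy (F.presheaf.map _ (ac z hz))
    erw [TopCat.Presheaf.germ_res_apply]
    obtain ⟨w, hw, hzw⟩ := Set.mem_iUnion₂.1 (ht (hzx y))
    have h1 := hv y (zx y) (hzx y) (hxz y) (Wc w.1) hzw _ (hgood w.1 w.2)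
    by_contra hne
    have hyD : y ∈ D w := ⟨⟨⟨hy.1, (hxz y).mem_open (Wc w.1).isOpen hzw⟩, fun ⟨_, _, e⟩ => hne (h1.trans e.symm)⟩,
      zx y, ⟨hzx y, hzw⟩, hxz y⟩
    exact Set.mem_iInter₂.1 hy.2 w hw (subset_closure hyD)
  choose O hzO b hb using hloc
  have hcov : ⊤ ≤ ⨆ w : Z, O w.1 w.2 := fun y _ => Opens.mem_iSup.2
    ⟨⟨zx y, hzx y⟩, (hxz y).mem_open (O _ (hzx y)).isOpen (hzO _ (hzx y))⟩
  obtain ⟨s, hs, -⟩ := F.existsUnique_gluing' (fun w : Z => O w.1 w.2) ⊤ (fun _ => homOfLE le_top) hcov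
    (fun w => b w.1 w.2) (fun w w' => TopCat.Presheaf.section_ext F _ _ _ fun y hy => by
      show F.presheaf.germ _ y hy (F.presheaf.map _ _) = F.presheaf.germ _ y hy (F.presheaf.map _ _)
      erw [TopCat.Presheaf.germ_res_apply, TopCat.Presheaf.germ_res_apply]
      exact (hb w.1 w.2 y hy.1).symm.trans (hb w'.1 w'.2 y hy.2))
  refine ⟨s, hdet _ _ fun z hz => ?_⟩
  rw [← hnat]
  have e1 : F.presheaf.germ ⊤ z trivial s = v z := by
    rw [hb z hz z (hzO z hz), ← hs ⟨z, hz⟩]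
    exact (TopCat.Presheaf.germ_res_apply F.presheaf (homOfLE le_top) z (hzO z hz) s).symm
  rw [e1, hv z z hz specializes_rfl (Wc z) (hWc z hz) _ (hgood z hz), hnat]
  exact hgood z hz z (hWc z hz) hz

theorem bijective_unit_app_top [SpectralSpace X] (Z : Set X) (hZ : IsClosed Z)
    (hconn : ∀ x : X, _root_.IsConnected (Z ∩ closure {x})) (F : TopCat.Sheaf (Type u) X) :
    Function.Bijective
      (((TopCat.Sheaf.pullbackPushforwardAdjunction (Type u)
        (TopCat.ofHom ⟨(Subtype.val : Z → X), continuous_subtype_val⟩)).unit.app F).hom.app (op ⊤)) := by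
  let i : TopCat.of Z ⟶ X := TopCat.ofHom ⟨(Subtype.val : Z → X), continuous_subtype_val⟩
  have hi : IsClosedEmbedding i := hZ.isClosedEmbedding_subtypeVal
  let adj := TopCat.Sheaf.pullbackPushforwardAdjunction (Type u) i
  refine bijective_app_top_of_connected F _ (adj.unit.app F) Z hZ hconn (fun z hz => ?_) fun s t h => ?_
  · have : IsIso ((TopCat.Sheaf.pullback (Type u) i).map (adj.unit.app F)) := by
      have hc : IsIso (adj.counit.app ((TopCat.Sheaf.pullback (Type u) i).obj F)) :=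
        ShSpLib.isIso_counit hi.isInducing _
      have : IsIso ((TopCat.Sheaf.pullback (Type u) i).map (adj.unit.app F) ≫
          adj.counit.app ((TopCat.Sheaf.pullback (Type u) i).obj F)) := by
        rw [adj.left_triangle_components F]; exact IsIso.id _
      exact IsIso.of_isIso_comp_right _ (adj.counit.app ((TopCat.Sheaf.pullback (Type u) i).obj F))
    have h2 := (NatIso.isIso_map_iff (ShSpLib.pullbackStalkIso i ⟨z, hz⟩) (adj.unit.app F)).1
      ((TopCat.Sheaf.forget (Type u) (TopCat.of Z) ⋙ TopCat.Presheaf.stalkFunctor (Type u) (⟨z, hz⟩ : Z)).map_isIso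
        ((TopCat.Sheaf.pullback (Type u) i).map (adj.unit.app F)))
    exact (isIso_iff_bijective _).1 h2
  · refine TopCat.Presheaf.section_ext ((TopCat.Sheaf.pushforward (Type u) i).obj ((TopCat.Sheaf.pullback (Type u) i).obj F)) ⊤ s t fun x _ => ?_
    by_cases hx : x ∈ Z
    · exact h x hx
    · obtain ⟨u₀⟩ := ShSpLib.nonempty_unique_stalk_pushforward hi ((TopCat.Sheaf.pullback (Type u) i).obj F) x
        (by show x ∉ Set.range (Subtype.val : Z → X); rwa [Subtype.range_coe])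
      exact (u₀.uniq _).trans (u₀.uniq _).symm

end Groth.Agent.PBC50
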